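import Cfsg.Agent.UGT.A7.B.Transfer

/-!
# The β-branch of [A7]: (DP), (E), (C2')
-/

set_option autoImplicit false
set_option linter.unusedSectionVars false

open Cfsg Subgroup Equiv Equiv.Perm
open Cfsg.Agent.UAlt
open Cfsg.Agent.SignalizersComponents Cfsg.Agent.Lib
open Cfsg.Agent.SignalizersComponents.IntrinsicBasic
open Cfsg.Agent.Intrinsic Cfsg.Agent.Intrinsic.Basic Cfsg.Agent.Intrinsic.Cen Cfsg.Agent.Intrinsic.Diag
open Cfsg.Agent.McLLyComp.Act
open Cfsg.Agent.UGT.Triple Cfsg.Agent.UGT.PumpGen Cfsg.Agent.UGT.TriBase Cfsg.Agent.UGT.Iface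
open Cfsg.Agent.UGT.A7.Mu
open scoped commutatorElement

namespace Cfsg.Agent.UGT.A7.B

universe u

variable {G : Type u} [Group G] [Finite G] {a b c l x f s t g h v w y z u e m : G}
  {L N K D D' X Y M₁ : Subgroup G}

/-- a labelling of a diagonal 2-component of type `A₇` -/
theorem isA7_of_cover (hJ : IsA7 K) (hs : K ⊔ core N = N) : IsA7 N := by
  obtain ⟨M⟩ := hJ
  obtain ⟨e, -⟩ := exists_quotEquiv hs
  exact isA7_of_equiv ⟨M⟩ (MulEquiv.refl _) e

/-- an involution of `K` commuting with its conjugate -/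
theorem exists_swap_inv (hK : IsComp X K) (hA : IsA7 K) (hvX : v ∈ X) (hv : v * v = 1)
    (hne : IntrinsicBasic.cj v K ≠ K) :
    ∃ m ∈ K, orderOf m = 2 ∧ m * (v * m * v⁻¹) = (v * m * v⁻¹) * m := by
  obtain ⟨M⟩ := hA
  have hz0 : z0 ∈ alt (Finset.univ : Finset (Fin 7)) := by
    rw [alt_univ, Equiv.Perm.mem_alternatingGroup]
    decide
  obtain ⟨x₀, hx₀, hxx, -, hφ⟩ := M.exists_inv_lift (t := 1) (one_mem _) (n := 0) (one_pow _) hz0
    (by decide) (by rw [M.one, one_mul, mul_one])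
  obtain ⟨m, hm, hmm, hmc, hmv⟩ := exists_comm_swap hK hvX hv hne hx₀ hxx
  refine ⟨m, hm, orderOf_eq_prime (by rw [pow_two, hmm]) ?_, hmv⟩
  rintro rfl
  rw [mul_one] at hmc
  have h1 : x₀⁻¹ = 1 := by
    refine eq_one_of_mem_core_sq hmc ?_
    rw [← mul_inv_rev, hxx, inv_one]
  rw [inv_eq_one.mp h1, M.one] at hφ
  exact absurd hφ (by decide)

/-- the product `m m^e` lies in the diagonal 2-component -/
theorem mul_mem_diag (hm : m ∈ K) (hmX : m ∈ X) (hvX : v ∈ X) (hv : v * v = 1) (hmm : m * m = 1)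
    (hc : m * (v * m * v⁻¹) = (v * m * v⁻¹) * m) : m * (v * m * v⁻¹) ∈ diag X K v := by
  have hvi : v⁻¹ = v := inv_eq_of_mul_eq_one_left hv
  have h1 : v * (m * (v * m * v⁻¹)) * v⁻¹ = m * (v * m * v⁻¹) := by
    calc v * (m * (v * m * v⁻¹)) * v⁻¹ = (v * m * v⁻¹) * ((v * v) * m * (v * v)⁻¹) := by group
      _ = (v * m * v⁻¹) * m := by rw [hv, inv_one, one_mul, mul_one]
      _ = _ := hc.symm
  have h2 : v * m * v⁻¹ * (v * m * v⁻¹) = 1 := by
    calc v * m * v⁻¹ * (v * m * v⁻¹) = v * (m * m) * v⁻¹ := by group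
      _ = 1 := by rw [hmm, mul_one, mul_inv_cancel]
  refine mem_diag (k := m) (n := 1) (mul_mem hmX (mul_mem (mul_mem hvX hmX) (inv_mem hvX)))
    (comm_of_conj h1).symm hm (by rw [inv_mul_cancel]; exact one_mem _) ?_
  rw [pow_one, pow_two]
  calc m * (v * m * v⁻¹) * (m * (v * m * v⁻¹)) = m * ((v * m * v⁻¹) * m) * (v * m * v⁻¹) := by group
    _ = m * (m * (v * m * v⁻¹)) * (v * m * v⁻¹) := by rw [hc]
    _ = (m * m) * (v * m * v⁻¹ * (v * m * v⁻¹)) := by group
    _ = 1 := by rw [hmm, h2, one_mul]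

/-- **(DP)**, with the involution `x = m m^e` -/
theorem dp' (hW : WI G) (hM : Fam f K) (heo : orderOf e = 2)
    (hef : e * f = f * e) (hne : IntrinsicBasic.cj e K ≠ K) (hm : m ∈ K) (hmo : orderOf m = 2)
    (hmc : m * (e * m * e⁻¹) = (e * m * e⁻¹) * m) :
    ∃ N, Fam e N ∧ ((Fixes f N ∧ diag (centralizer ({f} : Set G)) K e ≤ N) ∨
      (IntrinsicBasic.cj f N ≠ N ∧
        diag (centralizer ({f} : Set G)) K e = diag (centralizer ({e} : Set G)) N f)) := by
  have hee := sq_of_order heo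
  have hei : e⁻¹ = e := inv_eq_of_mul_eq_one_left hee
  have hmm := sq_of_order hmo
  have hff := hM.aa
  have heX : e ∈ centralizer ({f} : Set G) := mem_c hef
  have hfE : f ∈ centralizer ({e} : Set G) := mem_c hef.symm
  have hKcomp := hM.comp
  have hK' : Fam f (IntrinsicBasic.cj e K) := hM.cj_mem hef
  obtain ⟨m', hm'⟩ : ∃ m', m' = e * m * e⁻¹ := ⟨_, rfl⟩
  have hm'K : m' ∈ IntrinsicBasic.cj e K := hm' ▸ conj_mem_cj hm
  have hm'o : orderOf m' = 2 := by
    rw [hm', show e * m * e⁻¹ = MulAut.conj e m from rfl, MulEquiv.orderOf_eq]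
    exact hmo
  rw [← hm'] at hmc
  have hmX : m ∈ centralizer ({f} : Set G) := hKcomp.le hm
  obtain ⟨h1, h2, h3, h4, -⟩ := exists_diag hKcomp heX hee hne
  -- `x = m m'`
  have Tm : T7 m f K := hM.t7 hm hmo
  have hfm : Fixes m (IntrinsicBasic.cj e K) := hK'.comp.fixes_of_mem hKcomp hne hm
  obtain ⟨y, hy, hyK, hyf⟩ := transfer' hW Tm hK'.comp hne hK'.a7 hm'K hm'o hmc.symm (Or.inl hfm)
  have hxT : IsTriple (m * m') f K := transfer hW Tm hK'.comp hne hK'.a7 hm'K hm'o hmc.symm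
    (Or.inl hfm)
  obtain ⟨x, hx⟩ : ∃ x, x = m * m' := ⟨_, rfl⟩
  rw [← hx] at hy hxT
  have hxo := hxT.invx
  have hxx := sq_of_order hxo
  have hxd : x ∈ diag (centralizer ({f} : Set G)) K e := by
    rw [hx, hm']
    exact mul_mem_diag hm hmX heX hee hmm (by rw [← hm']; exact hmc)
  have hxe : x * e = e * x := comm_c (h1.le hxd).2
  have hxf : x * f = f * x := comm_c (h1.le hxd).1
  -- the element `g = y y^e`
  obtain ⟨y', hy'⟩ : ∃ y', y' = e * y * e⁻¹ := ⟨_, rfl⟩
  have hy'K : y' ∈ IntrinsicBasic.cj e K := hy' ▸ conj_mem_cj hyK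
  have hy'x : y' ∈ core (centralizer ({x} : Set G)) := hy' ▸ conj_core (mem_c hxe.symm) hy
  have hyF : y ∈ centralizer ({f} : Set G) := hKcomp.le hyK
  have hy'F : y' ∈ centralizer ({f} : Set G) := hK'.comp.le hy'K
  obtain ⟨F, hF⟩ : ∃ F : Subgroup G, ∀ z, z ∈ F ↔ (z ∈ core (centralizer ({x} : Set G)) ∧
      z ∈ centralizer ({f} : Set G)) ∧ Fixes z K ∧ Fixes z (IntrinsicBasic.cj e K) := by
    refine ⟨core (centralizer ({x} : Set G)) ⊓ centralizer ({f} : Set G) ⊓
      (BProd.FixK K ⊓ BProd.FixK (IntrinsicBasic.cj e K)), fun z => ?_⟩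
    rw [mem_inf, mem_inf, mem_inf]
    rfl
  have hFodd : Odd (Nat.card F) := Odd.of_dvd_nat (odd_card_core (centralizer ({x} : Set G)))
    (card_dvd_of_le fun z hz => ((hF z).mp hz).1.1)
  have heF : ∀ z ∈ F, e * z * e⁻¹ ∈ F := by
    intro z hz
    obtain ⟨⟨z1, z2⟩, z3, z4⟩ := (hF z).mp hz
    refine (hF _).mpr ⟨⟨conj_core (mem_c hxe.symm) z1, mul_mem (mul_mem heX z2) (inv_mem heX)⟩, ?_, z3.cj e⟩
    have := z4.cj e
    rwa [← IntrinsicBasic.cj_mul, hee, IntrinsicBasic.cj_one] at this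
  have heN : e ∈ normalizer (F : Set G) := by
    rw [_root_.Subgroup.mem_normalizer_iff]
    intro z
    refine ⟨heF z, fun h => ?_⟩
    have e1 := heF _ h
    have e2 : e * (e * z * e⁻¹) * e⁻¹ = z := by
      calc e * (e * z * e⁻¹) * e⁻¹ = (e * e) * z * (e * e)⁻¹ := by group
        _ = z := by rw [hee, inv_one, one_mul, mul_one]
    rwa [e2] at e1
  have hcommK : ⁅y'⁻¹, y⁻¹⁆ ∈ core K ⊓ core (IntrinsicBasic.cj e K) := by
    have e1 := hK'.comp.comm_le_core hKcomp hne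
    rw [inf_comm] at e1
    exact e1 (commutator_mem_commutator (inv_mem hy'K) (inv_mem hyK))
  have hmem : (y * y')⁻¹ * (e * (y * y') * e⁻¹) ∈ F := by
    have e1 : (y * y')⁻¹ * (e * (y * y') * e⁻¹) = ⁅y'⁻¹, y⁻¹⁆ := by
      have e2 : e * (y * y') * e⁻¹ = y' * y := by
        rw [hy']
        calc e * (y * (e * y * e⁻¹)) * e⁻¹ = (e * y * e⁻¹) * ((e * e) * y * (e * e)⁻¹) := by group
          _ = _ := by rw [hee, inv_one, one_mul, mul_one]
      rw [e2, commutatorElement_def]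
      group
    rw [e1]
    refine (hF _).mpr ⟨⟨?_, ?_⟩, hKcomp.fixes_of_core (hKcomp.core_le_core hcommK.1),
      hK'.comp.fixes_of_core (hKcomp.core_le_core hcommK.1)⟩
    · rw [commutatorElement_def]
      exact mul_mem (mul_mem (mul_mem (inv_mem hy'x) (inv_mem hy)) (inv_mem (inv_mem hy'x)))
        (inv_mem (inv_mem hy))
    · exact hKcomp.le (core_le _ hcommK.1)
  obtain ⟨o, ho, heo'⟩ := Lifting.exists_commute (n := 1) hFodd (by rw [pow_one, pow_two, hee]) heN hmem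
  obtain ⟨⟨o1, o2⟩, o3, o4⟩ := (hF o).mp ho
  obtain ⟨d, hd⟩ : ∃ d, d = y * y' * o := ⟨_, rfl⟩
  have hdx : d ∈ core (centralizer ({x} : Set G)) := hd ▸ mul_mem (mul_mem hy hy'x) o1
  have hdf : d ∈ centralizer ({f} : Set G) := hd ▸ mul_mem (mul_mem hyF hy'F) o2
  have hde : d ∈ centralizer ({e} : Set G) := by rw [hd]; exact mem_c heo'.symm
  have hy'f : Fixes y' K := hKcomp.fixes_of_mem hK'.comp (Ne.symm hne) hy'K
  have hyf' : Fixes y (IntrinsicBasic.cj e K) := hK'.comp.fixes_of_mem hKcomp hne hyK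
  have hdf1 : ¬ Fixes d (diag (centralizer ({f} : Set G)) K e) := by
    intro h
    apply hyf
    have e1 : Fixes d K := by
      refine fixes_of_comm_diag hKcomp heX hee hne hdf ?_ ?_ ?_
      · rw [hd]; exact mul_mem (mul_mem (le_normalizer hyK) hy'f.1) o3.1
      · rw [hd]; exact mul_mem (mul_mem hyf'.1 (le_normalizer hy'K)) o4.1
      · intro m hm
        have := h.2 m hm
        rw [h4] at this
        exact this.2
    have e2 : y = d * o⁻¹ * y'⁻¹ := by rw [hd]; group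
    rw [e2]
    exact fixes_mul (fixes_mul e1 (fixes_inv o3)) (fixes_inv hy'f)
  have h1' := h1
  rw [inf_comm] at h1'
  obtain ⟨N, TN, -, hor⟩ := PumpGen.pump hxo heo hff hef hxe.symm h1' hdx hdf hde hdf1
  have hDA : IsA7 (diag (centralizer ({f} : Set G)) K e) := isA7_diag hM.a7 hKcomp heX hee hne
  have hty := hW x e N TN
  rcases hor with ⟨hfN, hle⟩ | ⟨hnf, heq⟩
  · obtain ⟨M⟩ := hDA
    have hsup := PumpSeven.cover M hle hty
    refine ⟨N, fam_of_triple TN (isA7_of_cover ⟨M⟩ hsup) (hle hxd), Or.inl ⟨?_, hle⟩⟩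
    have e1 : diag (centralizer ({f} : Set G)) K e ≤ centralizer ({f} : Set G) := h1.le.trans inf_le_left
    have e2 := fixes_self' e1
    exact (fixes_iff_of_sup hsup e2.1 hfN).mp e2
  · have hNA : IsA7 N := by
      have key : ∀ J : Subgroup G, J = diag (centralizer ({e} : Set G)) N f → IsA7 J → IsA7 N := by
        rintro J rfl ⟨M⟩
        obtain ⟨M', -⟩ := PumpSeven.diag_case hff hfE TN.comp hnf M hty
        exact ⟨M'⟩
      exact key _ heq hDA
    refine ⟨N, ?_, Or.inr ⟨hnf, heq⟩⟩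
    rw [heq] at hxd
    obtain ⟨n, hn, n', hn', -, hno', hnc, hxn⟩ := split_diag TN.comp hNA hfE hff hnf hxd hxo
    have hNf := isComp_cj_of_mem TN.comp hfE
    have hNA' : IsA7 (IntrinsicBasic.cj f N) := by
      obtain ⟨M⟩ := hNA
      exact ⟨M.cj f⟩
    have T7N : T7 x e N := by
      refine ⟨TN, hNA, n, hn, ?_⟩
      have e1 : x * n⁻¹ = n' := by rw [hxn, hnc, mul_inv_cancel_right]
      rw [e1]
      exact TN.comp.fixes_of_mem hNf (Ne.symm hnf) hn'
    rw [hxn] at T7N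
    exact fam_of_mul hW T7N hNf hnf hNA' hn hn' hno' hnc

/-- **(DP)** -/
theorem dp (hW : WI G) : DP G := by
  intro f e M hM heo hef hne
  have hee := sq_of_order heo
  obtain ⟨m, hm, hmo, hmc⟩ := exists_swap_inv hM.comp hM.a7 (mem_c hef) hee hne
  exact dp' hW hM heo hef hne hm hmo hmc

/-! ### (E) -/

/-- **(E)**: `x` is not `[h, e]`, `e` in the product of the members of `U(x)`, `h ∈ C(x)` -/
theorem not_conj (hxo : orderOf x = 2) (hh : h * x = x * h) (he : e ∈ sSup {K | Fam x K}) :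
    h * e * h⁻¹ ≠ e * x := by
  intro hc
  have h1 : h * e * h⁻¹ ∈ sSup {K | Fam x K} := by
    have e1 : IntrinsicBasic.cj h (sSup {K | Fam x K}) = sSup {K | Fam x K} := by
      apply le_antisymm
      · rw [cj_def, sSup_eq_iSup', Subgroup.map_iSup]
        refine iSup_le fun L => ?_
        rw [← cj_def]
        exact le_iSup_of_le (⟨IntrinsicBasic.cj h L, L.2.cj_mem hh⟩ : {K | Fam x K}) le_rfl
      · rw [cj_def, sSup_eq_iSup', Subgroup.map_iSup]
        refine iSup_le fun L => ?_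
        have hh' : h⁻¹ * x = x * h⁻¹ := by
          rw [inv_mul_eq_iff_eq_mul, ← mul_assoc, hh, mul_inv_cancel_right]
        have e2 : (L : Subgroup G) = IntrinsicBasic.cj h (IntrinsicBasic.cj h⁻¹ L) := by
          rw [← IntrinsicBasic.cj_mul, mul_inv_cancel, IntrinsicBasic.cj_one]
        rw [e2, cj_def]
        exact le_iSup_of_le ⟨IntrinsicBasic.cj h⁻¹ L, L.2.cj_mem hh'⟩ le_rfl
    rw [← e1]
    exact conj_mem_cj he
  have h2 : x ∈ sSup {K | Fam x K} := by
    have e1 : x = e⁻¹ * (h * e * h⁻¹) := by rw [hc]; group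
    have e2 := mul_mem (inv_mem he) h1
    rwa [← e1] at e2
  exact BProd.not_mem hxo (fun K hK => hK.comp) (fun K hK z hz hf => mem_core_of_fixes hK.a7 hz hf) h2

/-! ### (C2') -/

/-- an involution of a diagonal pump-up with members in `FAM` lies in the product of `FAM` -/
theorem diag_mem_sSup (hN : Fam c N) (hA : a * a = 1) (hac : a * c = c * a)
    (hne : IntrinsicBasic.cj a N ≠ N) (he : e ∈ diag (centralizer ({c} : Set G)) N a)
    (heo : orderOf e = 2) : e ∈ sSup {K | Fam c K} := by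
  obtain ⟨n, hn, n', hn', -, -, -, rfl⟩ := split_diag hN.comp hN.a7 (mem_c hac) hA hne he heo
  refine mul_mem ?_ ?_
  · exact (le_sSup (show N ∈ {K | Fam c K} from hN)) hn
  · exact (le_sSup (show IntrinsicBasic.cj a N ∈ {K | Fam c K} from hN.cj_mem hac)) hn'

/-- **(C2')** -/
theorem c2 (hF1 : F1 G) (hWW : WW G) (hDP : DP G) (𝒟 : Set G) (hA : A1 𝒟) (e : G) (heD : e ∈ 𝒟) (f : G)
    (K : Subgroup G) (hM : Fam f K) (hef : e * f = f * e) : IntrinsicBasic.cj e K = K := by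
  by_contra hne
  have heo := hA.inv e heD
  have hee := sq_of_order heo
  have heX : e ∈ centralizer ({f} : Set G) := mem_c hef
  have hfE : f ∈ centralizer ({e} : Set G) := mem_c hef.symm
  obtain ⟨m, hm, hmo, hmc⟩ := exists_swap_inv hM.comp hM.a7 heX hee hne
  have hmm := sq_of_order hmo
  have hmi : m⁻¹ = m := inv_eq_of_mul_eq_one_left hmm
  obtain ⟨N, hN, hor⟩ := hDP f e K hM heo hef hne
  obtain ⟨x, hx⟩ : ∃ x, x = m * (e * m * e⁻¹) := ⟨_, rfl⟩
  have hxd : x ∈ diag (centralizer ({f} : Set G)) K e := by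
    rw [hx]
    exact mul_mem_diag hm (hM.comp.le hm) heX hee hmm hmc
  obtain ⟨h1, -, -, -, -⟩ := exists_diag hM.comp heX hee hne
  have hxe : x * e = e * x := comm_c (h1.le hxd).2
  have hK' : Fam f (IntrinsicBasic.cj e K) := hM.cj_mem hef
  have hm'o : orderOf (e * m * e⁻¹) = 2 := by
    rw [show e * m * e⁻¹ = MulAut.conj e m from rfl, MulEquiv.orderOf_eq]
    exact hmo
  have hxo : orderOf x = 2 := by
    rw [hx]
    exact (hWW f m _ K _ hM hK' (Ne.symm hne) hm (conj_mem_cj hm) hmo hm'o hmc).invx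
  have hmx : m * x = x * m := by
    rw [hx]
    calc m * (m * (e * m * e⁻¹)) = m * ((e * m * e⁻¹) * m) := by rw [hmc]
      _ = _ := by group
  have hemx : m * e * m⁻¹ = e * x := by
    rw [← hxe, hx]
    calc m * e * m⁻¹ = m * e * m := by rw [hmi]
      _ = m * (e * m * e⁻¹) * e := by group
  suffices he : e ∈ sSup {K | Fam x K} from not_conj hxo hmx he hemx
  rcases hor with ⟨hfN, hle⟩ | ⟨hnf, heq⟩
  · obtain ⟨X, hX, heX'⟩ := hA.star e heD N hN x (hle hxd) hxo
    exact (le_sSup (show X ∈ {K | Fam x K} from hX)) heX'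
  · have hff := hM.aa
    rw [heq] at hxd
    obtain ⟨n, hn, n', hn', hno, hno', hnc, hxn⟩ := split_diag hN.comp hN.a7 hfE hff hnf hxd hxo
    have hNf : Fam e (IntrinsicBasic.cj f N) := hN.cj_mem hef.symm
    obtain ⟨X, hX, heX'⟩ := hA.star e heD N hN n hn hno
    obtain ⟨X', hX', hU⟩ := hA.triv e heD N _ hN hNf hnf n hn hno
    have hn'X' : n' ∈ X' := by
      apply hU.le
      exact mem_cen_of_sq hn' hnc.symm (sq_of_order hno')
    have hXX' : X ≠ X' := by
      rintro rfl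
      exact ne_one_of_order heo (eq_one_of_fixes hX.a7 heX' hU.fix hee)
    have hfx : Fixes x X := by
      rw [hxn]
      exact fixes_mul (fixes_self hX.comp.le) (hX.comp.fixes_of_mem hX'.comp hXX' hn'X')
    have hxn' : x * n = n * x := by
      rw [hxn]
      calc n * n' * n = n * (n' * n) := by group
        _ = n * (n * n') := by rw [hnc]
    obtain ⟨N₂, hN₂, hor⟩ := hF1 n x X hX hxo hxn' hfx
    have hecen : e ∈ cen X x := mem_cen_of_sq heX' hxe.symm hee
    rcases hor with h | h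
    · exact (le_sSup (show N₂ ∈ {K | Fam x K} from hN₂)) (h.le hecen)
    · rw [h.eq] at hecen
      exact diag_mem_sSup hN₂ (sq_of_order hno) hxn'.symm h.ne hecen heo

end Cfsg.Agent.UGT.A7.B
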