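import Cfsg.Agent.UGT.A7.B.Lem
import Cfsg.Agent.UGT.A7.WZero
import Cfsg.Agent.UGT.A7.PumpSeven
import Cfsg.Agent.UGT.A7.BProd

/-!
# The β-branch of [A7]: (W), its converse

`transfer`: `T7 x b D`, `D'` another 2-component of `C(b)` of type `A₇`, `u ∈ D'` an involution commuting with `x`,
`x` or `x u` fixes `D'`. Then `T7 (x u) b D`.
-/

set_option autoImplicit false
set_option linter.unusedSectionVars false

open Cfsg Subgroup Equiv Equiv.Perm
open Cfsg.Agent.UAlt
open Cfsg.Agent.SignalizersComponents Cfsg.Agent.Lib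
open Cfsg.Agent.SignalizersComponents.IntrinsicBasic
open Cfsg.Agent.Intrinsic.Basic Cfsg.Agent.Intrinsic.Cen Cfsg.Agent.Intrinsic.Diag
open Cfsg.Agent.McLLyComp.Act
open Cfsg.Agent.StdAlt (V4 four4 mem_four4)
open Cfsg.Agent.UGT.Triple Cfsg.Agent.UGT.PumpGen Cfsg.Agent.UGT.TriBase
open Cfsg.Agent.UGT.A7.Mu
open Cfsg.Agent.StdAlt.Roots (IsRoot)
open scoped commutatorElement

namespace Cfsg.Agent.UGT.A7.B

universe u

variable {G : Type u} [Group G] [Finite G] {a b c l x f s t g v w y z u e : G}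
  {L N K D D' X Y M₁ : Subgroup G}

/-! ### involutions of 2-components of type `A₇` -/

theorem root_φ (M : M7 K) (hv : v ∈ K) (ho : orderOf v = 2) : IsRoot (M.φ v) := by
  have hll := sq_of_order ho
  have h2 := M.sq (le_normalizer hv) hll
  have hne' : M.φ v ≠ 1 := fun h => ne_one_of_order ho (eq_one_of_mem_core_sq ((M.core_iff v hv).mp h) hll)
  have he : M.φ v ∈ alternatingGroup (Fin 7) := by
    have := M.mem_alt v hv
    rwa [alt_univ] at this
  refine ⟨h2, ?_⟩
  have ho : orderOf (M.φ v) = 2 := orderOf_eq_prime (by rw [pow_two, h2]) hne'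
  obtain ⟨n, hn⟩ := Equiv.Perm.cycleType_prime_order (σ := M.φ v) (by rw [ho]; exact Nat.prime_two)
  rw [ho] at hn
  have h3 : (M.φ v).cycleType.sum = 2 * (n + 1) := by
    rw [hn, Multiset.sum_replicate, smul_eq_mul, mul_comm]
  have h4 := Equiv.Perm.sum_cycleType (M.φ v)
  have h5 : (M.φ v).support.card ≤ 7 := by
    have := Finset.card_le_univ (M.φ v).support
    rwa [Fintype.card_fin] at this
  have h6 := Equiv.Perm.sign_of_cycleType (M.φ v)
  rw [Equiv.Perm.mem_alternatingGroup.mp he, h3, hn, Multiset.card_replicate] at h6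
  have h7 : n ≤ 2 := by omega
  interval_cases n
  · exact absurd h6 (by decide)
  · omega
  · exact absurd h6 (by decide)

/-- centre-free quotient -/
theorem mem_core_of_fixes (hK : IsA7 K) (hz : z ∈ K) (hf : Fixes z K) : z ∈ core K := by
  obtain ⟨M⟩ := hK
  exact (M.core_iff z hz).mp ((M.fixes_iff hf.1).mpr hf)

theorem eq_one_of_fixes (hK : IsA7 K) (hz : z ∈ K) (hf : Fixes z K) (hzz : z * z = 1) : z = 1 :=
  eq_one_of_mem_core_sq (mem_core_of_fixes hK hz hf) hzz

/-- every involution of `K` is a commutator of elements of `C_K(v)` -/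
theorem exists_commutator (hK : IsA7 K) (hv : v ∈ K) (ho : orderOf v = 2) :
    ∃ p ∈ K, ∃ q ∈ K, p * v = v * p ∧ q * v = v * q ∧ p * q = v * (q * p) := by
  obtain ⟨M⟩ := hK
  have hvv := sq_of_order ho
  have hz0 : z0 ∈ alt (Finset.univ : Finset (Fin 7)) := by
    rw [alt_univ, Equiv.Perm.mem_alternatingGroup]
    decide
  obtain ⟨z, hz, hzz, -, hφz⟩ := M.exists_inv_lift (t := 1) (one_mem _) (n := 0) (one_pow _) hz0
    (by decide) (by rw [M.one, one_mul, mul_one])
  have hz1 : z ≠ 1 := by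
    rintro rfl
    rw [M.one] at hφz
    exact absurd hφz (by decide)
  have hzp : IsPGroup 2 (zpowers z) := BalanceAux.isPGroup_zpowers_of_orderOf (by
    rw [orderOf_eq_prime (by rw [pow_two, hzz]) hz1])
  obtain ⟨Q, h1, -, h3, h4, h5, h6⟩ := M.exists_group_lift hzp (by
      rw [zpowers_le]; exact le_normalizer hz) (Q₀ := P0) (isPGroup_W0.to_le inf_le_left) (by
      intro σ hσ
      rw [alt_univ]
      exact hσ.2) (by
      intro p hp σ hσ
      obtain ⟨n, rfl⟩ := mem_zpowers_iff.mp hp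
      have e1 : Commute (M.φ z) σ := by
        rw [hφz]
        exact (z0_central (mem_P0.1 hσ).1).symm
      have e2 : M.φ (z ^ n) = M.φ z ^ n := by
        exact map_zpow M.hom (⟨z, le_normalizer hz⟩ : ↥(normalizer (K : Set G))) n
      rw [e2]
      exact (e1.zpow_left n))
  obtain ⟨p, hp, hφp⟩ := h5 (swap 0 2 * swap 1 3) (by
    rw [mem_P0, mem_W0]
    exact ⟨⟨by decide, by decide⟩, by decide⟩)
  obtain ⟨q, hq, hφq⟩ := h5 (swap 0 1 * swap 4 5) (by
    rw [mem_P0, mem_W0]
    exact ⟨⟨by decide, by decide⟩, by decide⟩)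
  have hpN := le_normalizer (H := K) (h1 hp)
  have hqN := le_normalizer (H := K) (h1 hq)
  have hpz : p * z = z * p := h3 p hp z (mem_zpowers z)
  have hqz : q * z = z * q := h3 q hq z (mem_zpowers z)
  -- `p q = z q p`
  have hr : p * q * (q * p)⁻¹ ∈ Q := mul_mem (mul_mem hp hq) (inv_mem (mul_mem hq hp))
  have hrN := le_normalizer (H := K) (h1 hr)
  have hφr : M.φ (p * q * (q * p)⁻¹) = z0 := by
    rw [M.mul _ _ (mul_mem hpN hqN) (inv_mem (mul_mem hqN hpN)), M.mul _ _ hpN hqN,
      M.inv (mul_mem hqN hpN), M.mul _ _ hqN hpN, hφp, hφq]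
    decide
  have hrr : p * q * (q * p)⁻¹ * (p * q * (q * p)⁻¹) = 1 := by
    apply h6 _ (mul_mem hr hr)
    rw [M.mul _ _ hrN hrN, hφr]
    decide
  have hrz : p * q * (q * p)⁻¹ * z = z * (p * q * (q * p)⁻¹) := h3 _ hr z (mem_zpowers z)
  have hreq : p * q * (q * p)⁻¹ = z := by
    have e1 : p * q * (q * p)⁻¹ * z = 1 := by
      refine eq_one_of_mem_core_sq (K := K) ?_ ?_
      · rw [← M.core_iff _ (mul_mem (h1 hr) hz), M.mul _ _ hrN (le_normalizer hz), hφr, hφz]
        decide
      · calc p * q * (q * p)⁻¹ * z * (p * q * (q * p)⁻¹ * z)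
            = p * q * (q * p)⁻¹ * (z * (p * q * (q * p)⁻¹)) * z := by group
          _ = p * q * (q * p)⁻¹ * (p * q * (q * p)⁻¹ * z) * z := by rw [hrz]
          _ = (p * q * (q * p)⁻¹ * (p * q * (q * p)⁻¹)) * (z * z) := by group
          _ = 1 := by rw [hrr, hzz, one_mul]
    rw [mul_eq_one_iff_eq_inv.mp e1]
    exact inv_eq_of_mul_eq_one_left hzz
  obtain ⟨k, hk, hkz⟩ := exists_conj_inv ⟨M⟩ hz hv hzz hvv hz1 (ne_one_of_order ho)
  refine ⟨k * p * k⁻¹, mul_mem (mul_mem hk (h1 hp)) (inv_mem hk), k * q * k⁻¹,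
    mul_mem (mul_mem hk (h1 hq)) (inv_mem hk), ?_, ?_, ?_⟩
  · rw [← hkz]
    calc k * p * k⁻¹ * (k * z * k⁻¹) = k * (p * z) * k⁻¹ := by group
      _ = k * (z * p) * k⁻¹ := by rw [hpz]
      _ = _ := by group
  · rw [← hkz]
    calc k * q * k⁻¹ * (k * z * k⁻¹) = k * (q * z) * k⁻¹ := by group
      _ = k * (z * q) * k⁻¹ := by rw [hqz]
      _ = _ := by group
  · rw [← hkz]
    have e1 : p * q = z * (q * p) := by rw [← hreq]; group
    calc k * p * k⁻¹ * (k * q * k⁻¹) = k * (p * q) * k⁻¹ := by group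
      _ = k * (z * (q * p)) * k⁻¹ := by rw [e1]
      _ = _ := by group

/-! ### diagonal 2-components -/

/-- the diagonal 2-component does not fix `K` -/
theorem diag_not_fixes (hK : IsComp X K) (hvX : v ∈ X) (hv : v * v = 1)
    (hne : IntrinsicBasic.cj v K ≠ K) : ¬ ∀ m ∈ diag X K v, Fixes m K := by
  intro h
  apply hK.not_fixes
  intro k hk
  obtain ⟨h1, -, h3, -⟩ := exists_diag hK hvX hv hne
  obtain ⟨m, hm, hmk⟩ := h3 k hk
  have h4 := fixes_inv_mul hK hvX hne hk (h1.le hm).1 hmk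
  have h5 : k = m * (k⁻¹ * m)⁻¹ := by group
  rw [h5]
  exact fixes_mul (h m hm) (fixes_inv h4)

/-- `cj v K` is not fixed either -/
theorem diag_not_fixes' (hK : IsComp X K) (hvX : v ∈ X) (hv : v * v = 1)
    (hne : IntrinsicBasic.cj v K ≠ K) : ¬ ∀ m ∈ diag X K v, Fixes m (IntrinsicBasic.cj v K) := by
  intro h
  apply diag_not_fixes hK hvX hv hne
  intro m hm
  have h1 := (h m hm).cj v
  rw [← IntrinsicBasic.cj_mul, hv, IntrinsicBasic.cj_one] at h1
  have h2 : m * v = v * m := comm_c ((exists_diag hK hvX hv hne).1.le hm).2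
  rwa [← h2, mul_inv_cancel_right] at h1

/-- an involution of the diagonal 2-component is a product of involutions of the factors -/
theorem split_diag (hK : IsComp X K) (hA : IsA7 K) (hvX : v ∈ X) (hv : v * v = 1)
    (hne : IntrinsicBasic.cj v K ≠ K) (hx : x ∈ diag X K v) (ho : orderOf x = 2) :
    ∃ n ∈ K, ∃ n' ∈ IntrinsicBasic.cj v K, orderOf n = 2 ∧ orderOf n' = 2 ∧ n * n' = n' * n ∧
      x = n * n' := by
  obtain ⟨h1, h2, -, -⟩ := exists_diag hK hvX hv hne
  have hxX : x ∈ X := (h1.le hx).1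
  have hxv : x * v = v * x := comm_c (h1.le hx).2
  have hxx := sq_of_order ho
  have hx1 := ne_one_of_order ho
  have hK' := isComp_cj_of_mem hK hvX
  obtain ⟨k, hk, hxk⟩ := h2 x hx
  have h3 := fixes_inv_mul hK hvX hne hk hxX hxk
  have hxN : x ∈ normalizer (K : Set G) := by
    have := mul_mem (le_normalizer hk) h3.1
    rwa [mul_inv_cancel_left] at this
  have hA' := hA
  obtain ⟨M⟩ := hA
  have hφ : M.φ x = M.φ k := by
    have e1 := (M.fixes_iff h3.1).mpr h3
    rw [M.mul _ _ (inv_mem (le_normalizer hk)) hxN, M.inv (le_normalizer hk), inv_mul_eq_one] at e1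
    exact e1.symm
  obtain ⟨n, hn, hnn, hxn, hφn⟩ := M.exists_inv_lift hxN (n := 1) (by rw [pow_one, pow_two, hxx])
    (σ := M.φ x) (by rw [hφ]; exact M.mem_alt k hk) (M.sq hxN hxx) rfl
  have hni : n⁻¹ = n := inv_eq_of_mul_eq_one_left hnn
  have hn'n' : (n * x) * (n * x) = 1 := by
    calc (n * x) * (n * x) = n * (x * n) * x := by group
      _ = n * (n * x) * x := by rw [hxn]
      _ = (n * n) * (x * x) := by group
      _ = 1 := by rw [hnn, hxx, one_mul]
  -- no element `≠ 1` of order 2 in both factors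
  have hno : ¬ (x ∈ K ∧ x ∈ IntrinsicBasic.cj v K) := by
    rintro ⟨e1, e2⟩
    exact hx1 (eq_one_of_fixes hA' e1 (hK.fixes_of_mem hK' (Ne.symm hne) e2) hxx)
  have hcj : ∀ {y : G}, y * v = v * y → y ∈ K → y ∈ IntrinsicBasic.cj v K := by
    intro y hy h
    have := conj_mem_cj (g := v) h
    rwa [← hy, mul_inv_cancel_right] at this
  have hcj' : ∀ {y : G}, y * v = v * y → y ∈ IntrinsicBasic.cj v K → y ∈ K := by
    intro y hy h
    have := mem_cj.mp h
    have e1 : v⁻¹ * y * v = y := by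
      rw [mul_assoc, hy, inv_mul_cancel_left]
    rwa [e1] at this
  have hk' : v * k * v⁻¹ ∈ IntrinsicBasic.cj v K := conj_mem_cj hk
  have hmem : n * x ∈ IntrinsicBasic.cj v K := by
    refine hK'.mem_of_two (n := 1) hk' ?_ (by rw [pow_one, pow_two]; exact hn'n')
    have e1 : n⁻¹ * k ∈ core X := hK.core_le_core ((M.eq_iff hn hk).mp (by rw [hφn, hφ]))
    have e2 : (v * k * v⁻¹)⁻¹ * (n⁻¹ * k) * (v * k * v⁻¹)⁻¹⁻¹ ∈ core X :=
      conj_core (inv_mem (hK'.le hk')) e1
    have e3 : (v * k * v⁻¹)⁻¹ * (n * x) = ((v * k * v⁻¹)⁻¹ * (n⁻¹ * k) * (v * k * v⁻¹)⁻¹⁻¹) *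
        (x⁻¹ * (k * (v * k * v⁻¹)))⁻¹ := by
      nth_rewrite 1 [← hni]
      group
    rw [e3]
    exact mul_mem e2 (inv_mem hxk)
  refine ⟨n, hn, n * x, hmem, orderOf_eq_prime (by rw [pow_two, hnn]) ?_,
    orderOf_eq_prime (by rw [pow_two, hn'n']) ?_, ?_, ?_⟩
  · rintro rfl
    rw [one_mul] at hmem
    exact hno ⟨hcj' hxv hmem, hmem⟩
  · intro h
    have e1 : x = n := by rw [← mul_eq_one_iff_inv_eq.mp h, hni]
    have e2 : x ∈ K := by rw [e1]; exact hn
    exact hno ⟨e2, hcj hxv e2⟩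
  · calc n * (n * x) = n * (x * n) := by rw [hxn]
      _ = _ := by group
  · rw [← mul_assoc, hnn, one_mul]

/-! ### (1): no diagonal pump-up in `C(b v)`, `v ∈ D'` -/

theorem comm_prod {g h k : G} (h1 : g * h = h * g) (h2 : g * k = k * g) : g * (h * k) = h * k * g := by
  rw [← mul_assoc, h1, mul_assoc, h2, mul_assoc]

theorem prod_comm {g h k : G} (h1 : g * k = k * g) (h2 : h * k = k * h) : g * h * k = k * (g * h) := by
  rw [mul_assoc, h2, ← mul_assoc, h1, mul_assoc]

theorem comm_of_comp {b k : G} {K : Subgroup G} (hK : IsComp (centralizer ({b} : Set G)) K) (hk : k ∈ K) :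
    k * b = b * k := comm_c (hK.le hk)

theorem cj_self {w : G} (hN : IsComp (centralizer ({w} : Set G)) N) : IntrinsicBasic.cj w N = N :=
  mem_normalizer_iff_cj.mp (fixes_self hN.le).1

theorem no_diag_mul (hD : IsComp (centralizer ({b} : Set G)) D)
    (hD' : IsComp (centralizer ({b} : Set G)) D') (hne : D' ≠ D) (hA : IsA7 D') (hbb : b * b = 1)
    (hv : v ∈ D') (ho : orderOf v = 2) (hN : IsComp (centralizer ({b * v} : Set G)) N)
    (hU : DiagUp b (b * v) D N) : False := by
  obtain ⟨p, hp, q, hq, hpv, hqv, hpq⟩ := exists_commutator hA hv ho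
  have hvb := comm_of_comp hD' hv
  have hpb := comm_of_comp hD' hp
  have hqb := comm_of_comp hD' hq
  have hwb : b * v * b = b * (b * v) := by rw [mul_assoc, hvb]
  have key : ∀ e : G, e ∈ D' → e * v = v * e → e * b = b * e →
      IntrinsicBasic.cj e N = N ∨ IntrinsicBasic.cj e N = IntrinsicBasic.cj b N := by
    intro e he hev heb
    exact cj_or hbb hwb hN hU.ne hU.eq (hD.fixes_of_mem hD' (Ne.symm hne) he).1 (comm_prod heb hev) heb
  have hpc : ∀ e : G, e * b = b * e → IntrinsicBasic.cj e (IntrinsicBasic.cj b N) =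
      IntrinsicBasic.cj b (IntrinsicBasic.cj e N) := by
    intro e he
    rw [← IntrinsicBasic.cj_mul, he, IntrinsicBasic.cj_mul]
  have hb2 : IntrinsicBasic.cj b (IntrinsicBasic.cj b N) = N := by
    rw [← IntrinsicBasic.cj_mul, hbb, IntrinsicBasic.cj_one]
  -- `p q` and `q p` act in the same way
  have h1 : IntrinsicBasic.cj (p * q) N = IntrinsicBasic.cj (q * p) N := by
    rw [IntrinsicBasic.cj_mul, IntrinsicBasic.cj_mul]
    rcases key p hp hpv hpb with e1 | e1 <;> rcases key q hq hqv hqb with e2 | e2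
    · rw [e2, e1, e2]
    · rw [e2, hpc p hpb, e1, e2]
    · rw [e2, e1, hpc q hqb, e2]
    · rw [e2, hpc p hpb, e1, hpc q hqb, e2]
  have h2 : IntrinsicBasic.cj v (IntrinsicBasic.cj (q * p) N) = IntrinsicBasic.cj (q * p) N := by
    rw [← IntrinsicBasic.cj_mul, ← hpq, h1]
  have h3 : IntrinsicBasic.cj (q * p) N = N ∨ IntrinsicBasic.cj (q * p) N = IntrinsicBasic.cj b N := by
    rw [IntrinsicBasic.cj_mul]
    rcases key p hp hpv hpb with e1 | e1 <;> rcases key q hq hqv hqb with e2 | e2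
    · left; rw [e1, e2]
    · right; rw [e1, e2]
    · right; rw [e1, hpc q hqb, e2]
    · left; rw [e1, hpc q hqb, e2, hb2]
  have h4 : IntrinsicBasic.cj v N = N := by
    rcases h3 with e1 | e1
    · rw [e1] at h2
      exact h2
    · rw [e1, hpc v hvb] at h2
      exact cj_injective b h2
  -- `b v` normalizes `N`
  have h5 : IntrinsicBasic.cj (b * v) N = N := cj_self hN
  rw [IntrinsicBasic.cj_mul, h4] at h5
  exact hU.ne h5

/-! ### (3) -/

theorem b_notin (hD' : IsComp (centralizer ({b} : Set G)) D') (hA : IsA7 D') (hbb : b * b = 1)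
    (hb1 : b ≠ 1) : b ∉ D' := fun h => hb1 (eq_one_of_fixes hA h (fixes_self hD'.le) hbb)

theorem swap_false (hP : Mu.Pump7 G) (T : T7 x b D) (hD' : IsComp (centralizer ({b} : Set G)) D')
    (hne : D' ≠ D) (hA : IsA7 D') (hw : w ∈ D') (hwo : orderOf w = 2) (hu : u ∈ D')
    (huo : orderOf u = 2) (hwu : w * u = u * w) (hux : u * x = x * u)
    (hN : IsComp (centralizer ({w} : Set G)) N) (hU : DiagUp b w D N)
    (hsw : IntrinsicBasic.cj u N = IntrinsicBasic.cj b N) : False := by
  have hbb := T.aa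
  have hb1 := ne_one_of_order T.tri.inva
  have hww := sq_of_order hwo
  have huu := sq_of_order huo
  have hwb := comm_of_comp hD' hw
  have hub := comm_of_comp hD' hu
  have hDcomp := T.tri.comp
  have hwD : Fixes w D := hDcomp.fixes_of_mem hD' (Ne.symm hne) hw
  have huD : Fixes u D := hDcomp.fixes_of_mem hD' (Ne.symm hne) hu
  obtain ⟨s, hs⟩ : ∃ s, s = b * u := ⟨_, rfl⟩
  have hss : s * s = 1 := by
    rw [hs]
    calc b * u * (b * u) = b * (u * b) * u := by group
      _ = b * (b * u) * u := by rw [hub]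
      _ = (b * b) * (u * u) := by group
      _ = 1 := by rw [hbb, huu, one_mul]
  have hs1 : s ≠ 1 := by
    intro h
    rw [hs] at h
    have e1 : b = u := by
      rw [mul_eq_one_iff_eq_inv.mp h]
      exact inv_eq_of_mul_eq_one_left huu
    exact b_notin hD' hA hbb hb1 (e1 ▸ hu)
  have hso : orderOf s = 2 := orderOf_eq_prime (by rw [pow_two, hss]) hs1
  have hsb : s * b = b * s := by rw [hs]; exact prod_comm rfl hub
  have hsx : s * x = x * s := by rw [hs]; exact prod_comm T.ax hux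
  have hsw' : s * w = w * s := by rw [hs]; exact prod_comm hwb.symm hwu.symm
  have hsD : Fixes s D := by rw [hs]; exact fixes_mul T.fixes_a huD
  -- the pump-up in `C(s)`
  obtain ⟨N₁, T₁, hor⟩ := T.pump hP hso hsb hsx hsD
  rcases hor with ⟨h1, h2⟩ | ⟨h1, h2⟩
  swap
  · rw [hs] at T₁ h2
    exact no_diag_mul hDcomp hD' hne hA hbb hu huo T₁.tri.comp ⟨h1, h2⟩
  have hwN₁ : Fixes w N₁ := h2 w hwD hsw'.symm
  obtain ⟨a1, a2⟩ := isComp_cen T₁.tri.comp (mem_c hsw'.symm) hww hwN₁
  -- `s` fixes `N` and `N^b`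
  have hbC : b ∈ centralizer ({w} : Set G) := mem_c hwb.symm
  have hsC : s ∈ centralizer ({w} : Set G) := mem_c hsw'
  have hNb := isComp_cj_of_mem hN hbC
  have hsN : s ∈ normalizer (N : Set G) := by
    rw [mem_normalizer_iff_cj, hs, IntrinsicBasic.cj_mul, hsw, ← IntrinsicBasic.cj_mul, hbb,
      IntrinsicBasic.cj_one]
  have hsf : Fixes s N := fixes_of_diag hDcomp hbb hww hwb hwD hN hU.ne hU.eq hsD hsw' hsb hsN
  have hsf' : Fixes s (IntrinsicBasic.cj b N) := by
    have := hsf.cj b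
    rwa [conj_of_comm hsb.symm] at this
  -- the group `cen D w`
  obtain ⟨k1, k2⟩ := isComp_cen hDcomp (mem_c hwb) hww hwD
  have hsK : Fixes s (cen D w) := fixes_of_cover' k2 hsD (mem_normalizer_cen hsD.1 hsw')
  obtain ⟨k3, k4⟩ := isComp_cen k1 ⟨mem_c hsb, hsC⟩ hss hsK
  have hle : cen (cen D w) s ≤ cen N₁ w := by
    have e1 : cen (cen D w) s ≤ cen D s := by
      unfold cen
      exact PComponents.pElem_mono (inf_le_inf_right _ ((PComponents.pElem_le _).trans inf_le_left))
    have e2 : cen D s ≤ N₁ := by rw [← h1]; exact le_sup_left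
    have e3 : cen (cen D w) s ≤ centralizer ({w} : Set G) :=
      (cen_le _ _).trans (cen_le_centralizer D w)
    rw [← k3.pElem_eq]
    exact PComponents.pElem_mono (le_inf (e1.trans e2) e3)
  have key : ∀ N' : Subgroup G, IsComp (centralizer ({w} : Set G)) N' → Fixes s N' →
      (¬ ∀ m ∈ diag (centralizer ({w} : Set G)) N b, Fixes m N') → cen N₁ w ≤ N' := by
    intro N' hN' hsN' hd
    obtain ⟨b1, b2⟩ := isComp_cen hN' hsC hss hsN'
    have b1' := b1
    rw [inf_comm] at b1'
    by_cases heq : cen N' s = cen N₁ w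
    · rw [← heq]; exact cen_le N' s
    · exfalso
      apply hd
      have c1 : ∀ m ∈ cen N₁ w, Fixes m N' := by
        intro m hm
        exact fixes_of_cover hN' b1 b2 ((a1.le hm).2) (b1'.fixes_of_mem a1 heq hm)
      have c2 : cen D w ≤ BProd.FixK N' := by
        rw [← k4]
        refine sup_le (fun m hm => c1 m (hle hm)) fun m hm => ?_
        obtain ⟨-, -, -, d4, -⟩ := exists_diag hN hbC hbb hU.ne
        rw [hU.eq, d4] at hm
        exact hN'.fixes_of_core hm.2
      intro m hm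
      rw [← hU.eq] at hm
      exact c2 hm
  have e1 := key N hN hsf (diag_not_fixes hN hbC hbb hU.ne)
  have e2 := key _ hNb hsf' (diag_not_fixes' hN hbC hbb hU.ne)
  exact hU.ne (a1.unique hNb hN e2 e1)

/-! ### the transfer -/

/-- `v` acts on `N / O(N) ≅ A₇` as an inner involution -/
def Inn (v : G) (N : Subgroup G) : Prop := IsA7 N ∧ ¬ Fixes v N ∧ ∃ r ∈ N, Fixes (v * r⁻¹) N

theorem Inn.cj {N : Subgroup G} (h : Inn v N) (hb : b * v = v * b) : Inn v (IntrinsicBasic.cj b N) := by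
  obtain ⟨⟨M⟩, h2, r, hr, h3⟩ := h
  refine ⟨⟨M.cj b⟩, fun h => h2 ?_, b * r * b⁻¹, conj_mem_cj hr, ?_⟩
  · have h1 := h.cj b⁻¹
    rw [IntrinsicBasic.cj_inv_cj, inv_inv] at h1
    have h4 : b⁻¹ * v * b = v := by rw [mul_assoc, ← hb, inv_mul_cancel_left]
    rwa [h4] at h1
  · have h1 := h3.cj b
    have h4 : b * (v * r⁻¹) * b⁻¹ = v * (b * r * b⁻¹)⁻¹ := by
      calc b * (v * r⁻¹) * b⁻¹ = (b * v) * r⁻¹ * b⁻¹ := by group
        _ = (v * b) * r⁻¹ * b⁻¹ := by rw [hb]
        _ = _ := by group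
    rwa [h4] at h1

theorem Inn.mul {N : Subgroup G} (T : T7 x c N) (hu : Fixes u N) : Inn (x * u) N := by
  refine ⟨T.a7, fun h => T.tri.not_fixes ?_, ?_⟩
  · have := fixes_mul h (fixes_inv hu)
    rwa [mul_inv_cancel_right] at this
  · obtain ⟨r, hr, hf⟩ := T.inn
    refine ⟨r, hr, ?_⟩
    have h1 : x * u * r⁻¹ = (x * r⁻¹) * (r * u * r⁻¹) := by group
    rw [h1]
    exact fixes_mul hf (fixes_conj hu (le_normalizer hr))

/-- pump-ups of `T` in `C(w)`, `w ∈ ⟨b⟩ × V` -/
theorem inn_of_pump (hP : Mu.Pump7 G) (T : T7 x b D) (hD' : IsComp (centralizer ({b} : Set G)) D')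
    (hne : D' ≠ D) (hA : IsA7 D') (hu : u ∈ D') (huo : orderOf u = 2) (hux : u * x = x * u)
    {w₀ : G} (hw₀ : w₀ ∈ D') (hww₀ : w₀ * w₀ = 1) (hwu : w₀ * u = u * w₀)
    (hw : w = w₀ ∨ w = b * w₀) (hw1 : w ≠ 1) (hwx : w * x = x * w) (hwD : Fixes w D)
    (hy : y ∈ cen D w) {N' : Subgroup G} (hN' : IsComp (centralizer ({w} : Set G)) N')
    (hf : ¬ Fixes y N') : Inn (x * u) N' := by
  have hbb := T.aa
  have hb1 := ne_one_of_order T.tri.inva
  have hwb₀ := comm_of_comp hD' hw₀
  have hub := comm_of_comp hD' hu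
  have hww : w * w = 1 := by
    rcases hw with rfl | rfl
    · exact hww₀
    · calc b * w₀ * (b * w₀) = b * (w₀ * b) * w₀ := by group
        _ = b * (b * w₀) * w₀ := by rw [hwb₀]
        _ = (b * b) * (w₀ * w₀) := by group
        _ = 1 := by rw [hbb, hww₀, one_mul]
  have hwo : orderOf w = 2 := orderOf_eq_prime (by rw [pow_two, hww]) hw1
  have hwb : w * b = b * w := by
    rcases hw with rfl | rfl
    · exact hwb₀
    · exact prod_comm rfl hwb₀
  have huw : u * w = w * u := by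
    rcases hw with rfl | rfl
    · exact hwu.symm
    · exact comm_prod hub hwu.symm
  have huD : Fixes u D := T.tri.comp.fixes_of_mem hD' (Ne.symm hne) hu
  have hbv : b * (x * u) = x * u * b := comm_prod T.ax hub.symm
  obtain ⟨N, TN, hor⟩ := T.pump hP hwo hwb hwx hwD
  have hNcomp := TN.tri.comp
  rcases hor with ⟨h1, h2⟩ | ⟨h1, h2⟩
  · have hU : TrivUp b w D N := ⟨h2 b T.fixes_a hwb.symm, by rw [← h1]; exact le_sup_left, h1⟩
    rcases Up.moved (Or.inl hU) hbb hwb.symm hNcomp hN' hy hf with rfl | ⟨h3, -⟩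
    · exact Inn.mul TN (h2 u huD huw)
    · exfalso
      exact h3.ne (mem_normalizer_iff_cj.mp hU.fix.1)
  · have hU : DiagUp b w D N := ⟨h1, h2⟩
    have huN : u ∈ normalizer (N : Set G) := by
      rw [mem_normalizer_iff_cj]
      rcases cj_or hbb hwb hNcomp hU.ne hU.eq huD.1 huw hub with e1 | e1
      · exact e1
      · exfalso
        rcases hw with hw | hw
        · have hwo' : orderOf w₀ = 2 := by rw [← hw]; exact hwo
          rw [hw] at hNcomp hU
          exact swap_false hP T hD' hne hA hw₀ hwo' hu huo hwu hux hNcomp hU e1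
        · by_cases hw₀1 : w₀ = 1
          · rw [hw₀1, mul_one] at hw
            rw [hw] at hNcomp
            exact h1 (cj_self hNcomp)
          · have hwo' : orderOf w₀ = 2 := orderOf_eq_prime (by rw [pow_two, hww₀]) hw₀1
            rw [hw] at hNcomp hU
            exact no_diag_mul T.tri.comp hD' hne hA hbb hw₀ hwo' hNcomp hU
    have huf : Fixes u N := fixes_of_diag T.tri.comp hbb hww hwb hwD hNcomp hU.ne hU.eq huD huw hub huN
    have hI := Inn.mul TN huf
    rcases Up.moved (Or.inr hU) hbb hwb.symm hNcomp hN' hy hf with rfl | ⟨-, rfl⟩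
    · exact hI
    · exact hI.cj hbv

/-- pump-ups in a world of types `A₇`, `PSL₂(q)` -/
theorem muPump_of (hW : WI G) : Mu.Pump7 G := by
  rintro x a c L T hc hca hcx hcL
  obtain ⟨M⟩ := T.a7
  obtain ⟨N, M', h1, -, h2⟩ := PumpSeven.pump7 hW M T.tri hc hca hcx hcL
  refine ⟨N, h1, ⟨M'⟩, ?_⟩
  rcases h2 with ⟨h3, h4⟩ | h3
  · exact Or.inl ⟨h3.1, h4⟩
  · exact Or.inr h3

/-- a four-group of `D'` containing the involution `u` and commuting with `x`, `x` or `x u` fixing `D'` -/
theorem exists_four_u (hA : IsA7 D') (hu : u ∈ D') (huo : orderOf u = 2) (hxx : x * x = 1)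
    (hux : u * x = x * u) (hfx : Fixes x D' ∨ Fixes (x * u) D') : ∃ V : Subgroup G, V ≤ D' ∧
      Nat.card V = 4 ∧ (∀ v ∈ V, v * v = 1) ∧ u ∈ V ∧ ∀ v ∈ V, v * x = x * v := by
  obtain ⟨M⟩ := hA
  have huu := sq_of_order huo
  have huN := le_normalizer (H := D') hu
  have hroot := root_φ M hu huo
  have hxN : x ∈ normalizer (D' : Set G) := by
    rcases hfx with h | h
    · exact h.1
    · have := mul_mem h.1 (inv_mem huN)
      rwa [mul_inv_cancel_right] at this
  have hφx : M.φ x = 1 ∨ M.φ x = M.φ u := by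
    rcases hfx with h | h
    · exact Or.inl ((M.fixes_iff hxN).mpr h)
    · right
      have h1 := (M.fixes_iff h.1).mpr h
      rw [M.mul _ _ hxN huN] at h1
      rw [mul_eq_one_iff_eq_inv.mp h1]
      exact inv_eq_of_mul_eq_one_left hroot.1
  obtain ⟨p1, p2, p3, p4, hnd, hT⟩ := exists_nodup hroot.2
  have hV4u : V4 p1 p2 p3 p4 (M.φ u) := by
    rw [V4_iff hnd, ← hT]
    refine ⟨⟨hroot.mem_alternatingGroup, fun i hi => ?_⟩, hroot.1⟩
    rwa [Equiv.Perm.mem_support, not_not] at hi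
  -- the 2-group `⟨x, u⟩`
  obtain ⟨P, hxP, huP, hP, hPN, hPφ⟩ : ∃ P : Subgroup G, x ∈ P ∧ u ∈ P ∧ IsPGroup 2 P ∧
      P ≤ normalizer (D' : Set G) ∧ ∀ p ∈ P, M.φ p = 1 ∨ M.φ p = M.φ u := by
    let P : Subgroup G := closure {x, u}
    have hPc : ∀ p ∈ P, p * p = 1 ∧ (∀ q ∈ P, p * q = q * p) ∧ p ∈ normalizer (D' : Set G) ∧
        (M.φ p = 1 ∨ M.φ p = M.φ u) := by
      have hcomm : ∀ p ∈ P, ∀ q ∈ P, p * q = q * p := by
        have hc : IsMulCommutative P := isMulCommutative_closure (by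
          rintro a (rfl | ha) b (rfl | hb)
          · rfl
          · rw [Set.mem_singleton_iff] at hb; rw [hb]; exact hux.symm
          · rw [Set.mem_singleton_iff] at ha; rw [ha]; exact hux
          · rw [Set.mem_singleton_iff] at ha hb; rw [ha, hb])
        intro p hp q hq
        exact congrArg Subtype.val (mul_comm' (⟨p, hp⟩ : P) ⟨q, hq⟩)
      intro p hp
      refine ⟨?_, hcomm p hp, ?_, ?_⟩
      · refine closure_induction (p := fun p _ => p * p = 1) ?_ (mul_one _) ?_ ?_ hp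
        · rintro a (rfl | ha)
          · exact hxx
          · rw [Set.mem_singleton_iff] at ha; rw [ha]; exact huu
        · intro a b ha hb h1 h2
          calc a * b * (a * b) = a * (b * a) * b := by group
            _ = a * (a * b) * b := by rw [hcomm b hb a ha]
            _ = (a * a) * (b * b) := by group
            _ = 1 := by rw [h1, h2, one_mul]
        · intro a _ h1
          rw [← mul_inv_rev, h1, inv_one]
      · have : P ≤ normalizer (D' : Set G) := by
          rw [closure_le]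
          rintro a (rfl | ha)
          · exact hxN
          · rw [Set.mem_singleton_iff] at ha; rw [ha]; exact huN
        exact this hp
      · have hPN : P ≤ normalizer (D' : Set G) := by
          rw [closure_le]
          rintro a (rfl | ha)
          · exact hxN
          · rw [Set.mem_singleton_iff] at ha; rw [ha]; exact huN
        refine closure_induction (p := fun p _ => M.φ p = 1 ∨ M.φ p = M.φ u) ?_ (Or.inl M.one) ?_ ?_ hp
        · rintro a (rfl | ha)
          · exact hφx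
          · rw [Set.mem_singleton_iff] at ha; rw [ha]; exact Or.inr rfl
        · intro a b ha hb h1 h2
          rw [M.mul _ _ (hPN ha) (hPN hb)]
          rcases h1 with h1 | h1 <;> rcases h2 with h2 | h2 <;> rw [h1, h2]
          · left; rw [mul_one]
          · right; rw [one_mul]
          · right; rw [mul_one]
          · left; exact hroot.1
        · intro a ha h1
          rw [M.inv (hPN ha)]
          rcases h1 with h1 | h1 <;> rw [h1]
          · left; rw [inv_one]
          · right; exact inv_eq_of_mul_eq_one_left hroot.1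
    exact ⟨P, subset_closure (Or.inl rfl), subset_closure (Or.inr rfl),
      isPGroup_of_sq fun p hp => (hPc p hp).1, fun p hp => (hPc p hp).2.2.1, fun p hp => (hPc p hp).2.2.2⟩
  obtain ⟨V, hV, hVP, -, hVs⟩ := exists_rootV M hP hPN hnd (Finset.subset_univ _) (fun p hp σ hσ => by
    rcases hPφ p hp with h | h <;> rw [h]
    · rw [one_mul, mul_one]
    · exact V4_comm hnd hV4u hσ)
  refine ⟨V, hV.le, hV.card, fun v hv => hV.sq hv, ?_, fun v hv => hVP v hv x hxP⟩
  obtain ⟨v, hv, hvφ⟩ := hVs _ hV4u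
  have h1 : v * u = u * v := hVP v hv u huP
  have h2 : v * u = 1 := by
    refine eq_one_of_mem_core_sq (K := D') ?_ ?_
    · rw [← M.core_iff _ (mul_mem (hV.mem hv) hu), M.mul _ _ (le_normalizer (hV.mem hv)) huN, hvφ]
      exact hroot.1
    · calc v * u * (v * u) = v * (u * v) * u := by group
        _ = v * (v * u) * u := by rw [h1]
        _ = (v * v) * (u * u) := by group
        _ = 1 := by rw [hV.sq hv, huu, one_mul]
  have h3 : u = v := by
    rw [mul_eq_one_iff_eq_inv.mp h2, inv_eq_of_mul_eq_one_left huu]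
  rw [h3]
  exact hv

/-- **the transfer** -/
theorem transfer' (hW : WI G) (T : T7 x b D)
    (hD' : IsComp (centralizer ({b} : Set G)) D') (hne : D' ≠ D) (hA : IsA7 D') (hu : u ∈ D')
    (huo : orderOf u = 2) (hux : u * x = x * u) (hfx : Fixes x D' ∨ Fixes (x * u) D') :
    ∃ y ∈ core (centralizer ({x * u} : Set G)), y ∈ D ∧ ¬ Fixes y D := by
  have hbb := T.aa
  have hb1 := ne_one_of_order T.tri.inva
  have hxx := T.xx
  have huu := sq_of_order huo
  have hub := comm_of_comp hD' hu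
  obtain ⟨V, hVD, hV4, hVsq, huV, hVx⟩ := exists_four_u hA hu huo hxx hux hfx
  have hbV : b ∉ V := fun h => b_notin hD' hA hbb hb1 (hVD h)
  obtain ⟨R, hVR, hbR, hRm, hRsq, hR8⟩ := exists_adjoin hVsq hbb hbV fun v hv => comm_of_comp hD' (hVD hv)
  rw [hV4] at hR8
  have hVfD : ∀ v ∈ V, Fixes v D := fun v hv => T.tri.comp.fixes_of_mem hD' (Ne.symm hne) (hVD hv)
  have hRF : R ≤ FF x b D := by
    intro g hg
    rcases hRm g hg with h | h
    · exact ⟨comm_of_comp hD' (hVD h), hVx g h, hVfD g h⟩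
    · have h8 : g * b ∈ FF x b D := ⟨comm_of_comp hD' (hVD h), hVx _ h, hVfD _ h⟩
      have := mul_mem h8 (inv_mem T.a_mem)
      rwa [mul_inv_cancel_right] at this
  obtain ⟨y, hy, -, hyR, hcen, hyC', hyf⟩ := BLem.exists_y T.tri T.a7 (isPGroup_of_sq hRsq)
    (fun r hr => (hRF hr).1) (fun r hr => (hRF hr).2.1) (fun r hr => (hRF hr).2.2)
  have hyD : y ∈ D := (PComponents.pElem_le _ hyR).1
  have hyC : ∀ r ∈ R, y * r = r * y := fun r hr => (hyC' r hr).symm
  have hyx : y * x = x * y := comm_c (core_le _ hy)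
  have hyu : y * u = u * y := hyC u (hVR huV)
  -- `x u` is an involution
  have hvv : x * u * (x * u) = 1 := by
    calc x * u * (x * u) = x * (u * x) * u := by group
      _ = x * (x * u) * u := by rw [hux]
      _ = (x * x) * (u * u) := by group
      _ = 1 := by rw [hxx, huu, one_mul]
  have hv1 : x * u ≠ 1 := by
    intro h
    apply T.tri.not_fixes
    have h1 : x = u := by
      rw [mul_eq_one_iff_eq_inv.mp h, inv_eq_of_mul_eq_one_left huu]
    rw [h1]
    exact T.tri.comp.fixes_of_mem hD' (Ne.symm hne) hu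
  have hVc : ∀ v ∈ V, ∀ v' ∈ V, v * v' = v' * v := fun v hv v' hv' =>
    comm_of_sq (fun v hv => hVsq v hv) hv hv'
  refine ⟨y, lemB hW x b (x * u) y D R T.tri T.a7 (orderOf_eq_prime (by rw [pow_two, hvv]) hv1)
    (comm_prod rfl hux.symm) hRsq (by rw [hR8]) hbR (fun e he => (hRF he).2.1) ?_
    (fun e he => (hRF he).2.2) hy hcen (comm_prod hyx hyu) hyf ?_, hyD, hyf⟩
  · intro e he
    refine comm_prod (hRF he).2.1 ?_
    rcases hRm e he with h | h
    · exact hVc e h u huV
    · have h1 : e * b * u = u * (e * b) := hVc _ h u huV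
      have h2 : e * b * u * b = u * e := by rw [h1]; calc u * (e * b) * b = u * e * (b * b) := by group
          _ = u * e := by rw [hbb, mul_one]
      calc e * u = e * (b * b) * u := by rw [hbb, mul_one]
        _ = e * b * (b * u) := by group
        _ = e * b * (u * b) := by rw [hub]
        _ = e * b * u * b := by group
        _ = u * e := h2
  · intro w hw hw1 N hN hf
    have hwF := hRF hw
    rcases hRm w hw with h | h
    · exact inn_of_pump (muPump_of hW) T hD' hne hA hu huo hux (hVD h) (hVsq w h) (hVc w h u huV) (Or.inl rfl) hw1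
        hwF.2.1 hwF.2.2 (hcen w hw) hN hf
    · refine inn_of_pump (muPump_of hW) T hD' hne hA hu huo hux (hVD h) (hVsq _ h) (hVc _ h u huV) (Or.inr ?_) hw1
        hwF.2.1 hwF.2.2 (hcen w hw) hN hf
      calc w = w * (b * b) := by rw [hbb, mul_one]
        _ = w * b * b := by group
        _ = b * (w * b) := comm_of_comp hD' (hVD h)

theorem isTriple_of_core (T : T7 x b D) (hb : b * z = z * b) (hzo : orderOf z = 2)
    (hy : y ∈ core (centralizer ({z} : Set G))) (hyD : y ∈ D) (hyf : ¬ Fixes y D) : IsTriple z b D :=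
  ⟨hzo, T.tri.inva, hb, T.tri.comp, y, hy, T.tri.comp.le hyD, hyf⟩

theorem transfer (hW : WI G) (T : T7 x b D)
    (hD' : IsComp (centralizer ({b} : Set G)) D') (hne : D' ≠ D) (hA : IsA7 D') (hu : u ∈ D')
    (huo : orderOf u = 2) (hux : u * x = x * u) (hfx : Fixes x D' ∨ Fixes (x * u) D') :
    IsTriple (x * u) b D := by
  obtain ⟨y, hy, hyD, hyf⟩ := transfer' hW T hD' hne hA hu huo hux hfx
  have hxx := T.xx
  have huu := sq_of_order huo
  have hvv : x * u * (x * u) = 1 := by
    calc x * u * (x * u) = x * (u * x) * u := by group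
      _ = x * (x * u) * u := by rw [hux]
      _ = (x * x) * (u * u) := by group
      _ = 1 := by rw [hxx, huu, one_mul]
  refine isTriple_of_core T
    (comm_prod T.ax (comm_of_comp hD' hu).symm) (orderOf_eq_prime (by rw [pow_two, hvv]) ?_) hy hyD hyf
  intro h
  apply T.tri.not_fixes
  have h1 : x = u := by
    rw [mul_eq_one_iff_eq_inv.mp h, inv_eq_of_mul_eq_one_left huu]
  rw [h1]
  exact T.tri.comp.fixes_of_mem hD' (Ne.symm hne) hu

/-- **(W)** -/
theorem ww (hW : WI G) : WW G := by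
  intro f m₁ m₂ M₁ M₂ h1 h2 hne hm₁ hm₂ ho₁ ho₂ hc
  exact transfer hW (h1.t7 hm₁ ho₁) h2.comp (Ne.symm hne) h2.a7 hm₂ ho₂ hc.symm
    (Or.inl (h2.comp.fixes_of_mem h1.comp (Ne.symm hne) hm₁))

/-- **the converse of (W)** -/
theorem fam_of_mul (hW : WI G) {n n' : G} (T : T7 (n * n') t N)
    (hN' : IsComp (centralizer ({t} : Set G)) K) (hne : K ≠ N) (hA : IsA7 K) (hn : n ∈ N) (hn' : n' ∈ K)
    (ho' : orderOf n' = 2) (hc : n * n' = n' * n) : Fam t N := by
  have hnn : n' * n' = 1 := sq_of_order ho'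
  have h1 : n * n' * n' = n := by rw [mul_assoc, hnn, mul_one]
  have h2 := transfer hW T hN' hne hA hn' ho' (by rw [← mul_assoc, ← hc]) (Or.inr (by
    rw [h1]
    exact hN'.fixes_of_mem T.tri.comp hne hn))
  rw [h1] at h2
  exact fam_of_triple h2 T.a7 hn

end Cfsg.Agent.UGT.A7.B
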