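import Cfsg.Agent.UGT.A7.B.Split
import Cfsg.Agent.UGT.A7.B.Transfer

/-!
# The β-branch of [A7]: (F1)

* `fam_of_diag`: `(x, e, N)` a triple of type `A₇`, `x` in the diagonal of `N`, `N^f`: `(e, N) ∈ FAM`.
* `f1`: **(F1)**.
-/

set_option autoImplicit false
set_option linter.unusedSectionVars false

open Cfsg Subgroup Equiv Equiv.Perm
open Cfsg.Agent.UAlt
open Cfsg.Agent.SignalizersComponents Cfsg.Agent.Lib
open Cfsg.Agent.SignalizersComponents.IntrinsicBasic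
open Cfsg.Agent.Intrinsic.Basic Cfsg.Agent.Intrinsic.Cen Cfsg.Agent.Intrinsic.Diag Cfsg.Agent.Intrinsic
open Cfsg.Agent.McLLyComp.Act
open Cfsg.Agent.UGT.Triple Cfsg.Agent.UGT.PumpGen Cfsg.Agent.UGT.TriBase
open Cfsg.Agent.UGT.A7.Mu
open scoped commutatorElement

namespace Cfsg.Agent.UGT.A7.B

universe u

variable {G : Type u} [Group G] [Finite G] {a b c l x f s t g e y : G} {L L' N N' K D X Y : Subgroup G}

/-- the diagonal case -/
theorem fam_of_diag (hW : WI G) (T : IsTriple x e N) (hA : IsA7 N) (hfe : f * e = e * f)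
    (hff : f * f = 1) (hne : IntrinsicBasic.cj f N ≠ N)
    (hx : x ∈ diag (centralizer ({e} : Set G)) N f) : Fam e N := by
  have hfX : f ∈ centralizer ({e} : Set G) := mem_c hfe
  obtain ⟨M⟩ := hA
  obtain ⟨n, hn, hnn, hnc, hxn⟩ := exists_split M T.comp hfX hff hne hx (sq_of_order T.invx)
  have hn1 : n ≠ 1 := by
    rintro rfl
    apply ne_one_of_order T.invx
    rw [hxn, mul_one, mul_inv_cancel, mul_one]
  have hK := isComp_cj_of_mem T.comp hfX
  have hn' : f * n * f⁻¹ ∈ IntrinsicBasic.cj f N := conj_mem_cj hn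
  have hnn' : (f * n * f⁻¹) * (f * n * f⁻¹) = 1 := by
    calc (f * n * f⁻¹) * (f * n * f⁻¹) = f * (n * n) * f⁻¹ := by group
      _ = 1 := by rw [hnn]; group
  have ho' : orderOf (f * n * f⁻¹) = 2 := orderOf_eq_prime (by rw [pow_two, hnn']) (by
    intro h
    apply hn1
    have : n = f⁻¹ * (f * n * f⁻¹) * f := by group
    rw [this, h]
    group)
  have hT7 : T7 (n * (f * n * f⁻¹)) e N := by
    refine ⟨hxn ▸ T, ⟨M⟩, n, hn, ?_⟩
    have h1 : n * (f * n * f⁻¹) * n⁻¹ = f * n * f⁻¹ := by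
      rw [hnc, mul_inv_cancel_right]
    rw [h1]
    exact T.comp.fixes_of_mem hK hne.symm hn'
  exact fam_of_mul hW hT7 hK hne (M.cj f |> Nonempty.intro) hn hn' ho' hnc

/-- **(F1)** -/
theorem f1 (hW : WI G) : F1 G := by
  intro a c L hL hc hca hcL
  obtain ⟨M⟩ := hL.a7
  have hcc := sq_of_order hc
  have haa := hL.aa
  obtain ⟨l, hl, ho, hlc⟩ := exists_inv M hcL hcc
  have T := hL.bad l hl ho
  obtain ⟨N, M', TN, -, hor⟩ := PumpSeven.pump7 hW M T hc hca hlc.symm hcL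
  have hlcen : l ∈ cen L c := mem_cen_of_sq hl hlc (sq_of_order ho)
  rcases hor with ⟨hf, hle⟩ | ⟨hne, heq⟩
  · exact ⟨N, fam_of_triple TN ⟨M'⟩ (hle hlcen), Or.inl ⟨hf, hle,
      sup_of_le hL.comp hcc hca hcL hle M M'⟩⟩
  · exact ⟨N, fam_of_diag hW TN ⟨M'⟩ hca.symm haa hne (heq ▸ hlcen), Or.inr ⟨hne, heq⟩⟩

end Cfsg.Agent.UGT.A7.B
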