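import Cfsg.Agent.UGT.A7.B.Basic
import Cfsg.Agent.UGT.A7.NodeA7
import Cfsg.Agent.UGT.NoGamma
import Cfsg.Agent.UGT.U2.TypeOf

/-!
# The β-branch of [A7]: the assembly

* `simple_of_fam`: a minimal counterexample with a member of `FAM` is simple.
* `Parts G`: the statements of the parts.
* `Parts.rank`: (beta'), or the sectional 2-rank is at most 4.
* `nodeA7_of_parts`: the parts give the node `NodeA7'`.
-/

set_option autoImplicit false
set_option linter.unusedSectionVars false

open Cfsg Subgroup Equiv Equiv.Perm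
open Cfsg.Agent.UAlt
open Cfsg.Agent.SignalizersComponents Cfsg.Agent.Lib
open Cfsg.Agent.SignalizersComponents.IntrinsicBasic
open Cfsg.Agent.Intrinsic.Basic Cfsg.Agent.Intrinsic.Cen Cfsg.Agent.Intrinsic.Diag
open Cfsg.Agent.McLLyComp.Act
open Cfsg.Agent.UGT.Triple Cfsg.Agent.UGT.TriBase
open Cfsg.Agent.UGT.A7.Mu
open Cfsg.Agent.UGT.Iface (Bar IsInner IsL2 IsAlt MinCex)
open Cfsg.Agent.UGT.InUList (PK4 Excl K4End)

namespace Cfsg.Agent.UGT.A7.B

universe u

variable {G : Type u} [Group G] [Finite G] {a l x : G} {L : Subgroup G}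

/-! ### simplicity -/

/-- an `A₇`-component has involutions -/
theorem Fam.exists_inv (h : Fam a L) : ∃ l ∈ L, orderOf l = 2 := by
  obtain ⟨M⟩ := h.a7
  have h1 : Even (Nat.card ↥L) := by
    have h2 : Nat.card (↥L ⧸ oddCore ↥L) = 2520 := IsA7.card h.a7
    have h3 : Nat.card (↥L ⧸ oddCore ↥L) ∣ Nat.card ↥L := Subgroup.card_quotient_dvd_card _
    rw [h2] at h3
    exact (by decide : Even 2520).trans_dvd h3
  obtain ⟨l, hl⟩ := exists_prime_orderOf_dvd_card' 2 h1.two_dvd
  exact ⟨l, l.2, by rw [← Subgroup.orderOf_coe] at hl; exact hl⟩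

/-- a minimal counterexample with a member of `FAM` is simple -/
theorem simple_of_fam (hG : MinCex G) (h : Fam a L) : IsSimpleGroup G := by
  obtain ⟨l, hl, ho⟩ := h.exists_inv
  have T := h.bad l hl ho
  obtain ⟨M⟩ := h.a7
  have hA : Iface.IsAltOdd (Bar L) := ⟨7, by decide, le_rfl, isAlt_of_lab M⟩
  have h1 := NoGamma.fs_eq_top hG ⟨l, a, L, T, NoGamma.fgam_of_type (Or.inr hA)⟩ T.invx
    (U2.TypeOf.core_ne_bot T) (U2.TypeOf.le_fs hG T hl)
  exact FixBN.BRelative.simple_congr ((MulEquiv.subgroupCongr h1).trans topEquiv) hG.simple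

/-! ### the assembly -/

/-- The statements of the parts, for one group. -/
structure Parts (G : Type u) [Group G] [Finite G] : Prop where
  caseI : (∀ (l a : G) (L : Subgroup G), T7 l a L → l ∈ L → ∀ q, q * q = 1 → q * a = a * q →
    Fixes q L → q = 1 ∨ q = a) → Mu.BetaP G
  f1 : F1 G
  w : WW G
  dp : DP G
  choice : Choice1 G
  w1e : World1E G
  w1o : World1O G
  w1k : World1K G
  red : Reduction G
  w2 : World2 G
  w3 : World3 G

/-- `FAM` is not empty -/
theorem Parts.of_fam (P : Parts G) (hG : IsSimpleGroup G)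
    (h : ∃ (a : G) (K E : Subgroup G), Fam a K ∧ Nat.card E = 4 ∧
      (∀ e ∈ E, e * e = 1 ∧ e * a = a * e ∧ Fixes e K)) : SectionalPRankLE 2 4 G := by
  by_cases hU : Uniq G
  · obtain ⟨a, K, T, S⟩ := P.choice P.f1 hU h
    by_cases ho : ∃ l ∈ K, orderOf l = 2 ∧ ∃ N, Fam l N
    · rcases P.w1o P.f1 hU a K T S ho with h1 | ⟨a', l, K', L, T', E, S2⟩
      · exact h1
      · exact absurd S2 (P.w1k hG P.f1 hU a' l K' L T' E)
    · exact P.w1e hG P.f1 hU a K T S fun l hl hl2 N hN => ho ⟨l, hl, hl2, N, hN⟩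
  · exfalso
    have hU' : ∃ (s : G) (L L' : Subgroup G), Fam s L ∧ Fam s L' ∧ L ≠ L' := by
      by_contra hcon
      apply hU
      intro s L L' h1 h2
      by_contra hne
      exact hcon ⟨s, L, L', h1, h2, hne⟩
    obtain ⟨s, L, L', h1, h2, hne⟩ := hU'
    have h3 : 2 ≤ {N | Fam s N}.ncard := by
      have h4 := (Set.one_lt_ncard_iff (s := {N : Subgroup G | Fam s N}) (Set.toFinite _)).mpr
        ⟨L, L', h1, h2, hne⟩
      exact h4
    rcases P.red P.f1 P.w P.dp ⟨s, h3⟩ with ⟨D, hD⟩ | ⟨a, K₁, K₂, e1, e2, e3, e4, e5, e6⟩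
    · exact P.w3 hG P.f1 P.w P.dp D hD
    · exact P.w2 hG P.f1 P.w P.dp a K₁ K₂ e1 e2 e3 e4 e5 e6

/-- (beta'), or the sectional 2-rank is at most 4 -/
theorem Parts.rank (P : Parts G) (hG : MinCex G) : Mu.BetaP G ∨ SectionalPRankLE 2 4 G := by
  by_cases hF : ∀ (l a : G) (L : Subgroup G), T7 l a L → l ∈ L → ∀ q, q * q = 1 → q * a = a * q →
      Fixes q L → q = 1 ∨ q = a
  · exact Or.inl (P.caseI hF)
  · right
    push Not at hF
    obtain ⟨l, a, L, T, hl, q, hqq, hqa, hqL, hq1, hqa'⟩ := hF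
    have hFam : Fam a L := fam_of_triple T.tri T.a7 hl
    obtain ⟨E₁, hE₁, hc₁⟩ := exists_two T.aa (ne_one_of_order T.tri.inva)
    obtain ⟨E, hle, hqE, hE, hEE, hc⟩ := exists_adjoin (E := E₁) (u := q) (by
        intro e he
        rcases (hE₁ e).mp he with rfl | rfl
        · rw [one_mul]
        · exact T.aa) hqq (by
        intro h
        rcases (hE₁ q).mp h with h | h
        · exact hq1 h
        · exact hqa' h) (by
        intro e he
        rcases (hE₁ e).mp he with rfl | rfl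
        · rw [one_mul, mul_one]
        · exact hqa.symm)
    refine P.of_fam (simple_of_fam hG hFam) ⟨a, L, E, hFam, by rw [hc, hc₁], fun e he => ?_⟩
    have key : ∀ e ∈ E₁, e * a = a * e ∧ Fixes e L := by
      intro e he
      rcases (hE₁ e).mp he with rfl | rfl
      · exact ⟨by rw [one_mul, mul_one], fixes_one L⟩
      · exact ⟨rfl, hFam.fixes⟩
    refine ⟨hEE e he, ?_⟩
    rcases hE e he with h | h
    · exact key e h
    · obtain ⟨h1, h2⟩ := key _ h
      have h3 : e = e * q * q := by rw [mul_assoc, hqq, mul_one]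
      rw [h3]
      refine ⟨?_, fixes_mul h2 hqL⟩
      rw [mul_assoc (e * q), hqa, ← mul_assoc, h1, mul_assoc]

/-- **the parts give (beta') if the sectional 2-rank is at least 5** -/
theorem Parts.beta (P : Parts G) (hG : MinCex G)
    (hr : ¬ SectionalPRankLE 2 4 ↥(generalizedFittingSubgroup G)) : Mu.BetaP G := by
  rcases P.rank hG with h | h
  · exact h
  · exact absurd (GH.Rank.of_subgroup h _) hr

/-- **N6** from the parts -/
theorem nodeA7_of_parts (k4 : PK4.{u}) (hE : Excl.{u} K4End)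
    (hP : ∀ (G : Type u) [Group G] [Finite G], MinCex G → W7 G → A7.Pump7 G → Parts G) :
    Nodes.NodeA7'.{u} :=
  nodeA7_of_beta k4 hE fun G _ _ hG hr hW => (hP G hG hW (PumpPlug.pump7_of hW)).beta hG hr

end Cfsg.Agent.UGT.A7.B
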