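import Cfsg.Agent.UGT.A7.B.OneWd
import Cfsg.Agent.UAlt.ModT
import Cfsg.Agent.UGT.A7.RankEnds

/-!
# [A7], beta-branch, World 1: T1 / T2 and the E-type
-/

set_option autoImplicit false
set_option linter.unusedSectionVars false

open Cfsg Subgroup Equiv Equiv.Perm
open Cfsg.Agent.UAlt
open Cfsg.Agent.SignalizersComponents Cfsg.Agent.Lib
open Cfsg.Agent.SignalizersComponents.IntrinsicBasic
open Cfsg.Agent.Intrinsic.Basic Cfsg.Agent.Intrinsic.Cen Cfsg.Agent.Intrinsic.Diag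
open Cfsg.Agent.McLLyComp.Act
open Cfsg.Agent.UGT.Triple Cfsg.Agent.UGT.TriBase Cfsg.Agent.UGT.LemG Cfsg.Agent.UAlt.Nine
open scoped commutatorElement

namespace Cfsg.Agent.UGT.A7.B.One

universe u

variable {G : Type u} [Group G] [Finite G]

/-- **(1)** `T` is Sylow or `Q ∩ Q^t = 1` for some `t ∈ N(T)` -/
theorem t1_or_t2 (hF : F1 G) (hU : Uniq G) {a : G} {K T : Subgroup G} (h : Sit1 a K T) (S : Sylow 2 G)
    (hTS : T ≤ S) : T = S ∨ ∃ t : G, (∀ x ∈ T, t * x * t⁻¹ ∈ T) ∧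
      ∀ q ∈ fix T K, t * q * t⁻¹ ∈ fix T K → q = 1 := by
  have W := wd_fam hF hU
  by_cases hne : T = S
  · exact Or.inl hne
  right
  obtain ⟨y, hy, hyT, hyn⟩ := GH.E.exists_mem_normalizer S.isPGroup' hTS hne
  -- `t ∉ T`, `t² ∈ T`
  obtain ⟨t, ht, htT, htt, htn⟩ : ∃ t ∈ (S : Subgroup G), t ∉ T ∧ t * t ∈ T ∧ ∀ x ∈ T, t * x * t⁻¹ ∈ T := by
    have hex : ∃ n : ℕ, y ^ 2 ^ n ∈ T := by
      obtain ⟨n, hn⟩ := S.isPGroup' ⟨y, hy⟩
      refine ⟨n, ?_⟩
      have h1 : y ^ 2 ^ n = 1 := congrArg Subtype.val hn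
      rw [h1]
      exact T.one_mem
    classical
    have h1 := Nat.find_spec hex
    have h2 : Nat.find hex ≠ 0 := by
      intro h3
      rw [h3, pow_zero, pow_one] at h1
      exact hyT h1
    obtain ⟨k, hk⟩ : ∃ k, Nat.find hex = k + 1 := ⟨Nat.find hex - 1, by omega⟩
    rw [hk] at h1
    have h3 : y ^ 2 ^ k ∉ T := Nat.find_min hex (by omega)
    refine ⟨y ^ 2 ^ k, Subgroup.pow_mem _ hy _, h3, ?_, ?_⟩
    · rw [← pow_two, ← pow_mul, ← pow_succ]
      exact h1
    · have h4 : ∀ n : ℕ, ∀ x ∈ T, y ^ n * x * (y ^ n)⁻¹ ∈ T := by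
        intro n
        induction n with
        | zero => intro x hx; simpa using hx
        | succ n ih =>
          intro x hx
          have h5 := ih _ (hyn x hx)
          have h6 : y ^ (n + 1) * x * (y ^ (n + 1))⁻¹ = y ^ n * (y * x * y⁻¹) * (y ^ n)⁻¹ := by
            rw [pow_succ]; group
          rwa [h6]
      exact h4 _
  refine ⟨t, htn, ?_⟩
  obtain ⟨Q, hQ⟩ : ∃ Q, Q = fix T K := ⟨_, rfl⟩
  obtain ⟨D, hD⟩ : ∃ D, D = Q ⊓ cj t Q := ⟨_, rfl⟩
  have htN : cj t T = T := mem_normalizer_iff_cj.1 (mem_normalizer_fintype htn)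
  have hTK : T ≤ normalizer (K : Set G) := fun x hx => W.nor h.fam (h.syl.le hx)
  have hTQ : ∀ x ∈ T, cj x Q = Q := by
    intro x hx
    rw [hQ, cj_fix, mem_normalizer_iff_cj.1 (hTK hx), cj_eq_self_of_mem hx]
  have hTQ' : ∀ x ∈ T, cj x (cj t Q) = cj t Q := by
    intro x hx
    have h1 : t⁻¹ * x * t ∈ T := by
      have h2 : x ∈ cj t T := htN.symm ▸ hx
      exact mem_cj.1 h2
    have h3 : x * t = t * (t⁻¹ * x * t) := by group
    rw [← cj_mul, h3, cj_mul, hTQ _ h1]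
  have hDT : D ≤ T := hD ▸ inf_le_left.trans (hQ ▸ fix_le T K)
  have hDn : ∀ x ∈ T, x ∈ normalizer (D : Set G) := by
    intro x hx
    rw [mem_normalizer_iff_cj, hD, cj_inf, hTQ x hx, hTQ' x hx]
  have htD : t ∈ normalizer (D : Set G) := by
    rw [mem_normalizer_iff_cj, hD, cj_inf, ← cj_mul, hTQ _ htt, inf_comm]
  have hDbot : D = ⊥ := by
    by_contra hDne
    obtain ⟨T₁, hT₁⟩ : ∃ T₁, T₁ = T ⊔ zpowers t := ⟨_, rfl⟩
    have h1 : T ≤ T₁ := hT₁ ▸ le_sup_left
    have htT₁ : t ∈ T₁ := hT₁ ▸ mem_sup_right (mem_zpowers t)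
    have h2 : T₁ ≤ S := by
      rw [hT₁]
      exact sup_le hTS (by rwa [zpowers_le])
    have h3 : IsPGroup 2 ↥T₁ := S.isPGroup'.to_le h2
    have h4 : T₁ ≤ normalizer (D : Set G) := by
      rw [hT₁]
      exact sup_le hDn (by rwa [zpowers_le])
    obtain ⟨e, he, he2, heT⟩ := exists_central h3 (hDT.trans h1) h4 hDne
    have heQ : e ∈ fix T K := hQ ▸ (hD ▸ he : e ∈ Q ⊓ cj t Q).1
    have hea : e * a = a * e := comm_c (h.syl.le (fix_le T K heQ))
    obtain ⟨N, hN, -⟩ := W.up_fix h.fam he2 hea (mem_fix.1 heQ).2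
    obtain ⟨h5, -⟩ := h.max e heQ he2 (fun x hx => heT x (h1 hx)) N hN
    have h6 := h5.max T₁ h3 (fun x hx => mem_c (heT x hx)) h1
    exact htT (h6 ▸ htT₁)
  intro q hq hqt
  have h1 : t * q * t⁻¹ ∈ D := by
    rw [hD]
    exact ⟨hQ ▸ hqt, conj_mem_cj (hQ ▸ hq)⟩
  rw [hDbot, mem_bot] at h1
  have h2 : q = t⁻¹ * (t * q * t⁻¹) * t := by group
  rw [h2, h1, mul_one, inv_mul_cancel]

section basic

variable {a : G} {K T : Subgroup G} (h : Sit1 a K T)

include h

theorem Sit1.aa : a * a = 1 := sq_of_order h.fam.inv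

theorem Sit1.comm {t : G} (ht : t ∈ T) : t * a = a * t := comm_c (h.syl.le ht)

theorem Sit1.aT : a ∈ T := mem_of_comm h.syl (mem_c rfl) (fun _ ht => (comm_c (h.syl.le ht)).symm)
    (sq_of_order h.fam.inv)

theorem Sit1.aQ : a ∈ fix T K := mem_fix.2 ⟨Sit1.aT h, fixes_self' h.fam.comp.le⟩

end basic

/-- E-type: case (T2) does not occur -/
theorem not_t2 (hF : F1 G) (hU : Uniq G) {a : G} {K T : Subgroup G} (h : Sit1 a K T)
    (hE : ∀ l ∈ K, orderOf l = 2 → ∀ N, ¬ Fam l N) {t : G} (htn : ∀ x ∈ T, t * x * t⁻¹ ∈ T)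
    (ht : ∀ q ∈ fix T K, t * q * t⁻¹ ∈ fix T K → q = 1) : False := by
  have W := wd_fam hF hU
  obtain ⟨e, he⟩ : ∃ e, e = t * a * t⁻¹ := ⟨_, rfl⟩
  have hfe : Fam e (cj t K) := he ▸ fam_cj h.fam t
  have heT : e ∈ T := he ▸ htn a (Sit1.aT h)
  have hen : ¬ Fixes e K := fun hf => ne_one_of_order h.fam.inv
    (ht a (Sit1.aQ h) (he ▸ mem_fix.2 ⟨heT, hf⟩))
  have htN : cj t T = T := mem_normalizer_iff_cj.1 (mem_normalizer_fintype htn)
  have hTe : ∀ x ∈ T, x * e = e * x := by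
    intro x hx
    have h1 : t⁻¹ * x * t ∈ T := mem_cj.1 (htN.symm ▸ hx)
    have h2 := Sit1.comm h h1
    rw [he]
    calc x * (t * a * t⁻¹) = t * (t⁻¹ * x * t * a) * t⁻¹ := by group
      _ = t * (a * (t⁻¹ * x * t)) * t⁻¹ := by rw [h2]
      _ = _ := by group
  have h1 := W.claim h.fam hfe (Sit1.comm h heT) hen hE (R := fix T K) (h.syl.two.to_le (fix_le T K))
    (fun w hw => Sit1.comm h (fix_le T K hw)) (fun w hw => hTe w (fix_le T K hw))
    (fun w hw => (mem_fix.1 hw).2)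
  obtain ⟨q, hq, -, hq1, hqa⟩ := h.four
  rcases h1 q hq with h2 | h2
  · exact hq1 h2
  · exact hqa h2

/-- the consequence of S1173 for `G` simple -/
def SCFact (G : Type u) [Group G] [Finite G] : Prop := ∀ (S : Sylow 2 G) (Q : Subgroup G),
  Cfsg.IsStronglyClosed Q (S : Subgroup G) →
    ((⨅ n : ℕ, derivedSeries ↥(centralizer (Q : Set G)) n).map (centralizer (Q : Set G)).subtype).Normal

/-- perfect subgroups lie in the terms of the derived series -/
theorem le_derived {E C : Subgroup G} (hEC : E ≤ C) (hE : ⁅E, E⁆ = E) :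
    E ≤ (⨅ n : ℕ, derivedSeries ↥C n).map C.subtype := by
  have h1 : ⁅E.subgroupOf C, E.subgroupOf C⁆ = E.subgroupOf C := by
    apply Subgroup.map_injective C.subtype_injective
    rw [map_commutator, subgroupOf_map_subtype, inf_of_le_left hEC, hE]
  have h2 : ∀ n : ℕ, E.subgroupOf C ≤ derivedSeries ↥C n := by
    intro n
    induction n with
    | zero => rw [derivedSeries_zero]; exact le_top
    | succ n ih =>
      rw [derivedSeries_succ, ← h1]
      exact commutator_mono ih ih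
  intro x hx
  exact ⟨⟨x, hEC hx⟩, (Subgroup.mem_iInf).2 fun n => h2 n hx, rfl⟩

/-- `Q` is not strongly closed -/
theorem not_closed (hG : IsSimpleGroup G) (hsc : SCFact G) (hF : F1 G) (hU : Uniq G) {a : G}
    {K T : Subgroup G} (h : Sit1 a K T) (S : Sylow 2 G) (hTS : T = S) :
    ∃ w ∈ fix T K, ∃ g : G, g * w * g⁻¹ ∈ T ∧ g * w * g⁻¹ ∉ fix T K := by
  have W := wd_fam hF hU
  by_contra hcon
  push Not at hcon
  have hcl : Cfsg.IsStronglyClosed (fix T K) (S : Subgroup G) := by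
    refine ⟨hTS ▸ fix_le T K, fun x hx g hg => hcon x hx g (hTS ▸ hg)⟩
  have hn := hsc S (fix T K) hcl
  obtain ⟨M⟩ := h.fam.a7
  have hQ2 : IsPGroup 2 ↥(fix T K) := h.syl.two.to_le (fix_le T K)
  have hQN : fix T K ≤ normalizer (K : Set G) := fun q hq => (mem_fix.1 hq).2.1
  have hFT : M.FT (fix T K) = Finset.univ := by
    ext i
    simp only [Finset.mem_univ, iff_true]
    rw [M.mem_FT hQN]
    refine ⟨Finset.mem_univ i, fun q hq => ?_⟩
    rw [(M.fixes_iff (hQN hq)).2 (mem_fix.1 hq).2]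
    rfl
  have hcomp := M.isComp_cmpT hQ2 hQN (by rw [hFT, Finset.card_univ, Fintype.card_fin]; norm_num)
  have hEC : M.cmpT (fix T K) ≤ centralizer (fix T K : Set G) :=
    (M.cmpT_le_cent _).trans inf_le_right
  have hle := le_derived hEC hcomp.perfect
  rcases hn.eq_bot_or_eq_top with h1 | h1
  · rw [h1, le_bot_iff] at hle
    exact hcomp.ne_bot hle
  · have h2 : centralizer (fix T K : Set G) = ⊤ := by
      rw [eq_top_iff, ← h1]
      exact map_subtype_le _
    have h3 : a ∈ center G := by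
      rw [mem_center_iff]
      intro g
      have h4 : g ∈ centralizer (fix T K : Set G) := h2 ▸ mem_top g
      exact (mem_centralizer_iff.1 h4 a (Sit1.aQ h)).symm
    have h4 : (center G).Normal := inferInstance
    rcases h4.eq_bot_or_eq_top with h5 | h5
    · rw [h5, mem_bot] at h3
      exact ne_one_of_order h.fam.inv h3
    · have h6 : ⁅K, K⁆ = ⊥ := by
        rw [commutator_eq_bot_iff_le_centralizer]
        intro x hx
        rw [mem_centralizer_iff]
        intro y hy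
        exact (mem_center_iff.1 (h5 ▸ mem_top x : x ∈ center G) y)
      rw [h.fam.comp.perfect] at h6
      exact h.fam.comp.ne_bot h6

/-- **World 1, E-type** -/
theorem world1E_of (hsc : SCFact G) : World1E G := by
  intro hG hF hU a K T h hE
  have W := wd_fam hF hU
  obtain ⟨S, hTS⟩ := exists_sylow_ge h.syl.two
  rcases t1_or_t2 hF hU h S hTS with hT | ⟨t, htn, ht⟩
  swap
  · exact (not_t2 hF hU h hE htn ht).elim
  have haT := Sit1.aT h
  have haQ := Sit1.aQ h
  -- the claim, for elements of `Q` commuting with `e`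
  have hcl : ∀ e ∈ T, ∀ N, Fam e N → e ∉ fix T K → ∀ w ∈ fix T K, w * e = e * w → w = 1 ∨ w = a := by
    intro e he N hN hen w hw hwe
    have hw2 : IsPGroup 2 ↥(zpowers w) :=
      h.syl.two.to_le (by rw [zpowers_le]; exact fix_le T K hw)
    refine W.claim h.fam hN (Sit1.comm h he) (fun hf => hen (mem_fix.2 ⟨he, hf⟩)) hE hw2
      ?_ ?_ ?_ w (mem_zpowers w)
    · intro v hv
      have : zpowers w ≤ T := by rw [zpowers_le]; exact fix_le T K hw
      exact Sit1.comm h (this hv)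
    · intro v hv
      obtain ⟨k, rfl⟩ := mem_zpowers_iff.1 hv
      exact ((show Commute w e from hwe).zpow_left k).eq
    · intro v hv
      have : zpowers w ≤ fix T K := by rw [zpowers_le]; exact hw
      exact (mem_fix.1 (this hv)).2
  -- an involution `w ∈ Q` and a conjugate in `T - Q`
  obtain ⟨e, heT, heQ, he2, N, hN⟩ : ∃ e ∈ T, e ∉ fix T K ∧ orderOf e = 2 ∧ ∃ N, Fam e N := by
    obtain ⟨w, hw, g, hg, hgQ⟩ := not_closed hG hsc hF hU h S hT
    have hw1 : w ≠ 1 := by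
      rintro rfl
      apply hgQ
      rw [mul_one, mul_inv_cancel]
      exact one_mem _
    obtain ⟨n, hn⟩ := h.syl.two ⟨w, fix_le T K hw⟩
    obtain ⟨k, hk⟩ := exists_pow_inv (n := n) (congrArg Subtype.val hn) hw1
    obtain ⟨v, hv⟩ : ∃ v, v = w ^ k := ⟨_, rfl⟩
    rw [← hv] at hk
    have hvQ : v ∈ fix T K := hv ▸ pow_mem hw k
    have hwv : w * v = v * w := by rw [hv]; exact (Commute.refl w).pow_right k |>.eq
    obtain ⟨N₁, hN₁, -, -, h1⟩ := W.up_fix h.fam hk (Sit1.comm h (fix_le T K hvQ)) (mem_fix.1 hvQ).2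
    have hwf : Fixes w N₁ := (h1 w (Sit1.comm h (fix_le T K hw)) hwv).2 (mem_fix.1 hw).2
    have hgv : g * v * g⁻¹ = (g * w * g⁻¹) ^ k := by rw [hv, conj_pow]
    have hgvT : g * v * g⁻¹ ∈ T := hgv ▸ pow_mem hg k
    have hgN : Fam (g * v * g⁻¹) (cj g N₁) := fam_cj hN₁ g
    refine ⟨g * v * g⁻¹, hgvT, fun hgvQ => hgQ ?_, hgN.inv, cj g N₁, hgN⟩
    have h2 : Fixes (g * w * g⁻¹) (cj g N₁) := hwf.cj g
    have h3 := W.fix_iff h.fam hgN (Sit1.comm h hgvT) (mem_fix.1 hgvQ).2 (Sit1.comm h hg) (by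
      calc g * w * g⁻¹ * (g * v * g⁻¹) = g * (w * v) * g⁻¹ := by group
        _ = g * (v * w) * g⁻¹ := by rw [hwv]
        _ = _ := by group)
    exact mem_fix.2 ⟨hg, h3.1 h2⟩
  obtain ⟨M₀⟩ := h.fam.a7
  obtain ⟨M, -, -, F⟩ := exists_fr7 M₀ h.fam.comp (W.nor h.fam) h.syl (Sit1.aa h)
    (ne_one_of_order h.fam.inv)
  obtain ⟨z, hz⟩ := F.exists_z
  have hTP := F.twoP
  have hee := sq_of_order he2
  obtain ⟨y, hyQ, hyy, hy1, hya⟩ := h.four
  obtain ⟨p, hp, q, hq, rfl⟩ := hTP.sup e heT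
  have hqT : q ∈ T := (mem_Qs.1 hq).1
  have hpq := hTP.comm p hp q hq
  -- elements of `Q*` commuting with `q` commute with `e`
  have hcomm : ∀ r ∈ Qs T K M F.TN, r * q = q * r → r * (p * q) = p * q * r := by
    intro r hr hrq
    have h1 := hTP.comm p hp r hr
    calc r * (p * q) = (r * p) * q := by group
      _ = (p * r) * q := by rw [h1]
      _ = p * (r * q) := by group
      _ = p * (q * r) := by rw [hrq]
      _ = _ := by group
  have hkey : ∀ r ∈ fix T K, r * q = q * r → r = 1 ∨ r = a := fun r hr hrq =>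
    hcl _ heT N hN heQ r hr (hcomm r (F.fix_le_Qs hr) hrq)
  have hqQ : q ∉ fix T K := by
    intro hqQ
    have h1 : q = 1 ∨ q = a := hkey q hqQ rfl
    have h2 : y * q = q * y := by
      rcases h1 with rfl | rfl
      · rw [mul_one, one_mul]
      · exact Sit1.comm h (fix_le T K hyQ)
    rcases hkey y hyQ h2 with h3 | h3
    · exact hy1 h3
    · exact hya h3
  have hφq : M.φ q = w0 := by
    rcases (mem_Qs.1 hq).2 with h1 | h1
    · exact absurd ((F.fix_iff hqT).2 h1) hqQ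
    · exact h1
  have hqq : q * q = 1 := by
    have h1 : (p * p) * (q * q) = 1 := by
      calc (p * p) * (q * q) = p * (p * q) * q := by group
        _ = p * (q * p) * q := by rw [hpq]
        _ = (p * q) * (p * q) := by group
        _ = 1 := hee
    have h2 : (p * p) = (q * q)⁻¹ := eq_inv_of_mul_eq_one_left h1
    have h3 : p * p = 1 := hTP.inf _ (mul_mem hp hp) (h2 ▸ inv_mem (mul_mem hq hq))
    rw [h3, one_mul] at h1
    exact h1
  have hq1 : q ≠ 1 := by
    rintro rfl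
    exact hqQ (one_mem _)
  have haq : a ≠ q := by
    rintro rfl
    exact hqQ haQ
  refine rank_of_D3 h.syl hz hTP hq hqq hq1 (F.fix_le_Qs haQ) (Sit1.aa h) (ne_one_of_order h.fam.inv)
    haq ?_ ?_
  · intro r hr hrq
    obtain ⟨hrT, h1 | h1⟩ := mem_Qs.1 hr
    · rcases hkey r ((F.fix_iff hrT).2 h1) hrq with h2 | h2
      · exact Or.inl h2
      · exact Or.inr (Or.inr (Or.inl h2))
    · have hrqT : r * q ∈ T := T.mul_mem hrT hqT
      have h2 : r * q ∈ fix T K := by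
        rw [F.fix_iff hrqT, M.mul _ _ (F.TN hrT) (F.TN hqT), h1, hφq, w0w0]
      have h3 : r * q * q = q * (r * q) := by rw [hrq, mul_assoc, hrq]
      rcases hkey _ h2 h3 with h4 | h4
      · right; left
        rw [eq_inv_of_mul_eq_one_left h4, inv_eq_of_mul_eq_one_right hqq]
      · right; right; right
        calc r = (r * q) * q := by rw [mul_assoc, hqq, mul_one]
          _ = q * a := by rw [h4]; exact (Sit1.comm h hqT).symm
  · by_contra hcon
    push Not at hcon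
    have h1 := hcon y (F.fix_le_Qs hyQ)
    rcases hkey y hyQ h1 with h3 | h3
    · exact hy1 h3
    · exact hya h3

end Cfsg.Agent.UGT.A7.B.One
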