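import Cfsg.Agent.UGT.A7.Mu
import Cfsg.Agent.UGT.A7.World

/-!
# The β-branch of [A7] (bb UGT #14324, #14360, #14403, #14437): definitions and the statements of the parts

* `Fam a L`: `L` is a 2-component of `C(a)` of type `A₇`, and the involutions of `L` unbalance `L`.
* `LemB`, `F1`, `WW`, `DP`: the tools of part 1.
* `A1 D`: the closure property of (C2').
* `Sit1`, `Sit2`: the situations of World 1.
-/

set_option autoImplicit false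

open Cfsg Subgroup Equiv
open Cfsg.Agent.SignalizersComponents.IntrinsicBasic (cj)
open Cfsg.Agent.UGT.Triple Cfsg.Agent.UGT.Iface Cfsg.Agent.UGT.TriBase
open Cfsg.Agent.UAlt
open Cfsg.Agent.UGT.A7.Mu
open Cfsg.Agent.Intrinsic.Basic (Fixes IsComp core)
open Cfsg.Agent.Intrinsic.Cen (cen)
open Cfsg.Agent.Intrinsic.Diag (diag)

namespace Cfsg.Agent.UGT.A7.B

universe u

section defs

variable {G : Type u} [Group G]

/-- `(a, L) ∈ FAM` -/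
structure Fam (a : G) (L : Subgroup G) : Prop where
  inv : orderOf a = 2
  comp : IsComp (centralizer ({a} : Set G)) L
  a7 : IsA7 L
  bad : ∀ l ∈ L, orderOf l = 2 → IsTriple l a L

/-- `N` is the trivial pump-up in `C(c)` of the 2-component `L` of `C(a)` -/
structure TrivUp (a c : G) (L N : Subgroup G) : Prop where
  fix : Fixes a N
  le : cen L c ≤ N
  sup : cen L c ⊔ core N = N

/-- `N`, `N^a` is the diagonal pump-up in `C(c)` of the 2-component `L` of `C(a)` -/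
structure DiagUp (a c : G) (L N : Subgroup G) : Prop where
  ne : cj a N ≠ N
  eq : cen L c = diag (centralizer ({c} : Set G)) N a

/-- `F(s)`: the elements of `C(s)` fixing all members of `U(s)` -/
def FS (s : G) : Set G := {g | g * s = s * g ∧ ∀ L, Fam s L → Fixes g L}

variable (G)

/-- types `A₇` and `PSL₂(q)` only -/
def WI : Prop := ∀ (x a : G) (L : Subgroup G), IsTriple x a L → IsL2 (Bar L) ∨ IsAlt 7 (Bar L)

/-- **LEMMA B**, the case `|R| = 8`. -/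
def LemB : Prop := ∀ (x b v y : G) (D R : Subgroup G), IsTriple x b D → IsA7 D → orderOf v = 2 →
  x * v = v * x → (∀ e ∈ R, e * e = 1) → Nat.card R = 8 → b ∈ R → (∀ e ∈ R, e * x = x * e) →
  (∀ e ∈ R, e * v = v * e) → (∀ e ∈ R, Fixes e D) →
  y ∈ core (centralizer ({x} : Set G)) → (∀ e ∈ R, y ∈ cen D e) → y * v = v * y → ¬ Fixes y D →
  (∀ w ∈ R, w ≠ 1 → ∀ N, IsComp (centralizer ({w} : Set G)) N → ¬ Fixes y N →
    IsA7 N ∧ ¬ Fixes v N ∧ ∃ r ∈ N, Fixes (v * r⁻¹) N) →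
  y ∈ core (centralizer ({v} : Set G))

/-- **(F1)** -/
def F1 : Prop := ∀ (a c : G) (L : Subgroup G), Fam a L → orderOf c = 2 → c * a = a * c → Fixes c L →
  ∃ N, Fam c N ∧ (TrivUp a c L N ∨ DiagUp a c L N)

/-- **(W)** -/
def WW : Prop := ∀ (f m₁ m₂ : G) (M₁ M₂ : Subgroup G), Fam f M₁ → Fam f M₂ → M₁ ≠ M₂ → m₁ ∈ M₁ →
  m₂ ∈ M₂ → orderOf m₁ = 2 → orderOf m₂ = 2 → m₁ * m₂ = m₂ * m₁ → IsTriple (m₁ * m₂) f M₁

/-- **(DP)** the D-pump -/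
def DP : Prop := ∀ (f e : G) (M : Subgroup G), Fam f M → orderOf e = 2 → e * f = f * e → cj e M ≠ M →
  ∃ N, Fam e N ∧ ((Fixes f N ∧ diag (centralizer ({f} : Set G)) M e ≤ N) ∨
    (cj f N ≠ N ∧ diag (centralizer ({f} : Set G)) M e = diag (centralizer ({e} : Set G)) N f))

variable {G}

/-- (A1) -/
structure A1 (D : Set G) : Prop where
  conj : ∀ e ∈ D, ∀ g : G, g * e * g⁻¹ ∈ D
  inv : ∀ e ∈ D, orderOf e = 2
  fam : ∀ e ∈ D, ∃ N, Fam e N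
  mem : ∀ e ∈ D, ∀ N, Fam e N → ∀ m ∈ N, orderOf m = 2 → m ∈ D
  star : ∀ e ∈ D, ∀ N, Fam e N → ∀ m ∈ N, orderOf m = 2 → ∃ X, Fam m X ∧ e ∈ X
  triv : ∀ e ∈ D, ∀ N N', Fam e N → Fam e N' → N' ≠ N → ∀ m ∈ N, orderOf m = 2 →
    ∃ X, Fam m X ∧ TrivUp e m N' X
  all : ∀ e ∈ D, ∀ N, Fam e N → ∀ m ∈ N, orderOf m = 2 → ∀ X, Fam m X →
    e ∈ X ∨ ∃ N', Fam e N' ∧ N' ≠ N ∧ TrivUp e m N' X

/-- (A): `|U(e)| = n - 1 ≥ 2` is constant on `D ≠ ∅` -/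
structure AA (D : Set G) : Prop extends A1 D where
  ne : D.Nonempty
  two : ∀ e ∈ D, ∃ N N', Fam e N ∧ Fam e N' ∧ N ≠ N'
  card : ∀ e ∈ D, ∀ e' ∈ D, {N | Fam e N}.ncard = {N | Fam e' N}.ncard

/-- (A) for `n = 2`: `|U(e)| = 1` -/
structure AOne (D : Set G) : Prop extends A1 D where
  ne : D.Nonempty
  one : ∀ e ∈ D, ∀ N N', Fam e N → Fam e N' → N = N'

variable [Finite G]

/-- the situation of World 1; `fix T K` is the group `Q` -/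
structure Sit1 (a : G) (K T : Subgroup G) : Prop where
  fam : Fam a K
  syl : IsSyl (centralizer ({a} : Set G)) T
  four : ∃ q ∈ fix T K, q * q = 1 ∧ q ≠ 1 ∧ q ≠ a
  max : ∀ b ∈ fix T K, orderOf b = 2 → (∀ t ∈ T, t * b = b * t) → ∀ N, Fam b N →
    IsSyl (centralizer ({b} : Set G)) T ∧ fix T N = fix T K

/-- World 1, output of (3): `T = (T ∩ K) × (T ∩ L) × E` -/
structure Sit2 (a l : G) (K L T E : Subgroup G) : Prop where
  famK : Fam a K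
  famL : Fam l L
  sylK : IsSyl (centralizer ({a} : Set G)) T
  sylL : IsSyl (centralizer ({l} : Set G)) T
  l_mem : l ∈ T ⊓ K
  a_mem : a ∈ T ⊓ L
  fixK : T ⊓ K ≤ fix T L
  fixL : T ⊓ L ≤ fix T K
  ne : E ≠ ⊥
  le : E ≤ T
  prod : ∀ t ∈ T, ∃ p ∈ T ⊓ K, ∃ r ∈ T ⊓ L, ∃ e ∈ E, t = p * r * e
  commK : ∀ e ∈ E, ∀ p ∈ T ⊓ K, e * p = p * e
  commL : ∀ e ∈ E, ∀ p ∈ T ⊓ L, e * p = p * e
  actK : ∀ M : M7 K, ∀ e ∈ E, M.φ e = 1 ∨ ∃ i j, i ≠ j ∧ M.φ e = swap i j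
  actL : ∀ M : M7 L, ∀ e ∈ E, M.φ e = 1 ∨ ∃ i j, i ≠ j ∧ M.φ e = swap i j
  inf : ∀ e ∈ E, Fixes e K → Fixes e L → e = 1

end defs

section statements

variable (G : Type u) [Group G] [Finite G]

/-- at most one member of `U(s)` -/
def Uniq : Prop := ∀ (s : G) (L L' : Subgroup G), Fam s L → Fam s L' → L = L'

/-- World 1, E-type -/
def World1E : Prop := IsSimpleGroup G → F1 G → Uniq G → ∀ (a : G) (K T : Subgroup G), Sit1 a K T →
  (∀ l ∈ K, orderOf l = 2 → ∀ N, ¬ Fam l N) → SectionalPRankLE 2 4 G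

/-- World 1, O-type, structure of `T` -/
def World1O : Prop := F1 G → Uniq G → ∀ (a : G) (K T : Subgroup G), Sit1 a K T →
  (∃ l ∈ K, orderOf l = 2 ∧ ∃ N, Fam l N) →
  SectionalPRankLE 2 4 G ∨ ∃ (a l : G) (K L T E : Subgroup G), Sit2 a l K L T E

/-- World 1, (K1)-(K3) -/
def World1K : Prop := IsSimpleGroup G → F1 G → Uniq G →
  ∀ (a l : G) (K L T E : Subgroup G), ¬ Sit2 a l K L T E

/-- World 2 -/
def World2 : Prop := IsSimpleGroup G → F1 G → WW G → DP G → ∀ (a : G) (K₁ K₂ : Subgroup G),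
  Fam a K₁ → Fam a K₂ → K₁ ≠ K₂ → (∀ (s : G), {N | Fam s N}.ncard ≤ 2) →
  (∀ i ∈ ({K₁, K₂} : Set (Subgroup G)), ∀ l ∈ i, orderOf l = 2 → {N | Fam l N}.ncard = 1) → 
  (∀ b : G, {N | Fam b N}.ncard = 2 → ∀ T T' Q Q' : Subgroup G,
    IsSyl (centralizer ({a} : Set G)) T → IsSyl (centralizer ({b} : Set G)) T' →
    (∀ q, q ∈ Q ↔ q ∈ T ∧ q ∈ FS a) → (∀ q, q ∈ Q' ↔ q ∈ T' ∧ q ∈ FS b) →
    Nat.card Q' < Nat.card Q ∨ (Nat.card Q' = Nat.card Q ∧ Nat.card T' ≤ Nat.card T)) → False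

/-- World 3 -/
def World3 : Prop := IsSimpleGroup G → F1 G → WW G → DP G → ∀ D : Set G, ¬ AA D

/-- the reduction (R) -/
def Reduction : Prop := F1 G → WW G → DP G → (∃ s : G, 2 ≤ {N | Fam s N}.ncard) →
  (∃ D : Set G, AA D) ∨ ∃ (a : G) (K₁ K₂ : Subgroup G),
  Fam a K₁ ∧ Fam a K₂ ∧ K₁ ≠ K₂ ∧ (∀ (s : G), {N | Fam s N}.ncard ≤ 2) ∧
  (∀ i ∈ ({K₁, K₂} : Set (Subgroup G)), ∀ l ∈ i, orderOf l = 2 → {N | Fam l N}.ncard = 1) ∧
  (∀ b : G, {N | Fam b N}.ncard = 2 → ∀ T T' Q Q' : Subgroup G,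
    IsSyl (centralizer ({a} : Set G)) T → IsSyl (centralizer ({b} : Set G)) T' →
    (∀ q, q ∈ Q ↔ q ∈ T ∧ q ∈ FS a) → (∀ q, q ∈ Q' ↔ q ∈ T' ∧ q ∈ FS b) →
    Nat.card Q' < Nat.card Q ∨ (Nat.card Q' = Nat.card Q ∧ Nat.card T' ≤ Nat.card T))

/-- the choice in World 1 -/
def Choice1 : Prop := F1 G → Uniq G → (∃ (a : G) (K E : Subgroup G), Fam a K ∧ Nat.card E = 4 ∧
  (∀ e ∈ E, e * e = 1 ∧ e * a = a * e ∧ Fixes e K)) → ∃ (a : G) (K T : Subgroup G), Sit1 a K T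

end statements

end Cfsg.Agent.UGT.A7.B
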