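import Cfsg.Agent.UGT.A7.B.OneClaim
import Cfsg.Agent.UGT.A7.B.Defs

/-!
# [A7], beta-branch, World 1: the family `Fam`, and the choice (1)
-/

set_option autoImplicit false
set_option linter.unusedSectionVars false

open Cfsg Subgroup Equiv Equiv.Perm
open Cfsg.Agent.UAlt
open Cfsg.Agent.SignalizersComponents Cfsg.Agent.Lib
open Cfsg.Agent.SignalizersComponents.IntrinsicBasic
open Cfsg.Agent.Intrinsic.Basic Cfsg.Agent.Intrinsic.Cen Cfsg.Agent.Intrinsic.Diag
open Cfsg.Agent.McLLyComp.Act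
open Cfsg.Agent.UGT.Triple Cfsg.Agent.UGT.TriBase Cfsg.Agent.UGT.LemG Cfsg.Agent.UAlt.Nine
open scoped commutatorElement

namespace Cfsg.Agent.UGT.A7.B.One

universe u

variable {G : Type u} [Group G] [Finite G]

/-- `Fam` is invariant under conjugation -/
theorem fam_cj {a : G} {L : Subgroup G} (h : Fam a L) (g : G) : Fam (g * a * g⁻¹) (cj g L) where
  inv := by
    have h1 := orderOf_injective (MulAut.conj g).toMonoidHom (MulAut.conj g).injective a
    rw [h.inv] at h1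
    exact h1
  comp := by
    have h1 := h.comp.cj g
    rwa [cj_centralizer] at h1
  a7 := ⟨h.a7.some.cj g⟩
  bad := by
    intro l hl hl2
    rw [mem_cj] at hl
    have h1 : orderOf (g⁻¹ * l * g) = 2 := by
      have h2 := orderOf_injective (MulAut.conj g⁻¹).toMonoidHom (MulAut.conj g⁻¹).injective l
      rw [hl2] at h2
      have h3 : (MulAut.conj g⁻¹).toMonoidHom l = g⁻¹ * l * g := by
        change g⁻¹ * l * g⁻¹⁻¹ = _
        rw [inv_inv]
      rwa [h3] at h2
    have h2 := (h.bad _ hl h1).cj g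
    have h3 : g * (g⁻¹ * l * g) * g⁻¹ = l := by group
    rwa [h3] at h2

/-- World 1 -/
theorem wd_fam (hF : F1 G) (hU : Uniq G) : Wd (Fam (G := G)) where
  two := fun h => h.inv
  comp := fun h => h.comp
  lab := fun h => h.a7
  conj := fun g h => fam_cj h g
  uniq := fun h h' => hU _ _ _ h h'
  up := by
    intro s t K h ht hts hf
    obtain ⟨N, hN, h1⟩ := hF s t K h ht hts hf
    rcases h1 with h1 | h1
    · exact ⟨N, hN, h1.fix, h1.sup⟩
    · exfalso
      apply h1.ne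
      have h2 := fam_cj hN s
      have h3 : s * t * s⁻¹ = t := by rw [← hts, mul_inv_cancel_right]
      rw [h3] at h2
      exact hU _ _ _ h2 hN

/-! ### the choice -/

/-- groups of exponent 2 -/
theorem isPGroup_sq {E : Subgroup G} (h : ∀ e ∈ E, e * e = 1) : IsPGroup 2 ↥E := by
  rintro ⟨e, he⟩
  exact ⟨1, Subtype.ext (by rw [pow_one]; exact (pow_two e).trans (h e he))⟩

/-- `Fam`-pairs with a Sylow subgroup and a noncyclic `Q` -/
structure Pre (a : G) (K T : Subgroup G) : Prop where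
  fam : Fam a K
  syl : IsSyl (centralizer ({a} : Set G)) T
  four : ∃ q ∈ fix T K, q * q = 1 ∧ q ≠ 1 ∧ q ≠ a

omit [Finite G] in
theorem card_fix_le {T T' K K' : Subgroup G} [Finite G] (h : fix T K ≤ fix T' K') :
    Nat.card ↥(fix T K) ≤ Nat.card ↥(fix T' K') :=
  Nat.le_of_dvd Nat.card_pos (card_dvd_of_le h)

/-- **(1)** the choice of `(a, K, T)` -/
theorem choice1 : Choice1 G := by
  intro hF hU ⟨a₀, K₀, E, hfam, hE4, hE⟩
  have W := wd_fam hF hU
  -- a triple satisfying `Pre`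
  have hEa : E ≤ centralizer ({a₀} : Set G) := fun e he => mem_c (hE e he).2.1
  have hE2 : IsPGroup 2 ↥E := isPGroup_sq fun e he => (hE e he).1
  obtain ⟨T₀, hT₀, hET⟩ := exists_isSyl hE2 hEa
  have hex : ∃ p : G × Subgroup G × Subgroup G, Pre p.1 p.2.1 p.2.2 := by
    refine ⟨(a₀, K₀, T₀), hfam, hT₀, ?_⟩
    have h1 : ¬ (E : Set G) ⊆ {1, a₀} := by
      intro h
      have h2 := Set.ncard_le_ncard h (Set.toFinite _)
      have h3 : (E : Set G).ncard = 4 := hE4
      have h4 : ({1, a₀} : Set G).ncard ≤ 2 := by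
        have h5 := Set.ncard_insert_le (1 : G) {a₀}
        rwa [Set.ncard_singleton] at h5
      omega
    obtain ⟨q, hq, hq1⟩ := Set.not_subset.1 h1
    simp only [Set.mem_insert_iff, Set.mem_singleton_iff, not_or] at hq1
    exact ⟨q, mem_fix.2 ⟨hET hq, (hE q hq).2.2⟩, (hE q hq).1, hq1.1, hq1.2⟩
  -- lexicographic maximum
  let S : Set (G × Subgroup G × Subgroup G) := {p | Pre p.1 p.2.1 p.2.2}
  have hSf : S.Finite := Set.toFinite _
  let f : G × Subgroup G × Subgroup G → ℕ ×ₗ ℕ := fun p =>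
    toLex (Nat.card ↥(fix p.2.2 p.2.1), Nat.card ↥p.2.2)
  obtain ⟨p, hp, hmax⟩ := hSf.exists_maximalFor f S hex
  obtain ⟨a, K, T⟩ := p
  have hPre : Pre a K T := hp
  refine ⟨a, K, T, hPre.fam, hPre.syl, hPre.four, ?_⟩
  intro b hb hb2 hbT N hN
  have hbT' : b ∈ T := (mem_fix.1 hb).1
  have hba : b * a = a * b := comm_c (hPre.syl.le hbT')
  have hbK : Fixes b K := (mem_fix.1 hb).2
  have hTb : T ≤ centralizer ({b} : Set G) := fun t ht => mem_c (hbT t ht)
  obtain ⟨T', hT', hTT'⟩ := exists_isSyl hPre.syl.two hTb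
  have hle : fix T K ≤ fix T' N := by
    intro q hq
    obtain ⟨h1, h2⟩ := mem_fix.1 hq
    refine mem_fix.2 ⟨hTT' h1, (W.fix_iff hPre.fam hN hba hbK (comm_c (hPre.syl.le h1)) (hbT q h1)).2 h2⟩
  have haT : a ∈ T := mem_of_comm hPre.syl (mem_c rfl) (fun t ht => (comm_c (hPre.syl.le ht)).symm)
    (sq_of_order hPre.fam.inv)
  have haQ : a ∈ fix T K := mem_fix.2 ⟨haT, W.fixes_self hPre.fam⟩
  have hPre' : Pre b N T' := by
    refine ⟨hN, hT', ?_⟩
    by_cases hab : a = b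
    · obtain ⟨q, hq, h1, h2, h3⟩ := hPre.four
      exact ⟨q, hle hq, h1, h2, hab ▸ h3⟩
    · exact ⟨a, hle haQ, sq_of_order hPre.fam.inv, ne_one_of_order hPre.fam.inv, hab⟩
  have h1 : f (a, K, T) ≤ f (b, N, T') := by
    rw [Prod.Lex.le_iff]
    have h2 : Nat.card ↥(fix T K) ≤ Nat.card ↥(fix T' N) := card_fix_le hle
    rcases h2.lt_or_eq with h3 | h3
    · exact Or.inl h3
    · exact Or.inr ⟨h3, Nat.le_of_dvd Nat.card_pos (card_dvd_of_le hTT')⟩
  have h2 : f (b, N, T') ≤ f (a, K, T) := hmax hPre' h1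
  rw [Prod.Lex.le_iff] at h2
  have h3 : Nat.card ↥(fix T K) ≤ Nat.card ↥(fix T' N) := card_fix_le hle
  have h4 : Nat.card ↥T ≤ Nat.card ↥T' := Nat.le_of_dvd Nat.card_pos (card_dvd_of_le hTT')
  have h5 : Nat.card ↥(fix T' N) = Nat.card ↥(fix T K) ∧ Nat.card ↥T' ≤ Nat.card ↥T := by
    rcases h2 with h2 | ⟨h2, h2'⟩
    · exact absurd h3 (not_le.2 h2)
    · exact ⟨h2, h2'⟩
  have hTeq : T = T' := Subgroup.eq_of_le_of_card_ge hTT' h5.2
  subst hTeq
  exact ⟨hT', (Subgroup.eq_of_le_of_card_ge hle h5.1.le).symm⟩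

end Cfsg.Agent.UGT.A7.B.One
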