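import Cfsg.Agent.UGT.A7.B.OneK
import Cfsg.Agent.UGT.A7.B.OneWd

/-!
# [A7], beta-branch, World 1: `World1K`
-/

set_option autoImplicit false
set_option linter.unusedSectionVars false

open Cfsg Subgroup Equiv Equiv.Perm
open Cfsg.Agent.UAlt
open Cfsg.Agent.SignalizersComponents Cfsg.Agent.Lib
open Cfsg.Agent.SignalizersComponents.IntrinsicBasic
open Cfsg.Agent.Intrinsic.Basic Cfsg.Agent.Intrinsic.Cen Cfsg.Agent.Intrinsic.Diag
open Cfsg.Agent.UGT.Triple Cfsg.Agent.UGT.TriBase Cfsg.Agent.UGT.A7.Mu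
open Cfsg.Agent.UGT.A7.B.One Cfsg.Agent.UGT.A7.B.OneKBase Cfsg.Agent.UGT.A7.B.OneKPar Cfsg.Agent.UGT.A7.B.OneK

namespace Cfsg.Agent.UGT.A7.B.OneKFam

universe u

variable {G : Type u} [Group G] [Finite G]

/-- (K1)-(K3) of World 1 -/
theorem world1K : World1K G := by
  intro hs hF hU a l K L T E S2
  have S : Sit Fam a l K L T := ⟨wd_fam hF hU, S2.famK, S2.famL, S2.sylK, S2.sylL, S2.l_mem.2, S2.a_mem.2,
    fun p hp => (S2.fixK hp).2, fun r hr => (S2.fixL hr).2⟩
  have hG : commutator G = ⊤ := by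
    rcases IsSimpleGroup.eq_bot_or_eq_top_of_normal (commutator G) inferInstance with h | h
    · exfalso
      obtain ⟨p, -, q, -, hpq⟩ := S.eightP.nab
      apply hpq
      have h1 : p * q * p⁻¹ * q⁻¹ ∈ commutator G := commutator_mem_commutator (mem_top p) (mem_top q)
      rw [h, mem_bot, mul_inv_eq_one, mul_inv_eq_iff_eq_mul] at h1
      exact h1
    · exact h
  refine sit_false S hG ?_
  by_contra hcard
  push Not at hcard
  obtain ⟨MK⟩ := S2.famK.a7
  obtain ⟨ML⟩ := S2.famL.a7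
  have hDT : Dv K T MK S.TN = T :=
    eq_of_le_of_card_ge (fun t ht => ht.1) (by rw [card_Dv S hG MK]; exact hcard)
  apply S2.ne
  rw [eq_bot_iff_forall]
  intro e he
  have heT := S2.le he
  have h1 : sign (MK.φ e) = 1 := by
    have h2 : e ∈ Dv K T MK S.TN := by rw [hDT]; exact heT
    exact h2.2
  have h2 : sign (ML.φ e) = 1 := by rw [← sign_eq_sign S hG MK ML heT]; exact h1
  have hsw : ∀ {σ : Perm (Fin 7)}, (σ = 1 ∨ ∃ i j, i ≠ j ∧ σ = swap i j) → sign σ = 1 → σ = 1 := by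
    rintro σ (h | ⟨i, j, hij, rfl⟩) h3
    · exact h
    · rw [sign_swap hij] at h3
      exact absurd h3 (by decide)
  refine S2.inf e he ?_ ?_
  · exact (MK.fixes_iff (S.TN heT)).1 (hsw (S2.actK MK e he) h1)
  · exact (ML.fixes_iff (S.symm.TN heT)).1 (hsw (S2.actL ML e he) h2)

end Cfsg.Agent.UGT.A7.B.OneKFam
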