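import Cfsg.Agent.UGT.A7.B.OneNN
import Cfsg.Agent.UGT.A7.Star7

/-!
# [A7], beta-branch, World 1, O-type: `T = (T ∩ K) × (T ∩ L) × E`
-/

set_option autoImplicit false
set_option linter.unusedSectionVars false

open Cfsg Subgroup Equiv Equiv.Perm
open Cfsg.Agent.UAlt
open Cfsg.Agent.SignalizersComponents Cfsg.Agent.Lib
open Cfsg.Agent.SignalizersComponents.IntrinsicBasic
open Cfsg.Agent.Intrinsic.Basic Cfsg.Agent.Intrinsic.Cen Cfsg.Agent.Intrinsic.Diag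
open Cfsg.Agent.McLLyComp.Act
open Cfsg.Agent.UGT.Triple Cfsg.Agent.UGT.TriBase Cfsg.Agent.UGT.LemG Cfsg.Agent.UAlt.Nine
open scoped commutatorElement

namespace Cfsg.Agent.UGT.A7.B.One

universe u

variable {G : Type u} [Group G] [Finite G]

/-- labels of a 2-group commuting with `X`, `X` of order 8 in `L` -/
theorem lab_V0 {L X : Subgroup G} (M : Lab L) (hX : IsPGroup 2 ↥X) (hXL : X ≤ L) (h8 : Nat.card ↥X = 8)
    (hW : ∀ x ∈ X, M.φ x ∈ W0) {p : G} (hpL : p ∈ normalizer (L : Set G)) (hpW : M.φ p ∈ W0)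
    (hp : ∀ x ∈ X, p * x = x * p) : M.φ p ∈ V0 := by
  have hs := lab_surj M hX hXL h8 hW
  obtain ⟨x, hx, hxe⟩ := hs _ (g0_mem (DihedralGroup.r 1))
  obtain ⟨y, hy, hye⟩ := hs _ (g0_mem (DihedralGroup.sr 0))
  have hN : X ≤ normalizer (L : Set G) := hXL.trans le_normalizer
  exact mem_V0.2 (mem_four (hW x hx) (hW y hy) hpW (by rw [hxe, hye]; decide)
    (M.comm hpL (hN hx) (hp x hx)) (M.comm hpL (hN hy) (hp y hy)))

/-- an injective 2-group of labels in `W0` of order `≥ 8` without `w0` covers `W0 / ⟨w0⟩` -/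
theorem exists_over {L Q : Subgroup G} (M : Lab L) (hQN : Q ≤ normalizer (L : Set G))
    (hW : ∀ q ∈ Q, M.φ q ∈ W0) (hinj : ∀ q ∈ Q, M.φ q = 1 → q = 1) (hw : ∀ q ∈ Q, M.φ q ≠ w0)
    (h8 : 8 ≤ Nat.card ↥Q) {σ : Perm (Fin 7)} (hσ : σ ∈ P0) :
    ∃ q ∈ Q, M.φ q = σ ∨ M.φ q = w0 * σ := by
  have hform : ∀ q : ↥Q, ∃ τ : ↥P0, M.φ q = τ ∨ M.φ q = w0 * τ := by
    intro q
    rcases W0_cases (hW q q.2) with h | h
    · exact ⟨⟨_, h⟩, Or.inl rfl⟩
    · exact ⟨⟨_, h⟩, Or.inr (by rw [← mul_assoc, w0w0, one_mul])⟩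
  choose f hf using hform
  have hfi : Function.Injective f := by
    intro q q' hqq
    have h1 := hf q
    have h2 := hf q'
    rw [hqq] at h1
    have hqN := hQN q.2
    have hqN' := hQN q'.2
    have h3 : M.φ ((q : G) * (q' : G)⁻¹) = 1 ∨ M.φ ((q : G) * (q' : G)⁻¹) = w0 := by
      rw [M.mul _ _ hqN (inv_mem hqN'), M.inv hqN']
      rcases h1 with h1 | h1 <;> rcases h2 with h2 | h2 <;> rw [h1, h2]
      · left; rw [mul_inv_cancel]
      · right
        rw [mul_inv_rev, ← mul_assoc, mul_inv_cancel, one_mul, inv_eq_of_mul_eq_one_left w0w0]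
      · right
        rw [mul_inv_cancel_right]
      · left; rw [mul_inv_cancel]
    have h4 : (q : G) * (q' : G)⁻¹ ∈ Q := Q.mul_mem q.2 (Q.inv_mem q'.2)
    rcases h3 with h3 | h3
    · exact Subtype.ext (mul_inv_eq_one.1 (hinj _ h4 h3))
    · exact absurd h3 (hw _ h4)
  have hb : Function.Bijective f := by
    rw [Nat.bijective_iff_injective_and_card]
    refine ⟨hfi, le_antisymm (Nat.card_le_card_of_injective f hfi) ?_⟩
    rw [card_P0]
    exact h8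
  obtain ⟨q, hq⟩ := hb.2 ⟨σ, hσ⟩
  have h1 := hf q
  rw [hq] at h1
  exact ⟨q, q.2, h1⟩

/-- labels of `K` are unique up to relabelling -/
theorem swap_of_swap {K : Subgroup G} (M M' : Lab K) {e : G} (he : e ∈ normalizer (K : Set G))
    (h : M.φ e = 1 ∨ M.φ e = w0) : M'.φ e = 1 ∨ ∃ i j, i ≠ j ∧ M'.φ e = swap i j := by
  obtain ⟨τ, -, hτ⟩ := M.exists_bij_five M' (by rw [Finset.card_univ, Fintype.card_fin]; norm_num)
    (by rw [Finset.card_univ, Fintype.card_fin]; norm_num)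
  rw [hτ e he]
  rcases h with h | h
  · left
    rw [h, mul_one, mul_inv_cancel]
  · right
    refine ⟨τ 4, τ 5, fun h1 => absurd (τ.injective h1) (by decide), ?_⟩
    rw [h, w0, swap_apply_apply]

/-- **(N) gives `P ≤ F(l)`** -/
theorem fixK (hF : F1 G) (hU : Uniq G) {a l : G} {K L T : Subgroup G} (h : Mid a l K L T)
    (ML : Lab L) (FL : Fr7 l L T ML) (h8 : 8 ≤ Nat.card ↥(fix T K)) : T ⊓ K ≤ fix T L := by
  have W := wd_fam hF hU
  have hT := h.s.syl.two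
  have hTl : ∀ t ∈ T, t * l = l * t := fun t ht => comm_c (h.sylL.le ht)
  have hTLN := FL.TN
  have hPL2 : IsPGroup 2 ↥(T ⊓ L : Subgroup G) := hT.to_le inf_le_left
  have hWL : ∀ x ∈ T ⊓ L, ML.φ x ∈ W0 := fun x hx => FL.inW x hx.1
  obtain ⟨A, hA⟩ : ∃ A : Set (Perm (Fin 7)), A = {x | ∃ p ∈ T ⊓ K, ML.φ p = x} := ⟨_, rfl⟩
  have hAV : ∀ x ∈ A, x ∈ V0 := by
    rw [hA]
    rintro x ⟨p, hp, rfl⟩
    exact lab_V0 ML hPL2 inf_le_right h.eL.card hWL (hTLN hp.1) (FL.inW p hp.1)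
      fun x hx => h.comm p hp x hx
  have hNN : ∀ r ∈ fix T K, orderOf r = 2 → NN A (ML.φ r) := by
    intro r hr hr2
    rw [hA]
    exact W.nn h.s.fam h.famL hT (fun t ht => Sit1.comm h.s ht) hTl h.eK ML (fix_le T K hr)
      (mem_fix.1 hr).2 hr2
  have hA1 : ∀ x ∈ A, x = 1 := by
    by_cases hc1 : ∃ r ∈ fix T K, orderOf r = 2 ∧ ML.φ r = 1
    · obtain ⟨r, hr, hr2, hr1⟩ := hc1
      have h1 := hNN r hr hr2
      rw [hr1] at h1
      obtain ⟨h2, h3, h4⟩ := excl_one hAV h1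
      exact triv_of hAV h2 h3 h4
    push Not at hc1
    have hQT : fix T K ≤ T := fix_le T K
    have hinj : ∀ q ∈ fix T K, ML.φ q = 1 → q = 1 := by
      intro q hq h1
      refine eq_one_of_no_inv (K' := L) (hT.to_le hQT) (fun z hz hz2 hf => ?_) hq
        ((ML.fixes_iff (hTLN (hQT hq))).1 h1)
      exact hc1 z hz hz2 ((ML.fixes_iff (hTLN (hQT hz))).2 hf)
    have hinv : ∀ q ∈ fix T K, ML.φ q ≠ 1 → ML.φ q * ML.φ q = 1 → orderOf q = 2 := by
      intro q hq h1 h2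
      refine order_two (hinj _ (mul_mem hq hq) ?_) ?_
      · rw [ML.mul _ _ (hTLN (hQT hq)) (hTLN (hQT hq)), h2]
      · rintro rfl
        exact h1 ML.one
    have haz : ML.φ a = z0 := lab_center ML hPL2 inf_le_right hWL h.eL
    have haQ := Sit1.aQ h.s
    by_cases hc2 : ∃ r ∈ fix T K, ML.φ r = w0
    · obtain ⟨r, hr, hrw⟩ := hc2
      have h1 := hNN r hr (hinv r hr (by rw [hrw]; decide) (by rw [hrw, w0w0]))
      rw [hrw] at h1
      obtain ⟨h2, h3⟩ := excl_w0 hAV h1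
      have h4 : ML.φ (a * r) = z0 * w0 := by
        rw [ML.mul _ _ (hTLN (hQT haQ)) (hTLN (hQT hr)), haz, hrw]
      have h5 := hNN (a * r) (mul_mem haQ hr) (hinv _ (mul_mem haQ hr) (by rw [h4]; decide)
        (by rw [h4]; decide))
      rw [h4] at h5
      exact triv_of hAV h2 h3 (excl_z0w0 hAV h5)
    push Not at hc2
    have hover : ∀ σ ∈ P0, ∃ q ∈ fix T K, ML.φ q = σ ∨ ML.φ q = w0 * σ := fun σ hσ =>
      exists_over ML (hQT.trans hTLN) (fun q hq => FL.inW q (hQT hq)) hinj hc2 h8 hσ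
    obtain ⟨q, hq, hqv⟩ := hover v1 v1_mem
    obtain ⟨q', hq', hqv'⟩ := hover v2 v2_mem
    have h1 : NN A v1 ∨ NN A (w0 * v1) := by
      rcases hqv with h1 | h1
      · left
        have h2 := hNN q hq (hinv q hq (by rw [h1]; decide) (by rw [h1]; decide))
        rwa [h1] at h2
      · right
        have h2 := hNN q hq (hinv q hq (by rw [h1]; decide) (by rw [h1]; decide))
        rwa [h1] at h2
    have h1' : NN A v2 ∨ NN A (w0 * v2) := by
      rcases hqv' with h1 | h1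
      · left
        have h2 := hNN q' hq' (hinv q' hq' (by rw [h1]; decide) (by rw [h1]; decide))
        rwa [h1] at h2
      · right
        have h2 := hNN q' hq' (hinv q' hq' (by rw [h1]; decide) (by rw [h1]; decide))
        rwa [h1] at h2
    obtain ⟨h2, h3⟩ := excl_v1 hAV h1
    exact triv_of hAV h2 h3 (excl_v2 hAV h1')
  intro p hp
  exact mem_fix.2 ⟨hp.1, (ML.fixes_iff (hTLN hp.1)).1 (hA1 _ (hA ▸ ⟨p, hp, rfl⟩))⟩

/-- **`P_l ≤ F(a)`** -/
theorem fixL (hF : F1 G) (hU : Uniq G) {a l : G} {K L T : Subgroup G} (h : Mid a l K L T)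
    (M : Lab K) (F : Fr7 a K T M) (hfix : T ⊓ K ≤ fix T L) : T ⊓ L ≤ fix T K := by
  have W := wd_fam hF hU
  have hT := h.s.syl.two
  have hTl : ∀ t ∈ T, t * l = l * t := fun t ht => comm_c (h.sylL.le ht)
  have hTKN := F.TN
  have hPK2 : IsPGroup 2 ↥(T ⊓ K : Subgroup G) := hT.to_le inf_le_left
  have hWK : ∀ x ∈ T ⊓ K, M.φ x ∈ W0 := fun x hx => F.inW x hx.1
  obtain ⟨A, hA⟩ : ∃ A : Set (Perm (Fin 7)), A = {x | ∃ p ∈ T ⊓ L, M.φ p = x} := ⟨_, rfl⟩
  have hAV : ∀ x ∈ A, x ∈ V0 := by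
    rw [hA]
    rintro x ⟨p, hp, rfl⟩
    exact lab_V0 M hPK2 inf_le_right h.eK.card hWK (hTKN hp.1) (F.inW p hp.1)
      fun x hx => (h.comm x hx p hp).symm
  have hNN : ∀ r ∈ fix T L, orderOf r = 2 → NN A (M.φ r) := by
    intro r hr hr2
    rw [hA]
    exact W.nn h.famL h.s.fam hT hTl (fun t ht => Sit1.comm h.s ht) h.eL M (fix_le T L hr)
      (mem_fix.1 hr).2 hr2
  have hinv : ∀ q ∈ T ⊓ K, M.φ q ≠ 1 → M.φ q * M.φ q = 1 → orderOf q = 2 := by
    intro q hq h1 h2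
    refine order_two ?_ ?_
    · obtain ⟨n, hn⟩ := hT ⟨q * q, T.mul_mem hq.1 hq.1⟩
      refine eq_one_of_lab M (K.mul_mem hq.2 hq.2) (n := n) (congrArg Subtype.val hn) ?_
      rw [M.mul _ _ (hTKN hq.1) (hTKN hq.1), h2]
    · rintro rfl
      exact h1 M.one
  have hs := lab_surj M hPK2 inf_le_right h.eK.card hWK
  obtain ⟨q, hq, hqv⟩ := hs v1 v1_mem
  obtain ⟨q', hq', hqv'⟩ := hs v2 v2_mem
  have h1 := hNN q (hfix hq) (hinv q hq (by rw [hqv]; decide) (by rw [hqv]; decide))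
  have h2 := hNN q' (hfix hq') (hinv q' hq' (by rw [hqv']; decide) (by rw [hqv']; decide))
  rw [hqv] at h1
  rw [hqv'] at h2
  obtain ⟨h3, h4⟩ := excl_v1 hAV (Or.inl h1)
  have hA1 := triv_of hAV h3 h4 (excl_v2 hAV (Or.inl h2))
  intro p hp
  exact mem_fix.2 ⟨hp.1, (M.fixes_iff (hTKN hp.1)).1 (hA1 _ (hA ▸ ⟨p, hp, rfl⟩))⟩

/-- **World 1, O-type** -/
theorem world1O : World1O G := by
  intro hF hU a₀ K₀ T h₀ hO
  have W := wd_fam hF hU
  obtain ⟨a, l, K, L, h⟩ := exists_mid hF hU h₀ hO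
  have hT := h.s.syl.two
  obtain ⟨M₀⟩ := h.s.fam.a7
  obtain ⟨M, -, -, F⟩ := exists_fr7 M₀ h.s.fam.comp (W.nor h.s.fam) h.s.syl (Sit1.aa h.s)
    (ne_one_of_order h.s.fam.inv)
  obtain ⟨M₀'⟩ := h.famL.a7
  obtain ⟨ML, -, -, FL⟩ := exists_fr7 M₀' h.famL.comp (W.nor h.famL) h.sylL h.eK.sq h.eK.ne
  have hTP := F.twoP
  have hTPL := FL.twoP
  have hTl : ∀ t ∈ T, t * l = l * t := fun t ht => comm_c (h.sylL.le ht)
  have haT := Sit1.aT h.s
  have haQ := Sit1.aQ h.s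
  have hTK := F.TN
  have hTL := FL.TN
  have hPKT : (T ⊓ K : Subgroup G) ≤ T := inf_le_left
  have hPLT : (T ⊓ L : Subgroup G) ≤ T := inf_le_left
  -- decomposition of `P_l`
  have hdec : ∀ r ∈ T ⊓ L, ∃ q ∈ Qs T K M F.TN, ∃ c, (c = 1 ∨ c = l) ∧ r = c * q := by
    intro r hr
    obtain ⟨c, hc, q, hq, hrcq⟩ := hTP.sup r hr.1
    refine ⟨q, hq, c, ?_, hrcq⟩
    apply h.eK.cen' c hc
    intro p hp
    have h1 := h.comm p hp r hr
    have h2 := hTP.comm p hp q hq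
    have h3 : c = r * q⁻¹ := by rw [hrcq]; group
    rw [h3]
    have h4 : q⁻¹ * p = p * q⁻¹ := by
      calc q⁻¹ * p = q⁻¹ * (p * q) * q⁻¹ := by group
        _ = q⁻¹ * (q * p) * q⁻¹ := by rw [h2]
        _ = _ := by group
    calc r * q⁻¹ * p = r * (q⁻¹ * p) := by group
      _ = r * (p * q⁻¹) := by rw [h4]
      _ = (r * p) * q⁻¹ := by group
      _ = (p * r) * q⁻¹ := by rw [h1]
      _ = _ := by group
  by_cases h8 : Nat.card ↥(Qs T K M F.TN) = 8
  · -- `Q*` nonabelian of order 8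
    left
    have hna : ∃ r ∈ Qs T K M F.TN, ∃ s ∈ Qs T K M F.TN, r * s ≠ s * r := by
      by_contra hcon
      push Not at hcon
      obtain ⟨r, hr, s, hs, hrs⟩ := h.eL.nab
      apply hrs
      obtain ⟨q, hq, c, hc, rfl⟩ := hdec r hr
      obtain ⟨q', hq', c', hc', rfl⟩ := hdec s hs
      have hcc : ∀ t ∈ T, t * c = c * t := by
        rcases hc with rfl | rfl
        · intro t _; rw [one_mul, mul_one]
        · exact hTl
      have hcc' : ∀ t ∈ T, t * c' = c' * t := by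
        rcases hc' with rfl | rfl
        · intro t _; rw [one_mul, mul_one]
        · exact hTl
      have hqT := (mem_Qs.1 hq).1
      have hqT' := (mem_Qs.1 hq').1
      have hcT : c ∈ T := by
        rcases hc with rfl | rfl
        · exact T.one_mem
        · exact h.eK.mem.1
      have e1 := hcon q hq q' hq'
      calc c * q * (c' * q') = c * (q * c') * q' := by group
        _ = c * (c' * q) * q' := by rw [hcc' q hqT]
        _ = (c * c') * (q * q') := by group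
        _ = (c' * c) * (q' * q) := by rw [e1, hcc' c hcT]
        _ = c' * (c * q') * q := by group
        _ = c' * (q' * c) * q := by rw [hcc q' hqT']
        _ = _ := by group
    obtain ⟨c, hc⟩ := exists_eightS h8 hna
    have hac : a = c := by
      rcases hc.cen' a (F.fix_le_Qs haQ) (fun q hq => (Sit1.comm h.s (mem_Qs.1 hq).1).symm) with h1 | h1
      · exact absurd h1 (ne_one_of_order h.s.fam.inv)
      · exact h1
    rw [← hac] at hc
    exact rank_of_eight h.eK hc hTP h.s.syl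
  right
  -- `|Q*| ≥ 16`
  have hcardT : Nat.card ↥T = 8 * Nat.card ↥(Qs T K M F.TN) := by rw [hTP.card, h.eK.card]
  have hTwo : TwoP ((T ⊓ K) ⊔ (T ⊓ L)) (T ⊓ K) (T ⊓ L) := by
    refine ⟨le_sup_left, le_sup_right, ?_, h.comm, h.dis⟩
    intro t ht
    have hle : (T ⊓ K : Subgroup G) ≤ normalizer ((T ⊓ L : Subgroup G) : Set G) := by
      intro p hp
      refine mem_normalizer_fintype fun x hx => conj_mem_inf hTL hp.1 hx
    have h1 : t ∈ ((((T ⊓ K) ⊔ (T ⊓ L) : Subgroup G)) : Set G) := ht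
    rw [Subgroup.coe_mul_of_left_le_normalizer_right _ _ hle] at h1
    obtain ⟨p, hp, r, hr, rfl⟩ := h1
    exact ⟨p, hp, r, hr, rfl⟩
  have h64 : 64 ≤ Nat.card ↥T := by
    have h1 := hTwo.card
    rw [h.eK.card, h.eL.card] at h1
    have h2 : ((T ⊓ K) ⊔ (T ⊓ L) : Subgroup G) ≤ T := sup_le inf_le_left inf_le_left
    have h3 := Nat.le_of_dvd Nat.card_pos (card_dvd_of_le h2)
    omega
  have hQs2 : IsPGroup 2 ↥(Qs T K M F.TN) := hT.to_le hTP.RT
  have h16 : 16 ≤ Nat.card ↥(Qs T K M F.TN) := by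
    have hp : Fact (Nat.Prime 2) := ⟨Nat.prime_two⟩
    obtain ⟨k, hk⟩ := hQs2.exists_card_eq
    rw [hk] at h8 hcardT ⊢
    have h1 : 8 ≤ 2 ^ k := by omega
    have h2 : 3 ≤ k := by
      by_contra hlt
      have h3 : 2 ^ k ≤ 2 ^ 2 := Nat.pow_le_pow_right (by norm_num) (by omega)
      omega
    have h3 : k ≠ 3 := by
      rintro rfl
      exact h8 rfl
    calc 16 = 2 ^ 4 := by norm_num
      _ ≤ 2 ^ k := Nat.pow_le_pow_right (by norm_num) (by omega)
  have hQ8 : 8 ≤ Nat.card ↥(fix T K) := by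
    by_cases hw : ∃ w ∈ Qs T K M F.TN, M.φ w = w0
    · obtain ⟨w, hw, hφ⟩ := hw
      have h1 := F.card_Qs hw hφ
      omega
    · push Not at hw
      rw [← F.Qs_eq hw]
      omega
  have hfK := fixK hF hU h ML FL hQ8
  have hfL := fixL hF hU h M F hfK
  -- `E`
  obtain ⟨E, hE⟩ : ∃ E, E = Qs T K M F.TN ⊓ Qs T L ML FL.TN := ⟨_, rfl⟩
  have hEK : ∀ e ∈ E, e ∈ Qs T K M F.TN := by
    rw [hE]
    exact fun e he => he.1
  have hEL : ∀ e ∈ E, e ∈ Qs T L ML FL.TN := by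
    rw [hE]
    exact fun e he => he.2
  have hET : E ≤ T := fun e he => (mem_Qs.1 (hEK e he)).1
  -- `Q* = P_l E`
  have hQE : ∀ q ∈ Qs T K M F.TN, ∃ r ∈ T ⊓ L, ∃ e ∈ E, q = r * e := by
    intro q hq
    obtain ⟨r, hr, e, he, hqre⟩ := hTPL.sup q (mem_Qs.1 hq).1
    refine ⟨r, hr, e, ?_, hqre⟩
    rw [hE]
    refine ⟨?_, he⟩
    have h1 : e = r⁻¹ * q := by rw [hqre]; group
    have h2 : r⁻¹ * q ∈ Qs T K M F.TN := mul_mem (inv_mem (F.fix_le_Qs (hfL hr))) hq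
    rw [← h1] at h2
    exact h2
  refine ⟨a, l, K, L, T, E, h.s.fam, h.famL, h.s.syl, h.sylL, h.eK.mem, h.eL.mem, hfK, hfL, ?_, hET, ?_,
    ?_, ?_, ?_, ?_, ?_⟩
  · -- `E ≠ 1`
    intro hbot
    have h1 : Qs T K M F.TN ≤ T ⊓ L := by
      intro q hq
      obtain ⟨r, hr, e, he, rfl⟩ := hQE q hq
      rw [hbot, mem_bot] at he
      rw [he, mul_one]
      exact hr
    have h2 := Nat.le_of_dvd Nat.card_pos (card_dvd_of_le h1)
    rw [h.eL.card] at h2
    omega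
  · intro t ht
    obtain ⟨p, hp, q, hq, rfl⟩ := hTP.sup t ht
    obtain ⟨r, hr, e, he, rfl⟩ := hQE q hq
    exact ⟨p, hp, r, hr, e, he, by group⟩
  · exact fun e he p hp => (hTP.comm p hp e (hEK e he)).symm
  · exact fun e he p hp => (hTPL.comm p hp e (hEL e he)).symm
  · exact fun M' e he => swap_of_swap M M' (hTK (hET he)) (mem_Qs.1 (hEK e he)).2
  · exact fun M' e he => swap_of_swap ML M' (hTL (hET he)) (mem_Qs.1 (hEL e he)).2
  · -- `E ∩ F(a) ∩ F(l) = 1`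
    intro e he heK heL
    by_contra hne
    obtain ⟨n, hn⟩ := hT ⟨e, hET he⟩
    obtain ⟨k, hk⟩ := exists_pow_inv (n := n) (congrArg Subtype.val hn) hne
    have hek : e ^ k ∈ fix T K := pow_mem (mem_fix.2 ⟨hET he, heK⟩) k
    have hek' : e ^ k ∈ fix T L := pow_mem (mem_fix.2 ⟨hET he, heL⟩) k
    have hekT := fix_le T K hek
    obtain ⟨N, hN, -, hcen, -⟩ := W.up_fix h.s.fam hk (Sit1.comm h.s hekT) (mem_fix.1 hek).2
    have hcenL := W.cen_le' h.famL hN (hTl _ hekT) (mem_fix.1 hek').2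
    have hPN : ∀ p ∈ T ⊓ K, p ∈ N := by
      intro p hp
      obtain ⟨n, hn⟩ := hT ⟨p, hp.1⟩
      exact hcen (mem_cen hp.2 (comm_fix hT hp.1 hp.2 hekT (mem_fix.1 hek).2).symm (n := n)
        (congrArg Subtype.val hn))
    have hPN' : ∀ p ∈ T ⊓ L, p ∈ N := by
      intro p hp
      obtain ⟨n, hn⟩ := hT ⟨p, hp.1⟩
      exact hcenL (mem_cen hp.2 (comm_fix hT hp.1 hp.2 hekT (mem_fix.1 hek').2).symm (n := n)
        (congrArg Subtype.val hn))
    have h1 : ((T ⊓ K) ⊔ (T ⊓ L) : Subgroup G) ≤ N := sup_le hPN hPN'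
    have h2 : IsPGroup 2 ↥((T ⊓ K) ⊔ (T ⊓ L) : Subgroup G) :=
      hT.to_le (sup_le inf_le_left inf_le_left)
    have h3 := card_two_le hN.a7.some h2 h1
    rw [hTwo.card, h.eK.card, h.eL.card] at h3
    omega

end Cfsg.Agent.UGT.A7.B.One
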