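import Cfsg.Agent.UGT.A7.B.RedBase

/-!
# [A7], beta-branch, the reduction (R) (#14403), (R4): witnesses
-/

set_option autoImplicit false

open Cfsg Subgroup
open Cfsg.Agent.SignalizersComponents.IntrinsicBasic
open Cfsg.Agent.UGT.A7.B

namespace Cfsg.Agent.UGT.A7.BR

universe u

variable {G : Type u} [Group G]

/-- `t` is a witness for `l ∈ K ∈ U(t)`: `|U(t)| = |U(l)|` is maximal and `t` normalizes all members of `U(l)` -/
structure Wit (t l : G) (K : Subgroup G) : Prop where
  fam : Fam t K
  mem : l ∈ K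
  ord : orderOf l = 2
  max : ∀ s : G, (US s).ncard ≤ (US t).ncard
  card : (US l).ncard = (US t).ncard
  two : 2 ≤ (US t).ncard
  norm : ∀ N, Fam l N → t ∈ normalizer (N : Set G)

end Cfsg.Agent.UGT.A7.BR
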