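import Cfsg.Agent.UGT.A7.B.RedOne
import Cfsg.Agent.UGT.A7.B.RedWitDef
import Cfsg.Agent.UAlt.Rig

/-!
# [A7], beta-branch, the reduction (R) (#14403), (R4): witnesses give (A)

`l` is good if it has a witness. `Good l N m`: the conclusion of (A1) for `m ∈ I(N)`, `N ∈ U(l)`.
-/

set_option autoImplicit false
set_option linter.unusedSectionVars false

open Cfsg Subgroup Equiv Equiv.Perm
open Cfsg.Agent.UAlt
open Cfsg.Agent.SignalizersComponents Cfsg.Agent.Lib
open Cfsg.Agent.SignalizersComponents.IntrinsicBasic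
open Cfsg.Agent.Intrinsic.Basic Cfsg.Agent.Intrinsic.Cen Cfsg.Agent.Intrinsic.Diag
open Cfsg.Agent.McLLyComp.Act
open Cfsg.Agent.UGT.Triple Cfsg.Agent.UGT.TriBase
open Cfsg.Agent.UGT.A7.B Cfsg.Agent.UGT.A7.BW
open scoped commutatorElement

namespace Cfsg.Agent.UGT.A7.BR

universe u

variable {G : Type u} [Group G] [Finite G] {a b c l m s t g e y : G} {L L' N N' K D X Y Kj : Subgroup G}

/-- the conclusion of (A1) -/
structure Good (l : G) (N : Subgroup G) (m : G) : Prop where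
  wit : ∃ t K, Wit t m K
  star : ∃ Y, Fam m Y ∧ l ∈ Y ∧ ∀ X, Fam m X → X = Y ∨ ∃ N', Fam l N' ∧ N' ≠ N ∧ TrivUp l m N' X
  triv : ∀ N', Fam l N' → N' ≠ N → ∃ X, Fam m X ∧ TrivUp l m N' X

theorem orderOf_cj (g x : G) : orderOf (g * x * g⁻¹) = orderOf x := by
  rw [show g * x * g⁻¹ = MulAut.conj g x from rfl, MulEquiv.orderOf_eq]

theorem fam_of_cj (h : Fam (g * a * g⁻¹) N) : Fam a (cj g⁻¹ N) := by
  have h1 := h.cj g⁻¹
  have h2 : g⁻¹ * (g * a * g⁻¹) * g⁻¹⁻¹ = a := by group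
  rwa [h2] at h1

theorem Wit.cj (h : Wit t l K) (g : G) :
    Wit (g * t * g⁻¹) (g * l * g⁻¹) (IntrinsicBasic.cj g K) where
  fam := h.fam.cj g
  mem := conj_mem_cj h.mem
  ord := by rw [orderOf_cj]; exact h.ord
  max := fun s => by rw [card_US_cj]; exact h.max s
  card := by rw [card_US_cj, card_US_cj]; exact h.card
  two := by rw [card_US_cj]; exact h.two
  norm := by
    intro N hN
    have h1 := h.norm _ (fam_of_cj hN)
    rw [mem_normalizer_iff_cj] at h1 ⊢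
    rw [← IntrinsicBasic.cj_mul] at h1
    have h2 : g * t * g⁻¹ = g * (t * g⁻¹) := by group
    rw [h2, IntrinsicBasic.cj_mul, h1, ← IntrinsicBasic.cj_mul, mul_inv_cancel, cj_one]

/-- transport by an element of `C(l)` normalizing the members of `U(l)` -/
theorem Good.transport (h : Good l N m) {k : G} (hkl : k * l = l * k)
    (hk : ∀ N', Fam l N' → cj k N' = N') : Good l N (k * m * k⁻¹) := by
  have hl : k * l * k⁻¹ = l := by rw [hkl, mul_inv_cancel_right]
  have hup : ∀ N' X, Fam l N' → TrivUp l m N' X → TrivUp l (k * m * k⁻¹) N' (cj k X) := by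
    intro N' X hN' hX
    have h1 := trivUp_cj hX k
    rwa [hl, hk N' hN'] at h1
  obtain ⟨⟨t, K, hW⟩, ⟨Y, hY, hlY, hall⟩, htr⟩ := h
  refine ⟨⟨_, _, hW.cj k⟩, ⟨cj k Y, hY.cj k, ?_, ?_⟩, ?_⟩
  · have h1 := conj_mem_cj (g := k) hlY
    rwa [hl] at h1
  · intro X hX
    rcases hall _ (fam_of_cj hX) with h1 | ⟨N', h1, h2, h3⟩
    · left
      rw [← h1, cj_cj_inv]
    · right
      refine ⟨N', h1, h2, ?_⟩
      have h4 := hup N' _ h1 h3
      rwa [cj_cj_inv] at h4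
  · intro N' h1 h2
    obtain ⟨X, h3, h4⟩ := htr N' h1 h2
    exact ⟨cj k X, h3.cj k, hup N' X h1 h4⟩

/-- **LEMMA A**, for `m ∈ K_j` commuting with `l` -/
theorem lemA (hF : F1 G) (h : Wit t l K) (hj : Fam t Kj) (hne : Kj ≠ K) (hN : Fam l N)
    (hup : TrivUp t l Kj N) (hm : m ∈ Kj) (hml : m * l = l * m) (ho : orderOf m = 2) :
    Wit t m Kj ∧ (∃ Y, Fam m Y ∧ l ∈ Y ∧
      ∀ X, Fam m X → X = Y ∨ ∃ N', Fam l N' ∧ N' ≠ N ∧ TrivUp l m N' X) ∧
      ∀ N', Fam l N' → N' ≠ N → ∃ X, Fam m X ∧ TrivUp l m N' X := by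
  have tt := h.fam.aa
  have ll := sq_of_order h.ord
  have mm := sq_of_order ho
  have hlt : l * t = t * l := h.fam.comm h.mem
  have hmt : m * t = t * m := hj.comm hm
  have hmN : m ∈ N := hup.le (mem_cen_of_sq hm hml mm)
  have hmK : Fixes m K := h.fam.comp.fixes_of_mem hj.comp hne.symm hm
  have hlc : l ∈ cen K m := mem_cen_of_sq h.mem hml.symm ll
  -- `𝒮`
  have hScard : (US l \ {N}).ncard + 1 = (US t).ncard := by
    rw [← h.card]
    exact Set.ncard_sdiff_singleton_add_one (show N ∈ US l from hN) (Set.toFinite _)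
  have hS : ∀ N' ∈ US l \ {N}, Fam l N' ∧ Fixes m N' := fun N' hN' =>
    ⟨hN'.1, hN'.1.comp.fixes_of_mem hN.comp hN'.2 hmN⟩
  obtain ⟨Y, hY, hYu⟩ := hF t m K h.fam ho hmt hmK
  have hmax := h.max m
  rcases hYu with hYu | hYu
  · -- trivial
    have hlY : l ∈ Y := hYu.le hlc
    have hlYN : cj l Y = Y := cj_eq_self_of_mem hlY
    have hnf : ¬ Fixes l Y := fam_not_fixes hY hlY h.ord
    obtain ⟨c1, c2, c3⟩ := count (𝒮 := US l \ {N}) (𝒴 := {Y}) hF ll ho hml hS
      (by rintro Z rfl; exact hY) (by rintro Z rfl; exact hlYN)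
      (by
        rintro N' hN' Z rfl hu
        rcases hu with hu | hu
        · exact hnf hu.fix
        · exact hu.ne hlYN)
      (by rw [Set.ncard_singleton]; omega)
    rw [Set.ncard_singleton, hScard] at c3
    have htr : ∀ N', Fam l N' → N' ≠ N → ∃ X, Fam m X ∧ TrivUp l m N' X := fun N' h1 h2 =>
      c1 N' ⟨h1, h2⟩
    have hall : ∀ X, Fam m X → X = Y ∨ ∃ N', Fam l N' ∧ N' ≠ N ∧ TrivUp l m N' X := by
      intro X hX
      rcases c2 X hX with h1 | ⟨N', h1, h2⟩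
      · exact Or.inl h1
      · exact Or.inr ⟨N', h1.1, h1.2, h2⟩
    refine ⟨⟨hj, hm, ho, h.max, c3, h.two, ?_⟩, ⟨Y, hY, hlY, hall⟩, htr⟩
    intro X hX
    rcases hall X hX with rfl | ⟨N', h1, h2, h3⟩
    · exact hYu.fix.1
    · have e1 := h.norm N' h1
      have e2 : t ∈ normalizer (cen N' m : Set G) := mem_normalizer_cen e1 hmt.symm
      have e3 := (isComp_cen h1.comp (mem_c hml) mm (hS N' ⟨h1, h2⟩).2).1
      exact mem_normalizer_of_le hX.comp e3 h3.le (mem_c hmt.symm) e2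
  · -- diagonal: impossible
    exfalso
    have htX : t ∈ centralizer ({m} : Set G) := mem_c hmt.symm
    have hback : cj t (cj t Y) = Y := by rw [← cj_mul, tt, cj_one]
    have hY' : Fam m (cj t Y) := hY.cj_mem hmt.symm
    have hld : l ∈ diag (centralizer ({m} : Set G)) Y t := hYu.eq ▸ hlc
    obtain ⟨M⟩ := hY.a7
    obtain ⟨n, hn, hnn, hcomm, hln⟩ := exists_split M hY.comp htX tt hYu.ne hld ll
    have hn1 : n ≠ 1 := by
      rintro rfl
      apply ne_one_of_order h.ord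
      rw [hln]; group
    have hn2 : orderOf n = 2 := orderOf_eq_prime (by rw [pow_two, hnn]) hn1
    have hnt : t * n * t⁻¹ ∈ cj t Y := conj_mem_cj hn
    have f1 : Fixes (t * n * t⁻¹) Y := hY.comp.fixes_of_mem hY'.comp hYu.ne.symm hnt
    have f2 : Fixes n (cj t Y) := hY'.comp.fixes_of_mem hY.comp hYu.ne hn
    have hnf : ¬ Fixes l Y := by
      intro hf
      have h1 : n = l * (t * n * t⁻¹)⁻¹ := by rw [hln]; group
      have h2 : Fixes n Y := h1 ▸ fixes_mul hf (fixes_inv f1)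
      exact fam_not_fixes hY hn hn2 h2
    have hnf' : ¬ Fixes l (cj t Y) := by
      intro hf
      have h1 := hf.cj t
      rw [hback, ← hlt, mul_inv_cancel_right] at h1
      exact hnf h1
    have hlYN : cj l Y = Y := by
      rw [← mem_normalizer_iff_cj, hln]
      exact mul_mem (le_normalizer hn) f1.1
    have hlYN' : cj l (cj t Y) = cj t Y := by
      rw [← cj_mul, hlt, cj_mul, hlYN]
    obtain ⟨-, -, c3⟩ := count (𝒮 := US l \ {N}) (𝒴 := {Y, cj t Y}) hF ll ho hml hS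
      (by
        rintro Z (rfl | rfl)
        · exact hY
        · exact hY')
      (by
        rintro Z (rfl | rfl)
        · rw [hlYN]; exact Or.inl rfl
        · rw [hlYN']; exact Or.inr rfl)
      (by
        rintro N' hN' Z (rfl | rfl) hu
        · rcases hu with hu | hu
          · exact hnf hu.fix
          · exact hu.ne hlYN
        · rcases hu with hu | hu
          · exact hnf' hu.fix
          · exact hu.ne hlYN')
      (by rw [Set.ncard_pair hYu.ne.symm]; omega)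
    rw [Set.ncard_pair hYu.ne.symm] at c3
    omega

/-- **LEMMA A** -/
theorem lemA' (hF : F1 G) (h : Wit t l K) (hj : Fam t Kj) (hne : Kj ≠ K) (hN : Fam l N)
    (hup : TrivUp t l Kj N) : ∀ m ∈ N, orderOf m = 2 → Good l N m := by
  intro m hm ho
  have ll := sq_of_order h.ord
  have hlt : l * t = t * l := h.fam.comm h.mem
  have hlj : Fixes l Kj := hj.comp.fixes_of_mem h.fam.comp hne h.mem
  obtain ⟨M⟩ := hj.a7
  obtain ⟨m₀, hm₀, ho₀, hml₀⟩ := exists_inv M hlj ll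
  have hm₀N : m₀ ∈ N := hup.le (mem_cen_of_sq hm₀ hml₀ (sq_of_order ho₀))
  obtain ⟨k, hk, hkm⟩ := exists_conj_inv hN.a7 hm₀N hm (sq_of_order ho₀) (sq_of_order ho)
    (ne_one_of_order ho₀) (ne_one_of_order ho)
  obtain ⟨h1, h2, h3⟩ := lemA hF h hj hne hN hup hm₀ hml₀ ho₀
  have hg : Good l N m₀ := ⟨⟨t, Kj, h1⟩, h2, h3⟩
  have h4 := hg.transport (hN.comm hk) fun N' hN' =>
    mem_normalizer_iff_cj.1 (mem_normalizer_of_comp hN'.comp hN.comp hk)
  rwa [hkm] at h4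

/-- **LEMMA B** -/
theorem lemB (hF : F1 G) (h : Wit t l K) (hN : Fam l N) : ∀ m ∈ N, orderOf m = 2 → Good l N m := by
  have ll := sq_of_order h.ord
  have hlt : l * t = t * l := h.fam.comm h.mem
  -- the pump-ups are trivial
  have htriv : ∀ Kj, Fam t Kj → Kj ≠ K → ∃ Nj, Fam l Nj ∧ TrivUp t l Kj Nj := by
    intro Kj hj hne
    obtain ⟨Nj, hNj, hu⟩ := hF t l Kj hj h.ord hlt (hj.comp.fixes_of_mem h.fam.comp hne h.mem)
    rcases hu with hu | hu
    · exact ⟨Nj, hNj, hu⟩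
    · exact absurd (mem_normalizer_iff_cj.1 (h.norm Nj hNj)) hu.ne
  by_cases hex : ∃ Kj, Fam t Kj ∧ Kj ≠ K ∧ TrivUp t l Kj N
  · obtain ⟨Kj, hj, hne, hup⟩ := hex
    exact lemA' hF h hj hne hN hup
  -- the extra member
  obtain ⟨Kj, hj, hne⟩ : ∃ Kj, Fam t Kj ∧ Kj ≠ K := by
    by_contra hcon
    push Not at hcon
    have h1 : US t ⊆ {K} := fun Z hZ => hcon Z hZ
    have h2 := Set.ncard_le_ncard h1 (Set.toFinite _)
    rw [Set.ncard_singleton] at h2
    have := h.two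
    omega
  obtain ⟨Nj, hNj, hup⟩ := htriv Kj hj hne
  have hNN : N ≠ Nj := by
    rintro rfl
    exact hex ⟨Kj, hj, hne, hup⟩
  obtain ⟨M⟩ := hj.a7
  obtain ⟨m', hm', ho', hml'⟩ := exists_inv M (hj.comp.fixes_of_mem h.fam.comp hne h.mem) ll
  have mm' := sq_of_order ho'
  have hm'N : m' ∈ Nj := hup.le (mem_cen_of_sq hm' hml' mm')
  obtain ⟨hW, ⟨Y, hY, hlY, -⟩, htr⟩ := lemA hF h hj hne hNj hup hm' hml' ho'
  obtain ⟨X₀, hX₀, hup₀⟩ := htr N hN hNN
  have hfix : Fixes m' N := hN.comp.fixes_of_mem hNj.comp hNN hm'N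
  have hW' : Wit m' l Y := by
    refine ⟨hY, hlY, h.ord, fun s => ?_, ?_, ?_, fun N' hN' => ?_⟩
    · rw [hW.card]; exact h.max s
    · rw [hW.card]; exact h.card
    · rw [hW.card]; exact h.two
    · exact mem_normalizer_of_comp hN'.comp hNj.comp hm'N
  have hX₀Y : X₀ ≠ Y := by
    rintro rfl
    exact fam_not_fixes hY hlY h.ord hup₀.fix
  have hup' : TrivUp m' l X₀ N := hup₀.symm hN.comp ll mm' hml' hfix hX₀.comp
  exact lemA' hF hW' hX₀ hX₀Y hN hup'

/-- **(R4)** -/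
theorem aa_of_wit (hF : F1 G) {t l : G} {K : Subgroup G} (h : Wit t l K) : ∃ D : Set G, AA D := by
  refine ⟨{l | ∃ t K, Wit t l K}, ⟨?_, ?_, ?_, ?_, ?_, ?_, ?_⟩, ⟨l, t, K, h⟩, ?_, ?_⟩
  · rintro e ⟨t, K, h⟩ g
    exact ⟨_, _, h.cj g⟩
  · rintro e ⟨t, K, h⟩
    exact h.ord
  · rintro e ⟨t, K, h⟩
    have h1 : 0 < (US e).ncard := by
      have h2 := h.two
      have h3 := h.card
      omega
    exact (Set.ncard_pos (Set.toFinite _)).1 h1
  · rintro e ⟨t, K, h⟩ N hN m hm ho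
    exact (lemB hF h hN m hm ho).wit
  · rintro e ⟨t, K, h⟩ N hN m hm ho
    obtain ⟨Y, h1, h2, -⟩ := (lemB hF h hN m hm ho).star
    exact ⟨Y, h1, h2⟩
  · rintro e ⟨t, K, h⟩ N N' hN hN' hne m hm ho
    exact (lemB hF h hN m hm ho).triv N' hN' hne
  · rintro e ⟨t, K, h⟩ N hN m hm ho X hX
    obtain ⟨Y, h1, h2, h3⟩ := (lemB hF h hN m hm ho).star
    rcases h3 X hX with rfl | h4
    · exact Or.inl h2
    · exact Or.inr h4
  · rintro e ⟨t, K, h⟩
    have h1 : 1 < (US e).ncard := by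
      have h2 := h.two
      have h3 := h.card
      omega
    obtain ⟨N, N', h2, h3, h4⟩ := (Set.one_lt_ncard_iff (Set.toFinite _)).1 h1
    exact ⟨N, N', h2, h3, h4⟩
  · rintro e ⟨t, K, h⟩ e' ⟨t', K', h'⟩
    have h1 := h.max t'
    have h2 := h'.max t
    have h3 := h.card
    have h4 := h'.card
    change (US e).ncard = (US e').ncard
    omega

end Cfsg.Agent.UGT.A7.BR
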