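import Cfsg.Agent.UGT.A7.B.RedMain
import Cfsg.Agent.UGT.A7.B.RedWit

/-!
# [A7], beta-branch: the reduction (R), complete

`reduction : Reduction G`.
-/

set_option autoImplicit false
set_option linter.unusedSectionVars false

open Cfsg Subgroup
open Cfsg.Agent.UGT.A7.B

namespace Cfsg.Agent.UGT.A7.BR

universe u

variable {G : Type u} [Group G] [Finite G]

/-- **the reduction (R)** -/
theorem reduction : Reduction G :=
  reduction_of (fun hF _ _ _ h => aa_of_wit hF h)

end Cfsg.Agent.UGT.A7.BR
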