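import Cfsg.Agent.UGT.A7.B.TwoData
import Cfsg.Agent.UGT.A7.EndTwoS

/-!
# [A7], beta-branch, World 2: END2
-/

set_option autoImplicit false

namespace Cfsg.Agent.UGT.A7.B.TwoEnd

open Subgroup

universe u

variable {G : Type u} [Group G] [Finite G]

/-- The data of World 2 do not exist in a simple group. -/
theorem false_of_data (hs : IsSimpleGroup G) (S P₁ P₂ : Subgroup G) (E : BW.EData S P₁ P₂) : False := by
  haveI := hs
  let T : Sylow 2 G := ⟨S, E.syl.two, fun hQ hle => E.syl.max _ hQ le_top hle⟩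
  exact EndTwoS.false_of_dihedral T E.le₁ E.le₂ E.comm E.inf E.perm E.closed E.d₁ E.d₂

end Cfsg.Agent.UGT.A7.B.TwoEnd
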