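import Cfsg.Agent.UGT.A7.B.TwoMain
import Cfsg.Agent.UGT.A7.B.DPump

/-!
# [A7], beta-branch: World 2, with (C2') of `DPump`

`world2_of_end`: `World2 G` from END2 alone.
-/

set_option autoImplicit false
set_option linter.unusedSectionVars false

open Cfsg Subgroup Equiv Equiv.Perm
open Cfsg.Agent.SignalizersComponents.IntrinsicBasic
open Cfsg.Agent.UGT.A7.B

namespace Cfsg.Agent.UGT.A7.BW

universe u

variable {G : Type u} [Group G] [Finite G]

/-- **World 2** from END2 -/
theorem world2_of_end
    (hE : IsSimpleGroup G → ∀ S P₁ P₂ : Subgroup G, EData S P₁ P₂ → False) : World2 G :=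
  world2_of (fun h1 h2 h3 D hD f e M hM he hef => c2 h1 h2 h3 D hD e he f M hM hef) hE

end Cfsg.Agent.UGT.A7.BW
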