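import Cfsg.Agent.S1173
import Cfsg.Agent.UGT.A7.BCaseI
import Cfsg.Agent.UGT.A7.B.DPump
import Cfsg.Agent.UGT.A7.B.FOne
import Cfsg.Agent.UGT.A7.B.OneE
import Cfsg.Agent.UGT.A7.B.OneKFam
import Cfsg.Agent.UGT.A7.B.OneO
import Cfsg.Agent.UGT.A7.B.OneWd
import Cfsg.Agent.UGT.A7.B.Red
import Cfsg.Agent.UGT.A7.B.TwoEnd
import Cfsg.Agent.UGT.A7.B.WorldTwo
import Cfsg.Agent.UGT.A7.B.Main
import Cfsg.Agent.UGT.A7.BThree.End

/-!
# The β-branch of [A7]: all parts

`parts`: `Parts G`; `nodeA7`: the node N6.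
-/

set_option autoImplicit false

open Cfsg Subgroup
open Cfsg.Agent.SignalizersComponents Cfsg.Agent.Lib
open Cfsg.Agent.SignalizersComponents.IntrinsicBasic
open Cfsg.Agent.UGT.Triple Cfsg.Agent.UGT.Iface
open Cfsg.Agent.UGT.InUList (PK4 Excl K4End)

namespace Cfsg.Agent.UGT.A7.B.Plug

universe u

theorem scFact {G : Type u} [Group G] [Finite G] (hG : IsSimpleGroup G) {a : G} (ha : orderOf a = 2) :
    One.SCFact G := by
  intro S Q hQ
  refine S1173.result ?_ S Q hQ
  have hn : (oddCore G).Normal := Lib.Cores.pPrimeCore_normal 2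
  rcases hn.eq_bot_or_eq_top with h | h
  · exact h
  · exfalso
    have h1 : Odd (Nat.card ↥(oddCore G)) := Nat.Coprime.odd_of_right (Lib.Cores.pPrimeCore_coprime 2)
    rw [h, Subgroup.card_top] at h1
    have h2 : 2 ∣ Nat.card G := ha ▸ orderOf_dvd_natCard a
    exact (Nat.not_even_iff_odd.2 h1) (even_iff_two_dvd.2 h2)

theorem parts (G : Type u) [Group G] [Finite G] (hW : W7 G) (hP : A7.Pump7 G) : Parts G := by
  have hI : WI G := fun x a L T => (hW x a L T).imp And.left id
  exact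
    { caseI := fun h => BCaseI.betaP hW hP h
      f1 := B.f1 hI
      w := ww hI
      dp := dp hI
      choice := One.choice1
      w1e := fun hG hF hU a K T h hE => One.world1E_of (scFact hG h.fam.inv) hG hF hU a K T h hE
      w1o := One.world1O
      w1k := OneKFam.world1K
      red := BR.reduction
      w2 := BW.world2_of_end fun hs S P₁ P₂ E => TwoEnd.false_of_data hs S P₁ P₂ E
      w3 := BThree.world3 }

/-- **N6** -/
theorem nodeA7 (k4 : PK4.{u}) (hE : Excl.{u} K4End) : Nodes.NodeA7'.{u} :=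
  nodeA7_of_parts k4 hE fun G _ _ _ hW hP => parts G hW hP

end Cfsg.Agent.UGT.A7.B.Plug
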