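import Cfsg.Agent.UGT.A7.B.Defs
import Cfsg.Agent.UGT.RedAlt
import Cfsg.Agent.UAlt.FourConj

/-!
# The β-branch of [A7]: basic lemmas on `Fam`

* `Fam.cj`, `Fam.t7`, `fam_of_triple`, `exists_conj_inv`;
* `Up.moved`: the 2-components of the pump-up.
-/

set_option autoImplicit false
set_option linter.unusedSectionVars false

open Cfsg Subgroup Equiv Equiv.Perm
open Cfsg.Agent.UAlt
open Cfsg.Agent.SignalizersComponents Cfsg.Agent.Lib
open Cfsg.Agent.SignalizersComponents.IntrinsicBasic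
open Cfsg.Agent.Intrinsic.Basic Cfsg.Agent.Intrinsic.Cen Cfsg.Agent.Intrinsic.Diag
open Cfsg.Agent.McLLyComp.Act
open Cfsg.Agent.UGT.Triple Cfsg.Agent.UGT.PumpGen Cfsg.Agent.UGT.TriBase
open Cfsg.Agent.UGT.A7.Mu
open Cfsg.Agent.UGT.RedAlt (three_fix)
open Cfsg.Agent.StdAlt.Roots (IsRoot)
open scoped commutatorElement

namespace Cfsg.Agent.UGT.A7.B

universe u

variable {G : Type u} [Group G] [Finite G] {a b c l x f s t g : G} {L N K D X Y : Subgroup G}

/-! ### general -/

theorem fixes_self (h : K ≤ centralizer ({a} : Set G)) : Fixes a K := fixes_self' h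

theorem conj_of_comm {g h : G} (e : g * h = h * g) : g * h * g⁻¹ = h := by
  rw [e, mul_inv_cancel_right]

theorem comm_of_conj {g h : G} (e : g * h * g⁻¹ = h) : g * h = h * g := mul_inv_eq_iff_eq_mul.mp e

theorem Fam.aa (h : Fam a L) : a * a = 1 := sq_of_order h.inv

theorem Fam.ne_one (h : Fam a L) : a ≠ 1 := ne_one_of_order h.inv

theorem Fam.comm (h : Fam a L) {y : G} (hy : y ∈ L) : y * a = a * y := comm_c (h.comp.le hy)

theorem Fam.fixes (h : Fam a L) : Fixes a L := fixes_self h.comp.le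

theorem Fam.cj (h : Fam a L) (g : G) : Fam (g * a * g⁻¹) (IntrinsicBasic.cj g L) := by
  have hc : IntrinsicBasic.cj g (centralizer ({a} : Set G)) = centralizer ({g * a * g⁻¹} : Set G) :=
    cj_centralizer g a
  refine ⟨?_, ?_, ?_, ?_⟩
  · rw [show g * a * g⁻¹ = MulAut.conj g a from rfl, MulEquiv.orderOf_eq]
    exact h.inv
  · rw [← hc]; exact h.comp.cj g
  · obtain ⟨M⟩ := h.a7
    exact ⟨M.cj g⟩
  · intro l hl ho
    have h1 := mem_cj.mp hl
    have h2 : orderOf (g⁻¹ * l * g) = 2 := by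
      have h3 : g⁻¹ * l * g = MulAut.conj g⁻¹ l := by rw [MulAut.conj_apply, inv_inv]
      rw [h3, MulEquiv.orderOf_eq]
      exact ho
    have h3 := (h.bad _ h1 h2).cj g
    have h4 : g * (g⁻¹ * l * g) * g⁻¹ = l := by group
    rwa [h4] at h3

theorem Fam.cj_mem (h : Fam a L) (hg : g * a = a * g) : Fam a (IntrinsicBasic.cj g L) := by
  have h1 := h.cj g
  rwa [conj_of_comm hg] at h1

theorem Fam.t7 (h : Fam a L) (hl : l ∈ L) (ho : orderOf l = 2) : T7 l a L :=
  ⟨h.bad l hl ho, h.a7, l, hl, by rw [mul_inv_cancel]; exact fixes_one L⟩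

/-- the involutions of `L` are conjugate in `L` -/
theorem exists_conj_inv (hL : IsA7 L) {l z : G} (hl : l ∈ L) (hz : z ∈ L) (hll : l * l = 1)
    (hzz : z * z = 1) (hl1 : l ≠ 1) (hz1 : z ≠ 1) : ∃ k ∈ L, k * l * k⁻¹ = z := by
  obtain ⟨M⟩ := hL
  have h1 : ∀ {l : G}, l ∈ L → l * l = 1 → l ≠ 1 → IsRoot (M.φ l) := by
    intro l hl hll hne
    have h2 := M.sq (le_normalizer hl) hll
    have hne' : M.φ l ≠ 1 := fun h => hne (eq_one_of_mem_core_sq ((M.core_iff l hl).mp h) hll)
    have he : M.φ l ∈ alternatingGroup (Fin 7) := by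
      have := M.mem_alt l hl
      rwa [alt_univ] at this
    refine ⟨h2, ?_⟩
    have ho : orderOf (M.φ l) = 2 := orderOf_eq_prime (by rw [pow_two, h2]) hne'
    obtain ⟨n, hn⟩ := Equiv.Perm.cycleType_prime_order (σ := M.φ l) (by rw [ho]; exact Nat.prime_two)
    rw [ho] at hn
    have h3 : (M.φ l).cycleType.sum = 2 * (n + 1) := by
      rw [hn, Multiset.sum_replicate, smul_eq_mul, mul_comm]
    have h4 := Equiv.Perm.sum_cycleType (M.φ l)
    have h5 : (M.φ l).support.card ≤ 7 := by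
      have := Finset.card_le_univ (M.φ l).support
      rwa [Fintype.card_fin] at this
    have h6 := Equiv.Perm.sign_of_cycleType (M.φ l)
    rw [Equiv.Perm.mem_alternatingGroup.mp he, h3, hn, Multiset.card_replicate] at h6
    have h7 : n ≤ 2 := by omega
    interval_cases n
    · exact absurd h6 (by decide)
    · omega
    · exact absurd h6 (by decide)
  exact M.exists_conj_root hl hz hll hzz (h1 hl hll hl1) (h1 hz hzz hz1)

/-- one unbalancing involution of `L` suffices -/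
theorem fam_of_triple (T : IsTriple l a L) (hA : IsA7 L) (hl : l ∈ L) : Fam a L := by
  refine ⟨T.inva, T.comp, hA, fun z hz ho => ?_⟩
  obtain ⟨k, hk, hkz⟩ := exists_conj_inv hA hl hz (sq_of_order T.invx) (sq_of_order ho)
    (ne_one_of_order T.invx) (ne_one_of_order ho)
  have h1 := T.cj k
  rw [hkz, cj_eq_self_of_mem hk, conj_of_comm (comm_c (T.comp.le hk))] at h1
  exact h1

/-! ### the pump-up -/

/-- `N` (or `N`, `N^a`) is the pump-up of `L` in `C(c)` -/
def Up (a c : G) (L N : Subgroup G) : Prop := TrivUp a c L N ∨ DiagUp a c L N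

/-- the members of the pump-up are the 2-components of `C(c)` moved by the elements of `cen L c` -/
theorem Up.moved (h : Up a c L N) (haa : a * a = 1) (hac : a * c = c * a)
    (hN : IsComp (centralizer ({c} : Set G)) N) {N₁ : Subgroup G}
    (hN₁ : IsComp (centralizer ({c} : Set G)) N₁) {y : G} (hy : y ∈ cen L c) (hf : ¬ Fixes y N₁) :
    N₁ = N ∨ (DiagUp a c L N ∧ N₁ = IntrinsicBasic.cj a N) := by
  by_contra hcon
  push Not at hcon
  obtain ⟨h1, h2⟩ := hcon
  rcases h with h | h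
  · exact hf (hN₁.fixes_of_mem hN h1 (h.le hy))
  · have haX : a ∈ centralizer ({c} : Set G) := mem_c hac
    have hyX : y ∈ centralizer ({c} : Set G) := mem_c (comm_of_mem_cen hy)
    have hyd := hy
    rw [h.eq] at hyd
    apply hf
    obtain ⟨e1, e2, -, -⟩ := exists_diag hN haX haa h.ne
    obtain ⟨k, hk, hyk⟩ := e2 y hyd
    have hN' := isComp_cj_of_mem hN haX
    have hk' : a * k * a⁻¹ ∈ IntrinsicBasic.cj a N := conj_mem_cj hk
    have f1 : Fixes k N₁ := hN₁.fixes_of_mem hN h1 hk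
    have f2 : Fixes (a * k * a⁻¹) N₁ := hN₁.fixes_of_mem hN' (h2 h) hk'
    have f3 : Fixes (y⁻¹ * (k * (a * k * a⁻¹))) N₁ := hN₁.fixes_of_core hyk
    have h3 : y = (k * (a * k * a⁻¹)) * (y⁻¹ * (k * (a * k * a⁻¹)))⁻¹ := by group
    rw [h3]
    exact fixes_mul (fixes_mul f1 f2) (fixes_inv f3)

end Cfsg.Agent.UGT.A7.B
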