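import Mathlib.GroupTheory.GroupAction.Quotient
import Mathlib.GroupTheory.PGroup
import Mathlib.GroupTheory.Sylow
import Mathlib.GroupTheory.Commutator.Basic
import Mathlib.GroupTheory.Abelianization.Defs
import Mathlib.Tactic

/-!
# Transfer of an involution central in the normalizer of a Sylow 2-subgroup

`A`-valued parities on a `G`-set (`A` a commutative group), and

* `eq_one_of_central`: `G` finite and perfect, `S` a Sylow 2-subgroup, `φ : S →* A`, `e ∈ S`, `e * e = 1`, `e`
  central in the normalizer of `S`: then `φ e = 1`.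
-/

set_option autoImplicit false

open Subgroup MulAction

namespace Cfsg.Agent.UGT.A7.B.CentTransfer

variable {G Ω A : Type*} [Group G] [MulAction G Ω] [CommGroup A]

/-- An `A`-valued parity. -/
structure IsVal (v : Ω → G → A) : Prop where
  mul : ∀ (ω : Ω) (g h : G), g • ω = ω → h • ω = ω → v ω (g * h) = v ω g * v ω h
  conj : ∀ (ω : Ω) (g h : G), h • ω = ω → v (g • ω) (g * h * g⁻¹) = v ω h

theorem IsVal.one {v : Ω → G → A} (h : IsVal v) (ω : Ω) : v ω 1 = 1 := by
  have h1 := h.mul ω 1 1 (one_smul G ω) (one_smul G ω)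
  rw [mul_one] at h1
  exact (mul_eq_left.mp h1.symm)

/-- the character attached to an `A`-valued parity -/
theorem exists_hom [Finite Ω] {v : Ω → G → A} (h : IsVal v) :
    ∃ f : G →* A, ∀ (x : G) (F : Finset Ω), x * x = 1 → (∀ ω, ω ∈ F ↔ x • ω = ω) →
      f x = ∏ ω ∈ F, v ω x := by
  classical
  cases nonempty_fintype Ω
  -- base points of the orbits
  let base : Ω → Ω := fun ω => (Quotient.mk (orbitRel G Ω) ω).out
  have hbase : ∀ (g : G) (ω : Ω), base (g • ω) = base ω := by
    intro g ω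
    have : (Quotient.mk (orbitRel G Ω) (g • ω)) = Quotient.mk (orbitRel G Ω) ω :=
      Quotient.sound ⟨g, rfl⟩
    change (Quotient.mk (orbitRel G Ω) (g • ω)).out = (Quotient.mk (orbitRel G Ω) ω).out
    rw [this]
  have hmem : ∀ ω : Ω, ∃ g : G, g • base ω = ω := by
    intro ω
    have h1 : (orbitRel G Ω).r ω (base ω) :=
      Quotient.exact (Quotient.out_eq (Quotient.mk (orbitRel G Ω) ω)).symm
    exact h1
  choose s hs using hmem
  -- the cocycle
  let c : G → Ω → G := fun g ω => (s (g • ω))⁻¹ * g * s ω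
  have hc : ∀ g ω, c g ω • base ω = base ω := by
    intro g ω
    change ((s (g • ω))⁻¹ * g * s ω) • base ω = base ω
    have h1 : s (g • ω) • base ω = g • ω := by
      have := hs (g • ω)
      rwa [hbase] at this
    rw [mul_smul, mul_smul, hs, inv_smul_eq_iff, h1]
  have hcm : ∀ (g k : G) (ω : Ω), c (g * k) ω = c g (k • ω) * c k ω := by
    intro g k ω
    change (s ((g * k) • ω))⁻¹ * (g * k) * s ω =
      (s (g • k • ω))⁻¹ * g * s (k • ω) * ((s (k • ω))⁻¹ * k * s ω)
    rw [mul_smul]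
    group
  have hc1 : ∀ ω, c 1 ω = 1 := by
    intro ω
    change (s ((1 : G) • ω))⁻¹ * 1 * s ω = 1
    rw [one_smul, mul_one, inv_mul_cancel]
  have hc' : ∀ (g k : G) (ω : Ω), c g (k • ω) • base ω = base ω := by
    intro g k ω
    have := hc g (k • ω)
    rwa [hbase] at this
  let f : G →* A :=
    { toFun := fun g => ∏ ω : Ω, v (base ω) (c g ω)
      map_one' := by
        refine Finset.prod_eq_one fun ω _ => ?_
        rw [hc1, h.one]
      map_mul' := by
        intro g k
        have h1 : ∀ ω : Ω, v (base ω) (c (g * k) ω) =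
            v (base (k • ω)) (c g (k • ω)) * v (base ω) (c k ω) := by
          intro ω
          rw [hcm, h.mul _ _ _ (hc' _ _ _) (hc _ _), hbase]
        simp only [h1]
        rw [Finset.prod_mul_distrib]
        congr 1
        exact Equiv.prod_comp (MulAction.toPerm k) fun ω : Ω => v (base ω) (c g ω) }
  refine ⟨f, fun x F hx hF => ?_⟩
  change ∏ ω : Ω, v (base ω) (c x ω) = _
  have hFe : F = Finset.univ.filter (fun ω : Ω => x • ω = ω) := by
    ext ω
    rw [hF, Finset.mem_filter]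
    exact ⟨fun h => ⟨Finset.mem_univ _, h⟩, fun h => h.2⟩
  -- split into fixed points and the others
  have hsplit := Finset.prod_filter_mul_prod_filter_not (Finset.univ : Finset Ω)
    (fun ω => x • ω = ω) (fun ω => v (base ω) (c x ω))
  have h2 : ∏ ω ∈ Finset.univ.filter (fun ω : Ω => ¬ x • ω = ω), v (base ω) (c x ω) = 1 := by
    refine Finset.prod_involution (fun ω _ => x • ω) ?_ ?_ ?_ ?_
    · intro ω _
      rw [mul_comm, hbase, ← h.mul _ _ _ (hc' _ _ _) (hc _ _), ← hcm, hx, hc1, h.one]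
    · intro ω hω _
      exact (Finset.mem_filter.mp hω).2
    · intro ω hω
      rw [Finset.mem_filter] at hω ⊢
      refine ⟨Finset.mem_univ _, fun h3 => hω.2 ?_⟩
      have := congrArg (x • ·) h3
      simp only [← mul_smul, hx, one_smul] at this
      exact this
    · intro ω _
      rw [← mul_smul, hx, one_smul]
  rw [h2, mul_one] at hsplit
  rw [← hsplit, hFe]
  refine Finset.prod_congr rfl fun ω hω => ?_
  have hfix := (Finset.mem_filter.mp hω).2
  have h4 : c x ω = (s ω)⁻¹ * x * (s ω)⁻¹⁻¹ := by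
    change (s (x • ω))⁻¹ * x * s ω = _
    rw [hfix, inv_inv]
  have h5 : base ω = (s ω)⁻¹ • ω := by rw [eq_inv_smul_iff, hs]
  rw [h4]
  conv_lhs => rw [h5]
  exact h.conj _ (s ω)⁻¹ _ hfix

/-- a perfect group has no nontrivial homomorphism to a commutative group -/
theorem hom_eq_one (hG : commutator G = ⊤) (f : G →* A) (g : G) : f g = 1 := by
  have h1 : commutator G ≤ f.ker := by
    rw [commutator_def]
    exact Abelianization.commutator_subset_ker f
  rw [hG] at h1
  exact MonoidHom.mem_ker.mp (h1 (mem_top g))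

/-- the product of a function with values of order at most two which is constant on the orbits of a 2-group -/
theorem prod_eq_prod_fixed {T : Type*} [Group T] (hT : IsPGroup 2 T) [MulAction T Ω] {F F' : Finset Ω}
    (hF : ∀ (t : T) (ω : Ω), ω ∈ F → t • ω ∈ F) (f : Ω → A) (hf : ∀ (t : T), ∀ ω ∈ F, f (t • ω) = f ω)
    (hf2 : ∀ ω ∈ F, f ω * f ω = 1) (hF' : ∀ ω, ω ∈ F' ↔ ω ∈ F ∧ ∀ t : T, t • ω = ω) :
    ∏ ω ∈ F, f ω = ∏ ω ∈ F', f ω := by
  classical
  have hp : Fact (Nat.Prime 2) := ⟨Nat.prime_two⟩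
  have hsub : F' ⊆ F := fun ω hω => ((hF' ω).mp hω).1
  have h1 := Finset.prod_comp (s := F) (fun a : A => a) f
  have h2 := Finset.prod_comp (s := F') (fun a : A => a) f
  rw [h1, h2]
  have h3 : ∏ b ∈ F'.image f, b ^ (F'.filter fun a => f a = b).card =
      ∏ b ∈ F.image f, b ^ (F'.filter fun a => f a = b).card := by
    refine Finset.prod_subset (Finset.image_subset_image hsub) fun b hb hb' => ?_
    have h4 : (F'.filter fun a => f a = b) = ∅ := by
      rw [Finset.filter_eq_empty_iff]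
      intro a ha hab
      exact hb' (Finset.mem_image.mpr ⟨a, ha, hab⟩)
    rw [h4, Finset.card_empty, pow_zero]
  rw [h3]
  refine Finset.prod_congr rfl fun b hb => ?_
  obtain ⟨ω₀, hω₀, rfl⟩ := Finset.mem_image.mp hb
  -- the fibre is `T`-invariant
  let S := {ω : Ω // ω ∈ F.filter fun a => f a = f ω₀}
  have hst : ∀ (t : T) (ω : Ω), (ω ∈ F.filter fun a => f a = f ω₀) →
      (t • ω ∈ F.filter fun a => f a = f ω₀) := by
    intro t ω hω
    rw [Finset.mem_filter] at hω ⊢
    exact ⟨hF t ω hω.1, by rw [hf t ω hω.1, hω.2]⟩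
  let _ : MulAction T S :=
    { smul := fun t ω => ⟨t • ω.1, hst t ω.1 ω.2⟩
      one_smul := fun ω => Subtype.ext (one_smul T ω.1)
      mul_smul := fun s t ω => Subtype.ext (mul_smul s t ω.1) }
  have h5 : Nat.card S ≡ Nat.card (MulAction.fixedPoints T S) [MOD 2] :=
    hT.card_modEq_card_fixedPoints S
  have e : MulAction.fixedPoints T S ≃ {ω : Ω // ω ∈ F'.filter fun a => f a = f ω₀} :=
    { toFun := fun ω => ⟨ω.1.1, by
        have h6 := Finset.mem_filter.mp ω.1.2
        exact Finset.mem_filter.mpr ⟨(hF' _).mpr ⟨h6.1, fun t => congrArg Subtype.val (ω.2 t)⟩, h6.2⟩⟩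
      invFun := fun ω => ⟨⟨ω.1, by
        have h6 := Finset.mem_filter.mp ω.2
        exact Finset.mem_filter.mpr ⟨((hF' _).mp h6.1).1, h6.2⟩⟩, fun t => Subtype.ext
          (((hF' _).mp (Finset.mem_filter.mp ω.2).1).2 t)⟩
      left_inv := fun _ => rfl
      right_inv := fun _ => rfl }
  rw [Nat.card_congr e, Nat.card_eq_fintype_card, Nat.card_eq_fintype_card, Fintype.card_coe, Fintype.card_coe] at h5
  have h6 : orderOf (f ω₀) ∣ 2 := orderOf_dvd_of_pow_eq_one (by rw [pow_two]; exact hf2 ω₀ hω₀)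
  exact pow_eq_pow_iff_modEq.mpr (h5.of_dvd h6)

theorem mem_normalizer_of [Finite G] {S : Subgroup G} {g : G} (h : ∀ s ∈ S, g * s * g⁻¹ ∈ S) :
    g ∈ normalizer (S : Set G) := by
  have h1 : S.map (MulAut.conj g).toMonoidHom ≤ S := by
    rintro _ ⟨s, hs, rfl⟩
    exact h s hs
  have h2 : S.map (MulAut.conj g).toMonoidHom = S := by
    refine Subgroup.eq_of_le_of_card_ge h1 (le_of_eq ?_)
    exact (Nat.card_congr (S.equivMapOfInjective (MulAut.conj g).toMonoidHom (MulAut.conj g).injective).toEquiv)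
  rw [mem_normalizer_iff]
  intro s
  refine ⟨h s, fun hs => ?_⟩
  rw [← h2] at hs
  obtain ⟨s', hs', h3⟩ := hs
  have h4 : g * s' * g⁻¹ = g * s * g⁻¹ := h3
  rw [← mul_left_cancel (mul_right_cancel h4)]
  exact hs'

/-- **Transfer** of an involution `e` of a 2-subgroup `T ≤ S`, `e` central in `T`, such that `φ` is constant on the
conjugates `g⁻¹ e g`, `g⁻¹ T g ≤ S`. -/
theorem eq_one_of_weak [Finite G] (hG : commutator G = ⊤) (S : Sylow 2 G) (φ : ↥(S : Subgroup G) →* A) {e : G}
    (he : e ∈ (S : Subgroup G)) (hee : e * e = 1) {T : Subgroup G} (hTS : T ≤ (S : Subgroup G)) (heT : e ∈ T)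
    (hTe : ∀ t ∈ T, t * e = e * t)
    (hc : ∀ g : G, (∀ t ∈ T, g⁻¹ * t * g ∈ (S : Subgroup G)) → ∀ h : g⁻¹ * e * g ∈ (S : Subgroup G),
      φ ⟨g⁻¹ * e * g, h⟩ = φ ⟨e, he⟩) : φ ⟨e, he⟩ = 1 := by
  classical
  have hp : Fact (Nat.Prime 2) := ⟨Nat.prime_two⟩
  let Q := G ⧸ (S : Subgroup G)
  have hfin : Finite Q := inferInstance
  cases nonempty_fintype Q
  -- the parity
  let v : Q → G → A := fun ω g => if h : ω.out⁻¹ * g * ω.out ∈ (S : Subgroup G) then φ ⟨_, h⟩ else 1
  have hmem : ∀ (ω : Q) (g : G), g • ω = ω ↔ ω.out⁻¹ * g * ω.out ∈ (S : Subgroup G) := by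
    intro ω g
    conv_lhs => rw [← QuotientGroup.out_eq' ω]
    change ((g * ω.out : G) : Q) = (ω.out : Q) ↔ _
    rw [eq_comm, QuotientGroup.eq, mul_assoc]
  -- the value does not depend on the representative
  have hrep : ∀ (ω : Q) (r g : G), (r : Q) = ω → g • ω = ω → ∃ h : r⁻¹ * g * r ∈ (S : Subgroup G),
      v ω g = φ ⟨r⁻¹ * g * r, h⟩ := by
    intro ω r g hr hg
    have h1 := (hmem ω g).mp hg
    have h2 : ω.out⁻¹ * r ∈ (S : Subgroup G) := by
      rw [← QuotientGroup.eq, QuotientGroup.out_eq', hr]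
    have h3 : r⁻¹ * g * r = (ω.out⁻¹ * r)⁻¹ * (ω.out⁻¹ * g * ω.out) * (ω.out⁻¹ * r) := by group
    have h4 : r⁻¹ * g * r ∈ (S : Subgroup G) := by
      rw [h3]
      exact mul_mem (mul_mem (inv_mem h2) h1) h2
    refine ⟨h4, ?_⟩
    have h5 : (⟨r⁻¹ * g * r, h4⟩ : ↥(S : Subgroup G)) =
        (⟨ω.out⁻¹ * r, h2⟩ : ↥(S : Subgroup G))⁻¹ * ⟨ω.out⁻¹ * g * ω.out, h1⟩ * ⟨ω.out⁻¹ * r, h2⟩ := Subtype.ext h3
    rw [h5, map_mul, map_mul, map_inv, mul_comm (φ _)⁻¹, inv_mul_cancel_right]
    exact dif_pos h1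
  have hv : IsVal v := by
    constructor
    · intro ω g h hg hh
      have h1 := (hmem ω g).mp hg
      have h2 := (hmem ω h).mp hh
      have h3 : ω.out⁻¹ * (g * h) * ω.out = (ω.out⁻¹ * g * ω.out) * (ω.out⁻¹ * h * ω.out) := by group
      have h4 : ω.out⁻¹ * (g * h) * ω.out ∈ (S : Subgroup G) := by rw [h3]; exact mul_mem h1 h2
      change (if h : _ then _ else _) = (if h : _ then _ else _) * (if h : _ then _ else _)
      rw [dif_pos h1, dif_pos h2, dif_pos h4, ← map_mul]
      congr 1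
      exact Subtype.ext h3
    · intro ω g h hh
      have h1 : (g * h * g⁻¹) • (g • ω) = g • ω := by
        rw [← mul_smul, inv_mul_cancel_right, mul_smul, hh]
      have h2 : ((g * ω.out : G) : Q) = g • ω := by
        conv_rhs => rw [← QuotientGroup.out_eq' ω]
        rfl
      obtain ⟨h3, h4⟩ := hrep (g • ω) (g * ω.out) (g * h * g⁻¹) h2 h1
      obtain ⟨h5, h6⟩ := hrep ω ω.out h (QuotientGroup.out_eq' ω) hh
      rw [h4, h6]
      congr 1
      exact Subtype.ext (by group)
  obtain ⟨f, hf⟩ := exists_hom hv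
  have h1 := hf e (Finset.univ.filter fun ω : Q => e • ω = ω) hee (fun ω => by
    rw [Finset.mem_filter]; exact ⟨fun h => h.2, fun h => ⟨Finset.mem_univ _, h⟩⟩)
  rw [hom_eq_one hG] at h1
  -- only the points fixed by `T` count
  have hT2 : IsPGroup 2 ↥T := S.2.to_le hTS
  have h2 := prod_eq_prod_fixed (T := ↥T) hT2 (F := Finset.univ.filter fun ω : Q => e • ω = ω)
    (F' := Finset.univ.filter fun ω : Q => e • ω = ω ∧ ∀ t : ↥T, t • ω = ω)
    (by
      intro t ω hω
      rw [Finset.mem_filter] at hω ⊢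
      refine ⟨Finset.mem_univ _, ?_⟩
      change e • ((t : G) • ω) = (t : G) • ω
      rw [← mul_smul, ← hTe t t.2, mul_smul, hω.2])
    (fun ω => v ω e)
    (by
      intro t ω hω
      have h3 := (Finset.mem_filter.mp hω).2
      have h4 := hv.conj ω (t : G) e h3
      rw [hTe t t.2, mul_inv_cancel_right] at h4
      exact h4)
    (by
      intro ω hω
      have h3 := (Finset.mem_filter.mp hω).2
      rw [← hv.mul ω e e h3 h3, hee, hv.one])
    (by
      intro ω
      simp only [Finset.mem_filter, Finset.mem_univ, true_and])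
  rw [h2] at h1
  -- on these points the value is `φ e`
  have h3 : ∀ ω ∈ Finset.univ.filter (fun ω : Q => e • ω = ω ∧ ∀ t : ↥T, t • ω = ω),
      v ω e = φ ⟨e, he⟩ := by
    intro ω hω
    obtain ⟨-, h4, h5⟩ := Finset.mem_filter.mp hω
    obtain ⟨h6, h7⟩ := hrep ω ω.out e (QuotientGroup.out_eq' ω) h4
    rw [h7]
    exact hc _ (fun t ht => (hmem ω t).mp (h5 ⟨t, ht⟩)) h6
  rw [Finset.prod_congr rfl h3, Finset.prod_const] at h1
  -- their number is odd
  have h4 : Odd (Finset.univ.filter (fun ω : Q => e • ω = ω ∧ ∀ t : ↥T, t • ω = ω)).card := by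
    have h5 : Nat.card Q ≡ Nat.card (MulAction.fixedPoints ↥T Q) [MOD 2] :=
      hT2.card_modEq_card_fixedPoints Q
    have h6 : Nat.card (MulAction.fixedPoints ↥T Q) =
        (Finset.univ.filter (fun ω : Q => e • ω = ω ∧ ∀ t : ↥T, t • ω = ω)).card := by
      rw [← Fintype.card_coe, ← Nat.card_eq_fintype_card]
      refine Nat.card_congr
        { toFun := fun ω => ⟨ω.1, Finset.mem_filter.mpr ⟨Finset.mem_univ _, ω.2 ⟨e, heT⟩, ω.2⟩⟩
          invFun := fun ω => ⟨ω.1, (Finset.mem_filter.mp ω.2).2.2⟩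
          left_inv := fun _ => rfl
          right_inv := fun _ => rfl }
    have h7 : ¬ 2 ∣ Nat.card Q := by
      have := S.not_dvd_index
      rwa [Subgroup.index] at this
    rw [h6] at h5
    rw [← Nat.not_even_iff_odd, even_iff_two_dvd]
    intro h8
    apply h7
    have h9 := h5.dvd
    rw [Nat.modEq_iff_dvd] at h5
    omega
  obtain ⟨k, hk⟩ := h4
  have h5 : φ ⟨e, he⟩ * φ ⟨e, he⟩ = 1 := by
    rw [← map_mul, ← map_one φ]
    congr 1
    exact Subtype.ext hee
  rw [hk, pow_succ, pow_mul, pow_two, h5, one_pow, one_mul] at h1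
  exact h1.symm

/-- **Transfer.** -/
theorem eq_one_of_central [Finite G] (hG : commutator G = ⊤) (S : Sylow 2 G) (φ : ↥(S : Subgroup G) →* A) {e : G}
    (he : e ∈ (S : Subgroup G)) (hee : e * e = 1)
    (hc : ∀ n ∈ normalizer ((S : Subgroup G) : Set G), n * e = e * n) : φ ⟨e, he⟩ = 1 := by
  refine eq_one_of_weak hG S φ he hee (T := S) le_rfl he (fun t ht => hc t (le_normalizer ht)) fun g hg h => ?_
  congr 1
  apply Subtype.ext
  change g⁻¹ * e * g = e
  have h9 : g⁻¹ ∈ normalizer ((S : Subgroup G) : Set G) := mem_normalizer_of fun s hs => by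
    rw [inv_inv]
    exact hg s hs
  rw [hc _ h9, inv_mul_cancel_right]

end Cfsg.Agent.UGT.A7.B.CentTransfer
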