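import Cfsg.Agent.UGT.A7.B.Split

/-!
# The β-branch of [A7]: pump-ups of different members of `U(a)` are different, (CM)

* `TrivUp.cen_eq`, `TrivUp.symm`, `TrivUp.fixes_iff`;
* `Up.inj`: different members have different pump-ups;
* `cm`: **(CM)**.
-/

set_option autoImplicit false
set_option linter.unusedSectionVars false

open Cfsg Subgroup Equiv Equiv.Perm
open Cfsg.Agent.UAlt
open Cfsg.Agent.SignalizersComponents Cfsg.Agent.Lib
open Cfsg.Agent.SignalizersComponents.IntrinsicBasic
open Cfsg.Agent.Intrinsic.Basic Cfsg.Agent.Intrinsic.Cen Cfsg.Agent.Intrinsic.Diag Cfsg.Agent.Intrinsic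
open Cfsg.Agent.McLLyComp.Act
open Cfsg.Agent.UGT.Triple Cfsg.Agent.UGT.PumpGen Cfsg.Agent.UGT.TriBase
open Cfsg.Agent.UGT.A7.Mu
open scoped commutatorElement

namespace Cfsg.Agent.UGT.A7.B

universe u

variable {G : Type u} [Group G] [Finite G] {a b c l x f s t g e y : G} {L L' N N' K D X Y : Subgroup G}

/-- the diagonal of `N`, `N^v` is symmetric -/
theorem diag_cj_eq (hK : IsComp X K) (hvX : f ∈ X) (hv : f * f = 1)
    (hne : IntrinsicBasic.cj f K ≠ K) : diag X (IntrinsicBasic.cj f K) f = diag X K f := by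
  have h1 := cj_diag f X K f
  rw [cj_eq_self_of_mem hvX, mul_inv_cancel_right] at h1
  rw [← h1]
  obtain ⟨h2, -⟩ := exists_diag hK hvX hv hne
  apply le_antisymm
  · rintro _ ⟨m, hm, rfl⟩
    have h3 : m * f = f * m := mem_centralizer_singleton_iff.mp (h2.le hm).2
    show f * m * f⁻¹ ∈ _
    rw [conj_of_comm h3.symm]
    exact hm
  · intro m hm
    have h3 : m * f = f * m := mem_centralizer_singleton_iff.mp (h2.le hm).2
    rw [mem_cj]
    rwa [show f⁻¹ * m * f = m by rw [mul_assoc, h3, inv_mul_cancel_left]]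

/-- in a trivial pump-up `cen L c = cen N a` -/
theorem TrivUp.cen_eq (h : TrivUp a c L N) (hL : IsComp (centralizer ({a} : Set G)) L)
    (haa : a * a = 1) (hcc : c * c = 1) (hca : c * a = a * c) (hcL : Fixes c L)
    (hN : IsComp (centralizer ({c} : Set G)) N) : cen L c = cen N a := by
  have h1 := (isComp_cen hL (mem_c hca) hcc hcL).1
  have h2 := (isComp_cen hN (mem_c hca.symm) haa h.fix).1
  rw [inf_comm] at h2
  refine h1.eq_of_le h2 ?_
  refine (closure_le _).mpr ?_
  rintro m ⟨hm, n, hn⟩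
  exact mem_cen (h.le (mem_cen hm.1 (mem_centralizer_singleton_iff.mp hm.2) hn))
    (mem_centralizer_singleton_iff.mp (hL.le hm.1)) hn

/-- the trivial pump-up is a symmetric relation -/
theorem TrivUp.symm (h : TrivUp a c L N) (hL : IsComp (centralizer ({a} : Set G)) L)
    (haa : a * a = 1) (hcc : c * c = 1) (hca : c * a = a * c) (hcL : Fixes c L)
    (hN : IsComp (centralizer ({c} : Set G)) N) : TrivUp c a N L := by
  have h1 := h.cen_eq hL haa hcc hca hcL hN
  have h2 := isComp_cen hL (mem_c hca) hcc hcL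
  exact ⟨hcL, h1 ▸ cen_le L c, by rw [← h1]; exact h2.2⟩

/-- transfer of `Fixes` along a trivial pump-up -/
theorem TrivUp.fixes (h : TrivUp a c L N) (hL : IsComp (centralizer ({a} : Set G)) L)
    (hcc : c * c = 1) (hca : c * a = a * c) (hcL : Fixes c L)
    (hN : IsComp (centralizer ({c} : Set G)) N) (he : Fixes e L) (hec : e * c = c * e) :
    Fixes e N :=
  fixes_of_triv hL hcc hca hcL hN h.sup he hec

/-- transfer of `Fixes` along a trivial pump-up -/
theorem TrivUp.fixes_iff (h : TrivUp a c L N) (hL : IsComp (centralizer ({a} : Set G)) L)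
    (haa : a * a = 1) (hcc : c * c = 1) (hca : c * a = a * c) (hcL : Fixes c L)
    (hN : IsComp (centralizer ({c} : Set G)) N) (hea : e * a = a * e) (hec : e * c = c * e) :
    Fixes e L ↔ Fixes e N :=
  ⟨fun he => h.fixes hL hcc hca hcL hN he hec, fun he =>
    (h.symm hL haa hcc hca hcL hN).fixes hN haa hca.symm h.fix hL he hea⟩

/-- the pump-up of `L` determines `cen L c` -/
theorem Up.cen_eq (h : Up a c L N) (h' : Up a c L' N') (hL : IsComp (centralizer ({a} : Set G)) L)
    (hL' : IsComp (centralizer ({a} : Set G)) L')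
    (haa : a * a = 1) (hcc : c * c = 1) (hca : c * a = a * c) (hcL : Fixes c L) (hcL' : Fixes c L')
    (hN : IsComp (centralizer ({c} : Set G)) N) (hN' : IsComp (centralizer ({c} : Set G)) N')
    (he : N' = N ∨ N' = IntrinsicBasic.cj a N) : cen L c = cen L' c := by
  have haC : a ∈ centralizer ({c} : Set G) := mem_c hca.symm
  have hback : ∀ {Z : Subgroup G}, IntrinsicBasic.cj a (IntrinsicBasic.cj a Z) = Z := fun {Z} => by
    rw [← IntrinsicBasic.cj_mul, haa, IntrinsicBasic.cj_one]
  rcases h with h | h <;> rcases h' with h' | h'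
  · have e1 : IntrinsicBasic.cj a N = N := mem_normalizer_iff_cj.mp h.fix.1
    have e2 : N' = N := by
      rcases he with he | he
      · exact he
      · rw [he, e1]
    subst e2
    rw [h.cen_eq hL haa hcc hca hcL hN, h'.cen_eq hL' haa hcc hca hcL' hN]
  · exfalso
    have e1 : IntrinsicBasic.cj a N = N := mem_normalizer_iff_cj.mp h.fix.1
    apply h'.ne
    rcases he with he | he
    · rw [he, e1]
    · rw [he, hback, e1]
  · exfalso
    have e1 : IntrinsicBasic.cj a N' = N' := mem_normalizer_iff_cj.mp h'.fix.1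
    apply h.ne
    rcases he with he | he
    · rw [← he, e1]
    · rw [he, hback] at e1
      exact e1.symm
  · rw [h.eq, h'.eq]
    rcases he with he | he
    · rw [he]
    · rw [he, diag_cj_eq hN haC haa h.ne]

/-- different 2-components of `C(a)` have different pump-ups -/
theorem Up.inj (h : Up a c L N) (h' : Up a c L' N') (hL : IsComp (centralizer ({a} : Set G)) L)
    (hL' : IsComp (centralizer ({a} : Set G)) L')
    (haa : a * a = 1) (hcc : c * c = 1) (hca : c * a = a * c) (hcL : Fixes c L) (hcL' : Fixes c L')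
    (hN : IsComp (centralizer ({c} : Set G)) N) (hN' : IsComp (centralizer ({c} : Set G)) N')
    (he : N' = N ∨ N' = IntrinsicBasic.cj a N) : L = L' := by
  have h1 := h.cen_eq h' hL hL' haa hcc hca hcL hcL' hN hN' he
  have h2 := (isComp_cen hL (mem_c hca) hcc hcL).1
  exact h2.unique hL hL' (cen_le L c) (h1 ▸ cen_le L' c)

/-- **(CM)**: `|U(a)|` is maximal, the involution `y ∈ F(a)`: the pump-ups are trivial, and each
member of `U(y)` is a pump-up. -/
theorem cm (hF1 : F1 G) (hmax : ∀ s : G, {N | Fam s N}.ncard ≤ {N | Fam a N}.ncard)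
    (haa : a * a = 1) (hy : orderOf y = 2) (hya : y * a = a * y) (hF : ∀ L, Fam a L → Fixes y L) :
    (∀ L, Fam a L → ∃ N, Fam y N ∧ TrivUp a y L N) ∧
      (∀ N, Fam y N → ∃ L, Fam a L ∧ TrivUp a y L N) := by
  classical
  have hyy := sq_of_order hy
  have h1 : ∀ L, Fam a L → ∃ N, Fam y N ∧ Up a y L N := fun L hL => hF1 a y L hL hy hya (hF L hL)
  choose! F hF1' hF2' using h1
  have hfin : ∀ s : G, {N | Fam s N}.Finite := fun s => Set.toFinite _
  have hinj : Set.InjOn F {N | Fam a N} := by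
    intro L hL L' hL' hLL
    exact (hF2' L hL).inj (hF2' L' hL') hL.comp hL'.comp haa hyy hya (hF L hL) (hF L' hL')
      (hF1' L hL).comp (hF1' L' hL').comp (Or.inl hLL.symm)
  have hsub : F '' {N | Fam a N} ⊆ {N | Fam y N} := by
    rintro _ ⟨L, hL, rfl⟩
    exact hF1' L hL
  have heq : F '' {N | Fam a N} = {N | Fam y N} := by
    apply Set.eq_of_subset_of_ncard_le hsub
    rw [hinj.ncard_image]
    exact hmax y
  have htriv : ∀ L, Fam a L → TrivUp a y L (F L) := by
    intro L hL
    rcases hF2' L hL with h | h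
    · exact h
    · exfalso
      have h2 : Fam y (IntrinsicBasic.cj a (F L)) := (hF1' L hL).cj_mem hya.symm
      have h3 : IntrinsicBasic.cj a (F L) ∈ F '' {N | Fam a N} := by rw [heq]; exact h2
      obtain ⟨L', hL', hLL⟩ := h3
      have h4 : L = L' := (hF2' L hL).inj (hF2' L' hL') hL.comp hL'.comp haa hyy hya (hF L hL)
        (hF L' hL') (hF1' L hL).comp (hF1' L' hL').comp (Or.inr hLL)
      apply h.ne
      rw [← hLL, h4]
  refine ⟨fun L hL => ⟨F L, hF1' L hL, htriv L hL⟩, fun N hN => ?_⟩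
  have h5 : N ∈ F '' {N | Fam a N} := by rw [heq]; exact hN
  obtain ⟨L, hL, rfl⟩ := h5
  exact ⟨L, hL, htriv L hL⟩

/-- (CM): `|U(y)| = |U(a)|` -/
theorem cm_card (hF1 : F1 G) (hmax : ∀ s : G, {N | Fam s N}.ncard ≤ {N | Fam a N}.ncard)
    (haa : a * a = 1) (hy : orderOf y = 2) (hya : y * a = a * y) (hF : ∀ L, Fam a L → Fixes y L) :
    {N | Fam y N}.ncard = {N | Fam a N}.ncard := by
  classical
  have hyy := sq_of_order hy
  obtain ⟨h1, h2⟩ := cm hF1 hmax haa hy hya hF
  choose! F hF1' hF2' using h1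
  have hinj : Set.InjOn F {N | Fam a N} := by
    intro L hL L' hL' hLL
    exact Up.inj (Or.inl (hF2' L hL)) (Or.inl (hF2' L' hL')) hL.comp hL'.comp haa hyy hya (hF L hL)
      (hF L' hL') (hF1' L hL).comp (hF1' L' hL').comp (Or.inl hLL.symm)
  apply le_antisymm (hmax y)
  rw [← hinj.ncard_image]
  apply Set.ncard_le_ncard _ (Set.toFinite _)
  rintro _ ⟨L, hL, rfl⟩
  exact hF1' L hL

/-- (CM): `a ∈ F(y)` -/
theorem cm_symm (hF1 : F1 G) (hmax : ∀ s : G, {N | Fam s N}.ncard ≤ {N | Fam a N}.ncard)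
    (haa : a * a = 1) (hy : orderOf y = 2) (hya : y * a = a * y) (hF : ∀ L, Fam a L → Fixes y L) :
    ∀ N, Fam y N → Fixes a N := by
  intro N hN
  obtain ⟨L, -, h⟩ := (cm hF1 hmax haa hy hya hF).2 N hN
  exact h.fix

/-- (CM): elements commuting with `a` and `y` and fixing all members of `U(a)` fix all members of
`U(y)`, and conversely -/
theorem cm_fixes (hF1 : F1 G) (hmax : ∀ s : G, {N | Fam s N}.ncard ≤ {N | Fam a N}.ncard)
    (haa : a * a = 1) (hy : orderOf y = 2) (hya : y * a = a * y) (hF : ∀ L, Fam a L → Fixes y L)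
    (hea : e * a = a * e) (hey : e * y = y * e) :
    (∀ L, Fam a L → Fixes e L) ↔ ∀ N, Fam y N → Fixes e N := by
  obtain ⟨h1, h2⟩ := cm hF1 hmax haa hy hya hF
  constructor
  · intro h N hN
    obtain ⟨L, hL, hLN⟩ := h2 N hN
    exact (hLN.fixes_iff hL.comp haa (sq_of_order hy) hya (hF L hL) hN.comp hea hey).mp (h L hL)
  · intro h L hL
    obtain ⟨N, hN, hLN⟩ := h1 L hL
    exact (hLN.fixes_iff hL.comp haa (sq_of_order hy) hya (hF L hL) hN.comp hea hey).mpr (h N hN)

end Cfsg.Agent.UGT.A7.B
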