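import Cfsg.Agent.UGT.A7.B.Basic
import Cfsg.Agent.UGT.A7.BExY

/-!
# LEMMA B in the form `LemB`
-/

set_option autoImplicit false
set_option linter.unusedSectionVars false

open Cfsg Subgroup Equiv Equiv.Perm
open Cfsg.Agent.UAlt
open Cfsg.Agent.SignalizersComponents Cfsg.Agent.Lib
open Cfsg.Agent.SignalizersComponents.IntrinsicBasic
open Cfsg.Agent.Intrinsic.Basic Cfsg.Agent.Intrinsic.Cen Cfsg.Agent.Intrinsic.Diag
open Cfsg.Agent.McLLyComp.Act
open Cfsg.Agent.UGT.Triple Cfsg.Agent.UGT.PumpGen Cfsg.Agent.UGT.TriBase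
open Cfsg.Agent.UGT.A7.Mu Cfsg.Agent.UGT.A7.BPerm
open Cfsg.Agent.StdAlt.Roots (IsRoot)

namespace Cfsg.Agent.UGT.A7.B

universe u

variable {G : Type u} [Group G] [Finite G]

/-- even involutions of `Sym(7)` are roots -/
theorem isRoot_of_even {σ : Perm (Fin 7)} (h2 : σ * σ = 1) (hne : σ ≠ 1) (he : sign σ = 1) :
    IsRoot σ := by
  refine ⟨h2, ?_⟩
  have ho : orderOf σ = 2 := orderOf_eq_prime (by rw [pow_two, h2]) hne
  obtain ⟨n, hn⟩ := Equiv.Perm.cycleType_prime_order (σ := σ) (by rw [ho]; exact Nat.prime_two)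
  rw [ho] at hn
  have h3 : σ.cycleType.sum = 2 * (n + 1) := by
    rw [hn, Multiset.sum_replicate, smul_eq_mul, mul_comm]
  have h4 := Equiv.Perm.sum_cycleType σ
  have h5 : σ.support.card ≤ 7 := by
    have := Finset.card_le_univ σ.support
    rwa [Fintype.card_fin] at this
  have h6 := Equiv.Perm.sign_of_cycleType σ
  rw [he, h3, hn, Multiset.card_replicate] at h6
  have h7 : n ≤ 2 := by omega
  interval_cases n
  · exact absurd h6 (by decide)
  · omega
  · exact absurd h6 (by decide)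

/-- an inner involution `v` of a 2-component of type `A₇` fixes 3 points -/
theorem card_of_inner {N : Subgroup G} (M : M7 N) {v r : G} (hvv : v * v = 1) (hv : ¬ Fixes v N)
    (hr : r ∈ N) (hf : Fixes (v * r⁻¹) N) :
    v ∈ normalizer (N : Set G) ∧ (fixIn Finset.univ (M.φ v)).card = 3 := by
  have hvN : v ∈ normalizer (N : Set G) := by
    have h1 := mul_mem hf.1 (le_normalizer hr)
    rwa [inv_mul_cancel_right] at h1
  have h1 : M.φ v = M.φ r := by
    have h2 := (M.fixes_iff (mul_mem hvN (inv_mem (le_normalizer hr)))).mpr hf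
    rw [M.mul _ _ hvN (inv_mem (le_normalizer hr)), M.inv (le_normalizer hr)] at h2
    exact mul_inv_eq_one.mp h2
  have h2 : sign (M.φ v) = 1 := by
    have := M.mem_alt r hr
    rw [alt_univ, mem_alternatingGroup] at this
    rw [h1, this]
  exact ⟨hvN, BLem.card_of_isRoot (isRoot_of_even (M.sq hvN hvv)
    (fun h => hv ((M.fixes_iff hvN).mp h)) h2)⟩

/-- **LEMMA B** -/
theorem lemB (hW : WI G) : LemB G := by
  intro x b v y D R T hA hv hxv hR2 hR8 hbR hRx hRv hRD hy hyR hyv hyD hpump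
  refine BLem.lemmaB (R := R) (x := x) hW T.invx hv hxv.symm hy (mem_c hyv) hR2 hR8 hRx hRv (fun r hr => ?_) ?_
  · exact (comm_of_mem_cen (hyR r hr)).symm
  · intro w hw hw1 J hJ
    by_contra hf
    have hvv := sq_of_order hv
    have hvw : v * w = w * v := (hRv w hw).symm
    have hyw : y ∈ centralizer ({w} : Set G) := cen_le_centralizer _ _ (hyR w hw)
    rw [inf_comm] at hJ
    obtain ⟨N, hN, -, hor⟩ := McLLyComp.PumpT.exists_pump (mem_c hvw) hvv hJ
    have hor' : J ≤ N ∨ (IntrinsicBasic.cj v N ≠ N ∧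
        J = diag (centralizer ({w} : Set G)) N v) := by
      rcases hor with ⟨-, h⟩ | h
      · exact Or.inl h
      · exact Or.inr h
    have hNf : ¬ Fixes y N := fun h => hf (fixes_of_pump hvv hvw.symm hJ hN hyw (mem_c hyv) h hor')
    obtain ⟨⟨M⟩, hvf, r, hr, hvr⟩ := hpump w hw hw1 N hN hNf
    obtain ⟨hvN, h3⟩ := card_of_inner M hvv hvf hr hvr
    have hJN : J ≤ N := by
      rcases hor' with h | ⟨h, -⟩
      · exact h
      · exact absurd (mem_normalizer_iff_cj.mp hvN) h
    have h1 : IsComp (N ⊓ centralizer ({v} : Set G)) J :=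
      hJ.restrict (inf_le_inf_right _ hN.le) (le_inf hJN (hJ.le.trans inf_le_right))
    have h2 := (M.isComp_iff_cmp hvN hvv).mp h1
    omega

end Cfsg.Agent.UGT.A7.B
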