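import Cfsg.Agent.UGT.A7.Frame7
import Cfsg.Agent.UAlt.ModFive
import Cfsg.Agent.UAlt.NineA
import Cfsg.Agent.UAlt.Rig
import Cfsg.Agent.UGT.PumpGen

/-!
# [A7], beta-branch, World 1: basic facts (#14360)

`Wd U`: the properties of the family `U s = {K}` used in World 1 (every `s` has at most one `K`, all pump-ups are
trivial).
-/

set_option autoImplicit false
set_option linter.unusedSectionVars false

open Cfsg Subgroup Equiv Equiv.Perm
open Cfsg.Agent.UAlt
open Cfsg.Agent.SignalizersComponents Cfsg.Agent.Lib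
open Cfsg.Agent.SignalizersComponents.IntrinsicBasic
open Cfsg.Agent.Intrinsic.Basic Cfsg.Agent.Intrinsic.Cen Cfsg.Agent.Intrinsic.Diag
open Cfsg.Agent.McLLyComp.Act
open Cfsg.Agent.UGT.Triple Cfsg.Agent.UGT.TriBase Cfsg.Agent.UGT.LemG Cfsg.Agent.UAlt.Nine
open scoped commutatorElement

namespace Cfsg.Agent.UGT.A7.B.One

variable {G : Type*} [Group G] [Finite G]

/-! ### general facts -/

/-- a 2-component `Z` of `C_X(s)` moved by some `x ∈ K ∩ C(s)`, `K` an `s`-invariant 2-component of `X`, lies in `K` -/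
theorem le_of_not_fixes {X K Z : Subgroup G} {s x : G} (hs : s ∈ X) (hss : s * s = 1)
    (hZ : IsComp (X ⊓ centralizer ({s} : Set G)) Z) (hK : IsComp X K) (hsK : s ∈ normalizer (K : Set G))
    (hx : x ∈ K) (hxs : x * s = s * x) (hn : ¬ Fixes x Z) : Z ≤ K := by
  have hxX : x ∈ X := hK.le hx
  obtain ⟨J, hJ, -, h⟩ := McLLyComp.PumpT.exists_pump hs hss hZ
  rcases h with ⟨-, hZJ⟩ | ⟨hne, hZd⟩
  · by_cases hJK : J = K
    · exact hJK ▸ hZJ
    · exact (hn (fixes_of_le hJ hZ hZJ hxX (mem_c hxs) (hJ.fixes_of_mem hK hJK hx))).elim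
  · have hKJ : K ≠ J := by
      rintro rfl
      exact hne (mem_normalizer_iff_cj.mp hsK)
    have hKJ' : K ≠ cj s J := by
      intro h
      apply hKJ
      have h1 : cj s K = K := mem_normalizer_iff_cj.mp hsK
      have h2 : cj s K = J := by
        rw [h, ← cj_mul, hss, cj_one]
      rw [← h1, h2]
    refine (hn (fixes_of_comm_core hZ ⟨hxX, mem_c hxs⟩ fun z hz => ?_)).elim
    have h1 : ⁅z, x⁆ ∈ core X := comm_diag_of_ne hJ hs hss hne hK hKJ hKJ' (hZd ▸ hz) hx
    have h2 : ⁅x, z⁆ ∈ core X := by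
      rw [← commutatorElement_inv]; exact inv_mem h1
    refine core_inf_le h2 ?_
    rw [commutatorElement_def]
    have hz' := (hZ.le hz).2
    have hx' : x ∈ centralizer ({s} : Set G) := mem_c hxs
    exact mul_mem (mul_mem (mul_mem hx' hz') (inv_mem hx')) (inv_mem hz')

/-- **labels of the pump-up**: `t` an involution commuting with `s` and fixing `K`, `N ≥ cen K t` covered by it -/
theorem exists_lab {s t : G} {K N : Subgroup G} (M : Lab K) (ht : t * t = 1)
    (hts : t * s = s * t) (hf : Fixes t K) (hle : cen K t ⊔ core N = N)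
    (hK : centralizer ({s} : Set G) ≤ normalizer (K : Set G))
    (hN : centralizer ({t} : Set G) ≤ normalizer (N : Set G)) :
    ∃ M' : Lab N, (∀ y ∈ cen K t, M'.φ y = M.φ y) ∧
      ∀ g, g * s = s * g → g * t = t * g → M'.φ g = M.φ g := by
  have h1 : M.φ t = 1 := (M.fixes_iff hf.1).2 hf
  have h7 : (Finset.univ : Finset (Fin 7)).card = 7 := by rw [Finset.card_univ, Fintype.card_fin]
  obtain ⟨E, F, hE, hF, ME, hME⟩ : ∃ (E : Subgroup G) (F : Finset (Fin 7)), E = cen K t ∧
      F = Finset.univ ∧ ∃ ME : Mod E F, ∀ x ∈ E, ME.φ x = M.φ x := by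
    refine ⟨M.cmp t, fixIn Finset.univ (M.φ t), cmp_eq_cen M h1, by rw [h1, fixIn_one], ?_⟩
    exact M.exists_cmp hf.1 ht (by rw [h1, fixIn_one, h7])
  subst hE
  subst hF
  obtain ⟨A, hA⟩ := ME.exists_extend_five (by omega) (by omega) hle
  refine ⟨A, fun y hy => by rw [hA y hy, hME y hy], fun g hgs hgt => ?_⟩
  have hgK : g ∈ normalizer (K : Set G) := hK (mem_c hgs)
  have hgN : g ∈ normalizer (N : Set G) := hN (mem_c hgt)
  have hgE : g ∈ normalizer (cen K t : Set G) := mem_normalizer_cen hgK hgt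
  have hEN : cen K t ≤ N := by
    have h2 : cen K t ≤ cen K t ⊔ core N := le_sup_left
    rwa [hle] at h2
  ext y
  have e1 := M.compat ME (cen_le K t) hME hgK hgE (Finset.mem_univ y)
  have e2 := A.compat ME hEN (fun x hx => (hA x hx).symm) hgN hgE (Finset.mem_univ y)
  rw [← e1, ← e2]

/-! ### the world -/

/-- the family of pairs `(s, K)` of World 1 -/
structure Wd (U : G → Subgroup G → Prop) : Prop where
  two : ∀ {s K}, U s K → orderOf s = 2
  comp : ∀ {s K}, U s K → IsComp (centralizer ({s} : Set G)) K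
  lab : ∀ {s K}, U s K → Nonempty (Lab K)
  conj : ∀ {s K} (g : G), U s K → U (g * s * g⁻¹) (cj g K)
  uniq : ∀ {s K K'}, U s K → U s K' → K = K'
  up : ∀ {s t K}, U s K → orderOf t = 2 → t * s = s * t → Fixes t K →
    ∃ N, U t N ∧ Fixes s N ∧ cen K t ⊔ core N = N

namespace Wd

variable {U : G → Subgroup G → Prop} (W : Wd U)

include W

theorem nor {s : G} {K : Subgroup G} (h : U s K) : centralizer ({s} : Set G) ≤ normalizer (K : Set G) := by
  intro g hg
  rw [mem_normalizer_iff_cj]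
  have h1 := W.conj g h
  have h2 : g * s * g⁻¹ = s := by rw [comm_c hg, mul_inv_cancel_right]
  rw [h2] at h1
  exact W.uniq h1 h

theorem sq {s : G} {K : Subgroup G} (h : U s K) : s * s = 1 := sq_of_order (W.two h)

theorem ne {s : G} {K : Subgroup G} (h : U s K) : s ≠ 1 := ne_one_of_order (W.two h)

theorem fixes_self {s : G} {K : Subgroup G} (h : U s K) : Fixes s K := fixes_self' (W.comp h).le

/-- conjugation by elements of `C(s)`: fixing is invariant -/
theorem fixes_conj {s : G} {K : Subgroup G} (h : U s K) {g w : G} (hg : g * s = s * g) (hw : Fixes w K) :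
    Fixes (g * w * g⁻¹) K := McLLyComp.Act.fixes_conj hw (W.nor h (mem_c hg))

/-- the pump-up, with labels -/
theorem up_lab {s t : G} {K : Subgroup G} (h : U s K) (M : Lab K) (ht : orderOf t = 2)
    (hts : t * s = s * t) (hf : Fixes t K) :
    ∃ N, U t N ∧ Fixes s N ∧ cen K t ≤ N ∧ ∃ M' : Lab N, (∀ y ∈ cen K t, M'.φ y = M.φ y) ∧
      ∀ g, g * s = s * g → g * t = t * g → M'.φ g = M.φ g := by
  obtain ⟨N, h1, h2, h3⟩ := W.up h ht hts hf
  refine ⟨N, h1, h2, ?_, exists_lab M (sq_of_order ht) hts hf h3 (W.nor h) (W.nor h1)⟩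
  have h4 : cen K t ≤ cen K t ⊔ core N := le_sup_left
  rwa [h3] at h4

/-- the pump-up, without labels: `t ∈ F(s)` gives `t ∈ J`, `s ∈ F(t)` and `F` agrees on `C(s, t)` -/
theorem up_fix {s t : G} {K : Subgroup G} (h : U s K) (ht : orderOf t = 2)
    (hts : t * s = s * t) (hf : Fixes t K) :
    ∃ N, U t N ∧ Fixes s N ∧ cen K t ≤ N ∧
      ∀ g, g * s = s * g → g * t = t * g → (Fixes g N ↔ Fixes g K) := by
  obtain ⟨M⟩ := W.lab h
  obtain ⟨N, h1, h2, h3, M', -, h5⟩ := W.up_lab h M ht hts hf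
  refine ⟨N, h1, h2, h3, fun g hgs hgt => ?_⟩
  rw [← M'.fixes_iff (W.nor h1 (mem_c hgt)), ← M.fixes_iff (W.nor h (mem_c hgs)), h5 g hgs hgt]

/-- the same for given `N` -/
theorem fix_iff {s t : G} {K N : Subgroup G} (h : U s K) (hN : U t N) (hts : t * s = s * t)
    (hf : Fixes t K) {g : G} (hgs : g * s = s * g) (hgt : g * t = t * g) : Fixes g N ↔ Fixes g K := by
  obtain ⟨N', h1, -, -, h4⟩ := W.up_fix h (W.two hN) hts hf
  rw [W.uniq hN h1]
  exact h4 g hgs hgt

theorem cen_le' {s t : G} {K N : Subgroup G} (h : U s K) (hN : U t N) (hts : t * s = s * t)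
    (hf : Fixes t K) : cen K t ≤ N := by
  obtain ⟨N', h1, -, h3, -⟩ := W.up_fix h (W.two hN) hts hf
  rw [W.uniq hN h1]
  exact h3

/-- symmetry of `F` -/
theorem symm {s t : G} {K N : Subgroup G} (h : U s K) (hN : U t N) (hts : t * s = s * t)
    (hf : Fixes t K) : Fixes s N := by
  obtain ⟨N', h1, h2, -, -⟩ := W.up_fix h (W.two hN) hts hf
  rw [W.uniq hN h1]
  exact h2

end Wd

end Cfsg.Agent.UGT.A7.B.One
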