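import Cfsg.Agent.UGT.A7.B.OneSyl

/-!
# [A7], beta-branch, World 1, E-type: the claim

`I(K) ∩ J = ∅`, `e ∈ J ∩ C(a)`, `e ∉ F(a)`: the 2-subgroups of `F(a) ∩ C(e)` are contained in `⟨a⟩`.
-/

set_option autoImplicit false
set_option linter.unusedSectionVars false

open Cfsg Subgroup Equiv Equiv.Perm
open Cfsg.Agent.UAlt
open Cfsg.Agent.SignalizersComponents Cfsg.Agent.Lib
open Cfsg.Agent.SignalizersComponents.IntrinsicBasic
open Cfsg.Agent.Intrinsic.Basic Cfsg.Agent.Intrinsic.Cen Cfsg.Agent.Intrinsic.Diag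
open Cfsg.Agent.McLLyComp.Act
open Cfsg.Agent.UGT.Triple Cfsg.Agent.UGT.TriBase Cfsg.Agent.UGT.LemG Cfsg.Agent.UAlt.Nine
open scoped commutatorElement

namespace Cfsg.Agent.UGT.A7.B.One

variable {G : Type*} [Group G] [Finite G]

/-- a nontrivial element of 2-power order has an involution as a power -/
theorem exists_pow_inv {x : G} {n : ℕ} (hn : x ^ 2 ^ n = 1) (hx : x ≠ 1) :
    ∃ k : ℕ, orderOf (x ^ k) = 2 := by
  have h1 : orderOf x ∣ 2 ^ n := orderOf_dvd_of_pow_eq_one hn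
  obtain ⟨m, -, hm⟩ := (Nat.dvd_prime_pow Nat.prime_two).1 h1
  have hm0 : m ≠ 0 := by
    rintro rfl
    exact hx (orderOf_eq_one_iff.1 (by rw [hm, pow_zero]))
  obtain ⟨k, rfl⟩ : ∃ k, m = k + 1 := ⟨m - 1, by omega⟩
  refine ⟨2 ^ k, ?_⟩
  rw [orderOf_pow' _ (by positivity), hm]
  have h2 : Nat.gcd (2 ^ (k + 1)) (2 ^ k) = 2 ^ k := by
    rw [pow_succ]
    exact Nat.gcd_eq_right (Dvd.intro _ rfl)
  rw [h2, pow_succ, Nat.mul_div_cancel_left _ (by positivity)]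

/-- elements of a 2-group fixing `K` commute with the elements of the 2-group in `K` -/
theorem comm_fix {K Y : Subgroup G} (hY : IsPGroup 2 ↥Y) {x z : G} (hx : x ∈ Y) (hxK : x ∈ K)
    (hz : z ∈ Y) (hzf : Fixes z K) : z * x = x * z := by
  have h1 : ⁅z, x⁆ ∈ core K := hzf.2 x hxK
  have h2 : ⁅z, x⁆ ∈ Y := by
    rw [commutatorElement_def]
    exact mul_mem (mul_mem (mul_mem hz hx) (inv_mem hz)) (inv_mem hx)
  have h3 := eq_one_of_core hY h2 h1
  exact commutatorElement_eq_one_iff_mul_comm.1 h3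

/-- a 2-group of elements `g` such that no involution fixes `K'` is faithful on `K'` -/
theorem eq_one_of_no_inv {K' Z : Subgroup G} (hZ : IsPGroup 2 ↥Z)
    (h : ∀ z ∈ Z, orderOf z = 2 → ¬ Fixes z K') {z : G} (hz : z ∈ Z) (hf : Fixes z K') : z = 1 := by
  by_contra hne
  obtain ⟨n, hn⟩ := hZ ⟨z, hz⟩
  obtain ⟨k, hk⟩ := exists_pow_inv (n := n) (congrArg Subtype.val hn) hne
  refine h _ (Z.pow_mem hz k) hk ?_
  have h1 : ∀ k : ℕ, Fixes (z ^ k) K' := by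
    intro k
    induction k with
    | zero => rw [pow_zero]; exact fixes_one K'
    | succ k ih => rw [pow_succ]; exact fixes_mul ih hf
  exact h1 k

namespace Wd

variable {U : G → Subgroup G → Prop} (W : Wd U)

include W

/-- **CLAIM** (E-type) -/
theorem claim {a e : G} {K K' : Subgroup G} (ha : U a K) (he : U e K') (hea : e * a = a * e)
    (hn : ¬ Fixes e K) (hE : ∀ x ∈ K, orderOf x = 2 → ∀ N, ¬ U x N) {R : Subgroup G}
    (hR : IsPGroup 2 ↥R) (hRa : ∀ w ∈ R, w * a = a * w) (hRe : ∀ w ∈ R, w * e = e * w)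
    (hRf : ∀ w ∈ R, Fixes w K) : ∀ w ∈ R, w = 1 ∨ w = a := by
  have haa := W.sq ha
  have hee := W.sq he
  have hle : R ≤ centralizer ({a} : Set G) ⊓ centralizer ({e} : Set G) := fun w hw =>
    ⟨mem_c (hRa w hw), mem_c (hRe w hw)⟩
  obtain ⟨Y, hY, hRY⟩ := exists_isSyl hR hle
  have hYa : ∀ y ∈ Y, y * a = a * y := fun y hy => comm_c (hY.le hy).1
  have hYe : ∀ y ∈ Y, y * e = e * y := fun y hy => comm_c (hY.le hy).2
  have hYK : Y ≤ normalizer (K : Set G) := fun y hy => W.nor ha (hY.le hy).1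
  have hYK' : Y ≤ normalizer (K' : Set G) := fun y hy => W.nor he (hY.le hy).2
  have haY : a ∈ Y := mem_of_comm hY ⟨mem_c rfl, mem_c hea.symm⟩ (fun y hy => (hYa y hy).symm) haa
  obtain ⟨M⟩ := W.lab ha
  obtain ⟨M₀⟩ := W.lab he
  obtain ⟨M', -, -, hW⟩ := exists_lab_W0 M₀ hY.two hYK'
  -- `X = Y ∩ K`
  obtain ⟨X, hX⟩ : ∃ X, X = Y ⊓ K := ⟨_, rfl⟩
  have hXY : X ≤ Y := hX ▸ inf_le_left
  have hXK : X ≤ K := hX ▸ inf_le_right
  have hX8 : Nat.card ↥X = 8 := by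
    have h1 : IsSyl (K ⊓ centralizer ({e} : Set G)) (Y ⊓ (K ⊓ centralizer ({e} : Set G))) := by
      refine hY.inf (inf_le_inf_right _ (W.comp ha).le) ?_
      intro g hg
      have h1 : g ∈ normalizer (K : Set G) := W.nor ha hg.1
      have h2 : g ∈ normalizer (centralizer ({e} : Set G) : Set G) := le_normalizer hg.2
      rw [mem_normalizer_iff_cj] at h1 h2 ⊢
      rw [cj_inf, h1, h2]
    have h2 : Y ⊓ (K ⊓ centralizer ({e} : Set G)) = X := by
      rw [hX]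
      apply le_antisymm
      · exact le_inf inf_le_left (inf_le_right.trans inf_le_left)
      · exact le_inf inf_le_left (le_inf inf_le_right fun y hy => (hY.le hy.1).2)
    rw [h2] at h1
    have heN : e ∈ normalizer (K : Set G) := W.nor ha (mem_c hea)
    exact card_syl_cent M heN hee (fun h => hn ((M.fixes_iff heN).1 h)) h1
  have hX2 : IsPGroup 2 ↥X := hY.two.to_le hXY
  -- faithful actions
  have hXf : ∀ x ∈ X, Fixes x K' → x = 1 := by
    intro x hx hf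
    refine eq_one_of_no_inv hX2 (fun z hz hz2 hzf => ?_) hx hf
    obtain ⟨N, h1, -⟩ := W.up_fix he hz2 (hYe z (hXY hz)) hzf
    exact hE z (hXK hz) hz2 N h1
  obtain ⟨Z, hZ⟩ : ∃ Z, Z = fix Y K := ⟨_, rfl⟩
  have hZY : Z ≤ Y := hZ ▸ fix_le Y K
  have hZ2 : IsPGroup 2 ↥Z := hY.two.to_le hZY
  have hZK : ∀ z ∈ Z, Fixes z K := fun z hz => (mem_fix.1 (hZ ▸ hz)).2
  have hZf : ∀ z ∈ Z, Fixes z K' → z = 1 := by
    intro z hz hf
    refine eq_one_of_no_inv hZ2 (fun w hw hw2 hwf => ?_) hz hf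
    have hwa := hYa w (hZY hw)
    have hwe := hYe w (hZY hw)
    obtain ⟨N, h1, h2, -, h3⟩ := W.up_fix ha hw2 hwa (hZK w hw)
    obtain ⟨N', h4, h5, -, -⟩ := W.up_fix he hw2 hwe hwf
    rw [W.uniq h4 h1] at h5
    exact hn ((h3 e hea hwe.symm).1 h5)
  have hZl : ∀ z ∈ Z, M'.φ z = 1 → z = 1 := fun z hz h => hZf z hz ((M'.fixes_iff (hYK' (hZY hz))).1 h)
  -- the centralizer of `X`
  obtain ⟨x, hx, y, hy, hxy⟩ := exists_nab M hX2 hXK hX8
  have hxN := hYK' (hXY hx)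
  have hyN := hYK' (hXY hy)
  have hxy' : M'.φ x * M'.φ y ≠ M'.φ y * M'.φ x := by
    intro h
    apply hxy
    have h1 : M'.φ ((y * x)⁻¹ * (x * y)) = 1 := by
      rw [M'.mul _ _ (inv_mem (mul_mem hyN hxN)) (mul_mem hxN hyN), M'.inv (mul_mem hyN hxN),
        M'.mul _ _ hxN hyN, M'.mul _ _ hyN hxN, h, inv_mul_cancel]
    have h2 : (y * x)⁻¹ * (x * y) ∈ X := X.mul_mem (X.inv_mem (X.mul_mem hy hx)) (X.mul_mem hx hy)
    have h3 := hXf _ h2 ((M'.fixes_iff (hYK' (hXY h2))).1 h1)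
    exact (inv_mul_eq_one.1 h3).symm
  have hfour : ∀ z ∈ Z, M'.φ z = 1 ∨ M'.φ z = z0 ∨ M'.φ z = w0 ∨ M'.φ z = z0 * w0 := by
    intro z hz
    have hzN := hYK' (hZY hz)
    refine mem_four (hW x (hXY hx)) (hW y (hXY hy)) (hW z (hZY hz)) hxy' ?_ ?_
    · exact M'.comm hzN hxN (comm_fix hY.two (hXY hx) (hXK hx) (hZY hz) (hZK z hz))
    · exact M'.comm hzN hyN (comm_fix hY.two (hXY hy) (hXK hy) (hZY hz) (hZK z hz))
  have haZ : a ∈ Z := hZ ▸ mem_fix.2 ⟨haY, W.fixes_self ha⟩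
  intro w hw
  have hwZ : w ∈ Z := hZ ▸ mem_fix.2 ⟨hRY hw, hRf w hw⟩
  by_contra hcon
  push Not at hcon
  -- `q`, `r` over `z0`, `w0`
  have hqr : ∃ q ∈ Z, ∃ r ∈ Z, M'.φ q = z0 ∧ M'.φ r = w0 := by
    have haw : a * w ∈ Z := Z.mul_mem haZ hwZ
    have e1 : M'.φ (a * w) = M'.φ a * M'.φ w := M'.mul _ _ (hYK' haY) (hYK' (hZY hwZ))
    have e2 : M'.φ a ≠ 1 := fun h => W.ne ha (hZl a haZ h)
    have e3 : M'.φ w ≠ 1 := fun h => hcon.1 (hZl w hwZ h)
    have e4 : M'.φ a ≠ M'.φ w := by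
      intro h
      apply hcon.2
      have h1 : M'.φ (a * w) = 1 := by
        rw [e1, ← h, ← M'.mul _ _ (hYK' haY) (hYK' haY), haa, M'.one]
      have h2 := hZl _ haw h1
      have h3 : a⁻¹ = w := inv_eq_of_mul_eq_one_right h2
      rw [← h3, inv_eq_of_mul_eq_one_right haa]
    have d1 : z0 * w0 * w0 = z0 := by decide
    have d2 : z0 * (z0 * w0) = w0 := by decide
    have d3 : w0 * (z0 * w0) = z0 := by decide
    have d4 : z0 * w0 * z0 = w0 := by decide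
    rcases hfour a haZ with h1 | h1 | h1 | h1
    · exact absurd h1 e2
    · rcases hfour w hwZ with h2 | h2 | h2 | h2
      · exact absurd h2 e3
      · exact absurd (h1.trans h2.symm) e4
      · exact ⟨a, haZ, w, hwZ, h1, h2⟩
      · exact ⟨a, haZ, a * w, haw, h1, by rw [e1, h1, h2, d2]⟩
    · rcases hfour w hwZ with h2 | h2 | h2 | h2
      · exact absurd h2 e3
      · exact ⟨w, hwZ, a, haZ, h2, h1⟩
      · exact absurd (h1.trans h2.symm) e4
      · exact ⟨a * w, haw, a, haZ, by rw [e1, h1, h2, d3], h1⟩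
    · rcases hfour w hwZ with h2 | h2 | h2 | h2
      · exact absurd h2 e3
      · exact ⟨w, hwZ, a * w, haw, h2, by rw [e1, h1, h2, d4]⟩
      · exact ⟨a * w, haw, w, hwZ, by rw [e1, h1, h2, d1], h2⟩
      · exact absurd (h1.trans h2.symm) e4
  obtain ⟨q, hq, r, hr, hqz, hrw⟩ := hqr
  have hrN := hYK' (hZY hr)
  have hrr : r * r = 1 := by
    refine hZl _ (Z.mul_mem hr hr) ?_
    rw [M'.mul _ _ hrN hrN, hrw, w0w0]
  have hr1 : r ≠ 1 := by
    rintro rfl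
    rw [M'.one] at hrw
    exact absurd hrw (by decide)
  have hr2 : orderOf r = 2 := orderOf_eq_prime (by rw [pow_two, hrr]) hr1
  have hra := hYa r (hZY hr)
  have hre := hYe r (hZY hr)
  obtain ⟨Kr, hKr, -, hcen, hiff⟩ := W.up_fix ha hr2 hra (hZK r hr)
  -- `J' = C_{K'}(r)^∞`
  have h5 : 5 ≤ (fixIn (Finset.univ : Finset (Fin 7)) (M'.φ r)).card := by
    rw [hrw]; decide
  have hJ := M'.isComp_cmp_of (W.comp he) hrN hrr h5
  rw [inf_comm] at hJ
  have heN : e ∈ normalizer (Kr : Set G) := W.nor hKr (mem_c hre.symm)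
  have hXr : ∀ x ∈ X, x * r = r * x := fun x hx =>
    (comm_fix hY.two (hXY hx) (hXK hx) (hZY hr) (hZK r hr)).symm
  have hXKr : X ≤ Kr := by
    intro x hx
    obtain ⟨n, hn⟩ := hX2 ⟨x, hx⟩
    exact hcen (mem_cen (hXK hx) (hXr x hx) (n := n) (congrArg Subtype.val hn))
  have hmem : ∀ p : Fin 7, p ≠ 4 → p ≠ 5 → p ∈ fixIn (Finset.univ : Finset (Fin 7)) (M'.φ r) := by
    rw [hrw]; decide
  -- some element of `X` moves `J'`
  obtain ⟨v, hv, hvJ⟩ : ∃ v ∈ X, ¬ Fixes v (M'.cmp r) := by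
    by_contra hcon2
    push Not at hcon2
    have h6 : ∀ v ∈ X, M'.φ v = 1 ∨ M'.φ v = w0 := by
      intro v hv
      refine eq_of_fix fun i h4 h5' => ?_
      exact M'.apply_of_fixes_cmp hrN hrr h5 (hYK' (hXY hv)) (hcon2 v hv) (hmem i h4 h5')
    apply hxy'
    rcases h6 x hx with h | h <;> rcases h6 y hy with h' | h' <;> rw [h, h']
    · rw [one_mul, mul_one]
    · rw [one_mul, mul_one]
  have hle' : M'.cmp r ≤ Kr := le_of_not_fixes (mem_c hre.symm) hee hJ (W.comp hKr) heN (hXKr hv)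
    (hYe v (hXY hv)) hvJ
  -- `q` fixes `J'`
  have hqr : q * r = r * q := by
    have h6 : M'.φ (q * r * (r * q)⁻¹) = 1 := by
      have hqN := hYK' (hZY hq)
      rw [M'.mul _ _ (mul_mem hqN hrN) (inv_mem (mul_mem hrN hqN)), M'.inv (mul_mem hrN hqN),
        M'.mul _ _ hqN hrN, M'.mul _ _ hrN hqN, hqz, hrw]
      decide
    have h7 := hZl _ (Z.mul_mem (Z.mul_mem hq hr) (Z.inv_mem (Z.mul_mem hr hq))) h6
    exact mul_inv_eq_one.1 h7
  have hqK : Fixes q Kr := (hiff q (hYa q (hZY hq)) hqr).2 (hZK q hq)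
  have hqJ : Fixes q (M'.cmp r) := fixes_of_le (W.comp hKr) hJ hle' (mem_c hqr)
    (mem_c (hYe q (hZY hq))) hqK
  have h6 := M'.apply_of_fixes_cmp hrN hrr h5 (hYK' (hZY hq)) hqJ (hmem 0 (by decide) (by decide))
  rw [hqz] at h6
  exact absurd h6 (by decide)

end Wd

end Cfsg.Agent.UGT.A7.B.One
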