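import Cfsg.Agent.UGT.A7.B.OneKPar
import Cfsg.Agent.UGT.A7.B.CentTransfer
import Cfsg.Agent.UGT.A7.Star7

/-!
# [A7], beta-branch, World 1, (K3)

`worldK`: the situation `Sit` with `|T| > 64` is impossible in a perfect group.
-/

set_option autoImplicit false
set_option linter.unusedSectionVars false

open Cfsg Subgroup Equiv Equiv.Perm MulAction
open Cfsg.Agent.UAlt
open Cfsg.Agent.SignalizersComponents Cfsg.Agent.Lib
open Cfsg.Agent.SignalizersComponents.IntrinsicBasic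
open Cfsg.Agent.Intrinsic.Basic Cfsg.Agent.Intrinsic.Cen Cfsg.Agent.Intrinsic.Diag
open Cfsg.Agent.McLLyComp.Act
open Cfsg.Agent.UGT.Triple Cfsg.Agent.UGT.TriBase Cfsg.Agent.UGT.LemG Cfsg.Agent.UAlt.Nine
open Cfsg.Agent.UGT.A7.B.One Cfsg.Agent.UGT.A7.B.OneKBase Cfsg.Agent.UGT.A7.B.OneKPar
open Cfsg.Agent.UGT.Parity Cfsg.Agent.UGT.ParityPair Cfsg.Agent.UGT.A7.B.CentTransfer

namespace Cfsg.Agent.UGT.A7.B.OneK

universe u

/-! ### groups -/

/-- a homomorphism to a commutative group with kernel `D`, `D` normal of index 4 -/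
theorem exists_hom_four {S : Type u} [Group S] (D : Subgroup S) [D.Normal] (h : D.index = 4) :
    ∃ (A : Type u) (_ : CommGroup A) (φ : S →* A), ∀ x, φ x = 1 ↔ x ∈ D := by
  have hp : Fact (Nat.Prime 2) := ⟨Nat.prime_two⟩
  have hcard : Nat.card (S ⧸ D) = 2 ^ 2 := h
  refine ⟨S ⧸ D, IsPGroup.commGroupOfCardEqPrimeSq hcard, QuotientGroup.mk' D, fun x => ?_⟩
  exact QuotientGroup.eq_one_iff x

/-- an odd power of 2-power order -/
theorem exists_odd_pow {G : Type*} [Group G] [Finite G] (x : G) : ∃ m k : ℕ, Odd m ∧ (x ^ m) ^ 2 ^ k = 1 := by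
  obtain ⟨k, m, hm, h⟩ := Nat.exists_eq_two_pow_mul_odd (orderOf_pos x).ne'
  refine ⟨m, k, hm, ?_⟩
  rw [← pow_mul, mul_comm, ← h, pow_orderOf_eq_one]

variable {G : Type*} [Group G] [Finite G] {U : G → Subgroup G → Prop} {a l : G} {K L T : Subgroup G}

/-- a subgroup of index at most two: centralizers of elements with at most two conjugates -/
theorem card_cent {T : Subgroup G} {y : G}
    (h : ∀ b ∈ T, ∀ w ∈ T, b * y ≠ y * b → w * y ≠ y * w → (b * w) * y = y * (b * w)) :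
    Nat.card T ≤ 2 * Nat.card ↥(T ⊓ centralizer ({y} : Set G) : Subgroup G) := by
  by_cases h1 : ∀ t ∈ T, t * y = y * t
  · have h2 : T ⊓ centralizer ({y} : Set G) = T := inf_eq_left.2 fun t ht => mem_c (h1 t ht)
    rw [h2]
    omega
  · push Not at h1
    obtain ⟨w, hw, hwy⟩ := h1
    refine le_of_eq (card_two inf_le_left hw (fun h2 => hwy (comm_c h2.2)) fun b hb hbn => ?_)
    exact ⟨T.mul_mem hb hw, mem_c (h b hb w hw (fun h3 => hbn ⟨hb, mem_c h3⟩) hwy)⟩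

/-- the even elements of `T` -/
def Dv (K T : Subgroup G) (M : Lab K) (h : T ≤ normalizer (K : Set G)) : Subgroup G where
  carrier := {t | t ∈ T ∧ sign (M.φ t) = 1}
  one_mem' := ⟨T.one_mem, by rw [M.one]; exact sign_one⟩
  mul_mem' := by
    rintro s t ⟨hs, hs'⟩ ⟨ht, ht'⟩
    refine ⟨T.mul_mem hs ht, ?_⟩
    rw [M.mul _ _ (h hs) (h ht), Perm.sign_mul, hs', ht', one_mul]
  inv_mem' := by
    rintro t ⟨ht, ht'⟩
    refine ⟨T.inv_mem ht, ?_⟩
    rw [M.inv (h ht), Perm.sign_inv, ht']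

theorem mem_Dv {M : Lab K} {h : T ≤ normalizer (K : Set G)} {t : G} :
    t ∈ Dv K T M h ↔ t ∈ T ∧ sign (M.φ t) = 1 := Iff.rfl

section

variable (S : Sit U a l K L T) (hG : commutator G = ⊤) (MK : Lab K)

include S hG

theorem twoP : TwoP (Dv K T MK S.TN) (T ⊓ K) (T ⊓ L) where
  PT := fun p hp => ⟨hp.1, by
    have := MK.mem_alt p hp.2
    rw [alt_univ, mem_alternatingGroup] at this
    exact this⟩
  RT := fun r hr => ⟨hr.1, by
    rw [(MK.fixes_iff (S.TN hr.1)).2 (S.hR r hr)]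
    exact sign_one⟩
  sup := by
    rintro t ⟨ht, h1⟩
    obtain ⟨ML⟩ := S.W.lab S.ul
    exact S.exists_PR MK ML ht h1 (by rw [← sign_eq_sign S hG MK ML ht]; exact h1)
  comm := fun p hp r hr => S.comm_PR hp hr
  inf := fun p hp hr => S.inf_PR hp hr

theorem card_Dv : Nat.card ↥(Dv K T MK S.TN) = 64 := by
  rw [(twoP S hG MK).card, S.eightP.card, S.symm.eightP.card]

/-- the central odd involution -/
theorem exists_odd (hT : 64 < Nat.card T) :
    ∃ e ∈ T, (∀ s ∈ T, s * e = e * s) ∧ e * e = 1 ∧ sign (MK.φ e) = -1 := by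
  obtain ⟨ML⟩ := S.W.lab S.ul
  obtain ⟨t, ht, hto⟩ : ∃ t ∈ T, sign (MK.φ t) = -1 := by
    by_contra hno
    push Not at hno
    have h1 : T ≤ Dv K T MK S.TN := fun t ht =>
      ⟨ht, (Int.units_eq_one_or (sign (MK.φ t))).resolve_right (hno t ht)⟩
    have h2 := Nat.le_of_dvd Nat.card_pos (card_dvd_of_le h1)
    rw [card_Dv S hG MK] at h2
    omega
  obtain ⟨e, heT, hec, hee, h1, -⟩ := S.exists_e MK ML ht
  exact ⟨e, heT, hec, hee, h1.trans hto⟩

theorem card_T {e : G} (heT : e ∈ T) (heo : sign (MK.φ e) = -1) : Nat.card T = 128 := by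
  have hne : (-1 : ℤˣ) ≠ 1 := by decide
  rw [card_two (A := Dv K T MK S.TN) (fun t ht => ht.1) heT (fun h => hne (by rw [← heo]; exact h.2)) ?_,
    card_Dv S hG MK]
  intro b hb hbn
  refine ⟨T.mul_mem hb heT, ?_⟩
  have h1 : sign (MK.φ b) = -1 := (Int.units_eq_one_or (sign (MK.φ b))).resolve_left fun h => hbn ⟨hb, h⟩
  rw [MK.mul _ _ (S.TN hb) (S.TN heT), Perm.sign_mul, h1, heo]
  decide

theorem a_ne_l : a ≠ l := by
  intro h
  exact S.a1 (S.inf_PR ⟨S.aT, by rw [h]; exact S.lK⟩ ⟨S.aT, S.aL⟩)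

/-- `N(T)` acts on `{a, l}` -/
theorem norm_act {n : G} (hn : ∀ t ∈ T, n * t * n⁻¹ ∈ T) : n * a * n⁻¹ = a ∨ n * a * n⁻¹ = l := by
  have h1 : n ∈ normalizer (T : Set G) := mem_normalizer_of hn
  refine central_J S hG (S.W.conj n S.ua) fun t ht => ?_
  have h2 : n⁻¹ * t * n ∈ T := by
    have h3 := (mem_normalizer_iff.1 (inv_mem h1) t).1 ht
    rwa [inv_inv] at h3
  have h3 := S.a_comm h2
  calc t * (n * a * n⁻¹) = n * ((n⁻¹ * t * n) * a) * n⁻¹ := by group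
    _ = n * (a * (n⁻¹ * t * n)) * n⁻¹ := by rw [h3]
    _ = _ := by group

/-- `N(T)` preserves the parity -/
theorem conj_sign {n : G} (hn : ∀ t ∈ T, n * t * n⁻¹ ∈ T) {t : G} (ht : t ∈ T) :
    sign (MK.φ (n * t * n⁻¹)) = sign (MK.φ t) := by
  have h1 := S.W.conj n S.ua
  rcases norm_act S hG hn with h2 | h2
  · rw [h2] at h1
    have h3 : cj n K = K := S.W.uniq h1 S.ua
    obtain ⟨N, hN⟩ : ∃ N, N = cj n K := ⟨_, rfl⟩
    have key : ∀ (M' : Lab (cj n K)), sign (M'.φ (n * t * n⁻¹)) = sign (MK.φ t) := fun M' =>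
      sign_cj n MK M' (S.TN ht)
    rw [h3] at key
    exact key MK
  · rw [h2] at h1
    have h3 : cj n K = L := S.W.uniq h1 S.ul
    have key : ∀ (M' : Lab (cj n K)), sign (M'.φ (n * t * n⁻¹)) = sign (MK.φ t) := fun M' =>
      sign_cj n MK M' (S.TN ht)
    rw [h3] at key
    obtain ⟨ML⟩ := S.W.lab S.ul
    rw [sign_eq_sign S hG MK ML (hn t ht)]
    exact key ML

/-- **the swap** -/
theorem exists_swap {e : G} (heT : e ∈ T) (hec : ∀ t ∈ T, t * e = e * t) (hee : e * e = 1)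
    (heo : sign (MK.φ e) = -1) : ∃ n : G, (∀ t ∈ T, n * t * n⁻¹ ∈ T) ∧ n * a * n⁻¹ = l ∧ n * l * n⁻¹ = a := by
  have hne : (-1 : ℤˣ) ≠ 1 := by decide
  have heK : e ∈ normalizer (K : Set G) := S.TN heT
  obtain ⟨g, h1, -, -, h4⟩ := exists_ne_orbit (Ω := Pair G) (noSign_of_perfect hG) (isParity S.W) hee S.two
    (fun t ht => mem_c (hec t ht)) (ω := ⟨a, K⟩) (smul_eq_iff.2 ⟨(hec a S.aT).symm, heK⟩)
    (fun h => by
      rw [ev_iff S.ua MK heK, heo] at h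
      exact hne h)
    (fun t ht => smul_eq_iff.2 ⟨S.a_comm ht, S.TN ht⟩)
  have hU := S.W.conj g S.ua
  have h5 : g * a * g⁻¹ = l := by
    rcases central_J S hG hU (fun t ht => (smul_eq_iff.1 (h4 t ht)).1) with h | h
    · exfalso
      apply h1
      rw [h] at hU
      exact Pair.ext' h (S.W.uniq hU S.ua)
    · exact h
  -- conjugate `cj g T` to `T`
  have h6 : cj g T ≤ centralizer ({l} : Set G) := by
    rintro _ ⟨t, ht, rfl⟩
    refine mem_c ?_
    have h7 := S.a_comm ht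
    change (g * t * g⁻¹) * l = l * (g * t * g⁻¹)
    rw [← h5]
    calc (g * t * g⁻¹) * (g * a * g⁻¹) = g * (t * a) * g⁻¹ := by group
      _ = g * (a * t) * g⁻¹ := by rw [h7]
      _ = _ := by group
  obtain ⟨c, hc, h7⟩ := S.Tl.conj (isPGroup_cj S.two) h6
  have h8 : cj g T = cj c T := eq_of_le_of_card_ge h7 (by rw [card_cj, card_cj])
  have h9 : ∀ t ∈ T, (c⁻¹ * g) * t * (c⁻¹ * g)⁻¹ ∈ T := by
    intro t ht
    have h10 : g * t * g⁻¹ ∈ cj c T := by
      rw [← h8]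
      exact ⟨t, ht, rfl⟩
    rw [mem_cj] at h10
    have h11 : (c⁻¹ * g) * t * (c⁻¹ * g)⁻¹ = c⁻¹ * (g * t * g⁻¹) * c := by group
    rw [h11]
    exact h10
  have h10 : (c⁻¹ * g) * a * (c⁻¹ * g)⁻¹ = l := by
    have h11 := comm_c hc
    calc (c⁻¹ * g) * a * (c⁻¹ * g)⁻¹ = c⁻¹ * (g * a * g⁻¹) * c := by group
      _ = c⁻¹ * (l * c) := by rw [h5]; group
      _ = c⁻¹ * (c * l) := by rw [h11]
      _ = l := by group
  refine ⟨c⁻¹ * g, h9, h10, ?_⟩
  rcases norm_act S.symm hG h9 with h | h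
  · exfalso
    apply a_ne_l S hG
    have h11 : (c⁻¹ * g) * a * (c⁻¹ * g)⁻¹ = (c⁻¹ * g) * l * (c⁻¹ * g)⁻¹ := by rw [h10, h]
    exact mul_left_cancel (mul_right_cancel h11)
  · exact h

/-- the swap can be chosen of 2-power order -/
theorem exists_swap_two {e : G} (heT : e ∈ T) (hec : ∀ t ∈ T, t * e = e * t) (hee : e * e = 1)
    (heo : sign (MK.φ e) = -1) : ∃ n : G, (∀ t ∈ T, n * t * n⁻¹ ∈ T) ∧ n * a * n⁻¹ = l ∧ n * l * n⁻¹ = a ∧
      ∃ k : ℕ, n ^ 2 ^ k = 1 := by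
  obtain ⟨n, h1, h2, h3⟩ := exists_swap S hG MK heT hec hee heo
  obtain ⟨m, k, ⟨j, rfl⟩, h4⟩ := exists_odd_pow n
  have h5 : Commute (n ^ 2) a := by
    change n ^ 2 * a = a * n ^ 2
    have h6 : n ^ 2 * a * (n ^ 2)⁻¹ = a := by
      calc n ^ 2 * a * (n ^ 2)⁻¹ = n * (n * a * n⁻¹) * n⁻¹ := by rw [pow_two]; group
        _ = a := by rw [h2, h3]
    exact mul_inv_eq_iff_eq_mul.1 h6
  have h6 : Commute (n ^ 2) l := by
    change n ^ 2 * l = l * n ^ 2
    have h6 : n ^ 2 * l * (n ^ 2)⁻¹ = l := by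
      calc n ^ 2 * l * (n ^ 2)⁻¹ = n * (n * l * n⁻¹) * n⁻¹ := by rw [pow_two]; group
        _ = l := by rw [h3, h2]
    exact mul_inv_eq_iff_eq_mul.1 h6
  have h7 : n ^ (2 * j + 1) = n * (n ^ 2) ^ j := by rw [pow_succ', pow_mul]
  have h8 : ∀ {x y : G}, Commute (n ^ 2) x → n * x * n⁻¹ = y →
      n ^ (2 * j + 1) * x * (n ^ (2 * j + 1))⁻¹ = y := by
    intro x y hx hy
    have h9 : (n ^ 2) ^ j * x = x * (n ^ 2) ^ j := hx.pow_left j
    rw [h7]
    calc n * (n ^ 2) ^ j * x * (n * (n ^ 2) ^ j)⁻¹ = n * ((n ^ 2) ^ j * x) * ((n ^ 2) ^ j)⁻¹ * n⁻¹ := by group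
      _ = n * (x * (n ^ 2) ^ j) * ((n ^ 2) ^ j)⁻¹ * n⁻¹ := by rw [h9]
      _ = n * x * n⁻¹ := by rw [← mul_assoc n x, mul_inv_cancel_right]
      _ = y := hy
  refine ⟨n ^ (2 * j + 1), fun t ht => ?_, h8 h5 h2, h8 h6 h3, k, h4⟩
  have h9 : n ^ (2 * j + 1) ∈ normalizer (T : Set G) := pow_mem (mem_normalizer_of h1) _
  exact (mem_normalizer_iff.1 h9 t).1 ht

/-- the centralizers of the elements of `P` in `T` are large -/
theorem card_cent_P (hT : Nat.card T = 128) {y : G} (hy : y ∈ T ⊓ K) :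
    64 ≤ Nat.card ↥(T ⊓ centralizer ({y} : Set G) : Subgroup G) := by
  have h1 : ∀ b ∈ T, b * y ≠ y * b → b * y * b⁻¹ = l * y := by
    intro b hb hby
    obtain ⟨M, F⟩ := S.exists_frame
    obtain ⟨p, hp, q, hq, rfl⟩ := F.twoP.sup b hb
    have h2 : p * q * y * (p * q)⁻¹ = p * y * p⁻¹ := by
      have h3 := F.comm_PQ hy hq
      calc p * q * y * (p * q)⁻¹ = p * (q * y) * q⁻¹ * p⁻¹ := by group
        _ = p * (y * q) * q⁻¹ * p⁻¹ := by rw [h3]
        _ = _ := by group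
    rw [h2]
    rcases S.eightP.com p hp y hy with h3 | h3
    · exfalso
      apply hby
      have h4 : p * q * y * (p * q)⁻¹ = y := by rw [h2]; exact mul_inv_eq_one.1 h3
      exact mul_inv_eq_iff_eq_mul.1 h4
    · exact mul_inv_eq_iff_eq_mul.1 h3
  have h2 := card_cent (T := T) (y := y) fun b hb w hw hb' hw' => by
    have h3 := h1 b hb hb'
    have h4 := h1 w hw hw'
    have h5 := S.l_comm hb
    have h6 : (b * w) * y * (b * w)⁻¹ = y := by
      calc (b * w) * y * (b * w)⁻¹ = b * (w * y * w⁻¹) * b⁻¹ := by group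
        _ = (b * l) * y * b⁻¹ := by rw [h4]; group
        _ = l * (b * y * b⁻¹) := by rw [h5]; group
        _ = (l * l) * y := by rw [h3]; group
        _ = y := by rw [S.symm.aa, one_mul]
    exact mul_inv_eq_iff_eq_mul.1 h6
  omega

/-- the elements swapping `a` and `l` have small centralizers in `T` -/
theorem card_cent_swap {x : G} (h1 : x * a * x⁻¹ = l) :
    Nat.card ↥(T ⊓ centralizer ({x} : Set G) : Subgroup G) ≤ 16 := by
  obtain ⟨M, F⟩ := S.exists_frame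
  have hU := S.W.conj x S.ua
  rw [h1] at hU
  have h2 : cj x K = L := S.W.uniq hU S.ul
  let f : ↥(T ⊓ centralizer ({x} : Set G) : Subgroup G) → ↥W0 := fun t => ⟨M.φ t, F.inW t t.2.1⟩
  have hf : Function.Injective f := by
    intro s t h
    have h3 : M.φ s = M.φ t := congrArg Subtype.val h
    have hmem : (s : G)⁻¹ * t ∈ T ⊓ centralizer ({x} : Set G) := mul_mem (inv_mem s.2) t.2
    have h4 : Fixes ((s : G)⁻¹ * t) K := by
      refine (M.fixes_iff (S.TN hmem.1)).1 ?_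
      rw [M.mul _ _ (S.TN (T.inv_mem s.2.1)) (S.TN t.2.1), M.inv (S.TN s.2.1), h3, inv_mul_cancel]
    have h5 : Fixes ((s : G)⁻¹ * t) L := by
      have h6 := h4.cj x
      rw [h2] at h6
      have h7 : x * ((s : G)⁻¹ * t) * x⁻¹ = (s : G)⁻¹ * t := by
        rw [← comm_c hmem.2, mul_inv_cancel_right]
      rwa [h7] at h6
    exact Subtype.ext (inv_mul_eq_one.1 (S.eq_one hmem.1 h4 h5))
  rw [← card_W0]
  exact Nat.card_le_card_of_injective f hf

end

/-- **World 1, (K)** -/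
theorem sit_false (S : Sit U a l K L T) (hG : commutator G = ⊤) (hT : 64 < Nat.card T) : False := by
  obtain ⟨MK⟩ := S.W.lab S.ua
  obtain ⟨e, heT, hec, hee, heo⟩ := exists_odd S hG MK hT
  have hT128 := card_T S hG MK heT heo
  obtain ⟨n, hn, hna, hnl, k, hnk⟩ := exists_swap_two S hG MK heT hec hee heo
  have hal := a_ne_l S hG
  have hnT : n ∉ T := by
    intro h
    apply hal
    rw [← hna, S.a_comm h, mul_inv_cancel_right]
  -- a Sylow 2-subgroup containing `T⟨n⟩`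
  have hp : Fact (Nat.Prime 2) := ⟨Nat.prime_two⟩
  have hX : IsPGroup 2 ↥(T ⊔ zpowers n) := by
    refine S.two.to_sup_of_normal_left' ?_ ?_
    · rintro ⟨y, hy⟩
      obtain ⟨i, rfl⟩ := mem_zpowers_iff.mp hy
      refine ⟨k, Subtype.ext ?_⟩
      change (n ^ i) ^ 2 ^ k = 1
      rw [← zpow_natCast, ← zpow_mul, mul_comm, zpow_mul, zpow_natCast, hnk, one_zpow]
    · rw [zpowers_le]
      exact mem_normalizer_of hn
  obtain ⟨R, hR⟩ := hX.exists_le_sylow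
  have hTR : T ≤ R := le_sup_left.trans hR
  have hnR : n ∈ (R : Subgroup G) := hR (mem_sup_right (mem_zpowers n))
  -- `S₁ = N_R(T)`
  obtain ⟨S₁, hS₁⟩ : ∃ S₁ : Subgroup G, S₁ = (R : Subgroup G) ⊓ normalizer (T : Set G) := ⟨_, rfl⟩
  have hS₁R : S₁ ≤ R := by rw [hS₁]; exact inf_le_left
  have hTS₁ : T ≤ S₁ := by rw [hS₁]; exact le_inf hTR le_normalizer
  have hnS₁ : n ∈ S₁ := by rw [hS₁]; exact ⟨hnR, mem_normalizer_of hn⟩
  have hS₁n : ∀ g ∈ S₁, ∀ t ∈ T, g * t * g⁻¹ ∈ T := fun g hg t ht => by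
    rw [hS₁] at hg
    exact (mem_normalizer_iff.1 hg.2 t).1 ht
  have hact : ∀ g ∈ S₁, g ∉ T → g * a * g⁻¹ = l ∧ g * l * g⁻¹ = a := by
    intro g hg hgT
    have h1 : g * a * g⁻¹ = l := (norm_act S hG (hS₁n g hg)).resolve_left fun h =>
      hgT (mem_of_fix S.Ta R.2 hTR (hS₁R hg) (mem_c (mul_inv_eq_iff_eq_mul.1 h)))
    refine ⟨h1, (norm_act S.symm hG (hS₁n g hg)).resolve_left fun h => hal ?_⟩
    have h2 : g * a * g⁻¹ = g * l * g⁻¹ := by rw [h1, h]
    exact mul_left_cancel (mul_right_cancel h2)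
  have hprod : ∀ g ∈ S₁, g ∉ T → ∀ h ∈ S₁, h ∉ T → g * h ∈ T := by
    intro g hg hgT h hh hhT
    refine mem_of_fix S.Ta R.2 hTR (hS₁R (mul_mem hg hh)) (mem_c ?_)
    have h1 : (g * h) * a * (g * h)⁻¹ = a := by
      calc (g * h) * a * (g * h)⁻¹ = g * (h * a * h⁻¹) * g⁻¹ := by group
        _ = a := by rw [(hact h hh hhT).1, (hact g hg hgT).2]
    exact mul_inv_eq_iff_eq_mul.1 h1
  -- centralizers in `S₁`
  have hsmall : ∀ x ∈ S₁, x ∉ T → Nat.card ↥(S₁ ⊓ centralizer ({x} : Set G) : Subgroup G) ≤ 32 := by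
    intro x hx hxT
    have h1 := card_two (A := T ⊓ centralizer ({x} : Set G)) (B := S₁ ⊓ centralizer ({x} : Set G))
      (inf_le_inf_right _ hTS₁) (w := x) ⟨hx, mem_c rfl⟩ (fun h => hxT h.1)
      (fun b hb hbn => ⟨hprod b hb.1 (fun h => hbn ⟨h, hb.2⟩) x hx hxT, mul_mem hb.2 (mem_c rfl)⟩)
    have h2 := card_cent_swap S hG (hact x hx hxT).1
    omega
  -- weak closure
  have hweak : ∀ g : G, (∀ t ∈ T, g⁻¹ * t * g ∈ S₁) → ∀ t ∈ T, g⁻¹ * t * g ∈ T := by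
    intro g hg
    have h1 : ∀ y ∈ T, 64 ≤ Nat.card ↥(T ⊓ centralizer ({y} : Set G) : Subgroup G) → g⁻¹ * y * g ∈ T := by
      intro y hy h64
      by_contra hcon
      have h2 := hsmall _ (hg y hy) hcon
      have h3 : cj g⁻¹ (T ⊓ centralizer ({y} : Set G)) ≤ S₁ ⊓ centralizer ({g⁻¹ * y * g} : Set G) := by
        rintro _ ⟨t, ht, rfl⟩
        have h4 : g⁻¹ * t * g⁻¹⁻¹ = g⁻¹ * t * g := by rw [inv_inv]
        change g⁻¹ * t * g⁻¹⁻¹ ∈ _
        rw [h4]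
        refine ⟨hg t ht.1, mem_c ?_⟩
        have h5 := comm_c ht.2
        calc (g⁻¹ * t * g) * (g⁻¹ * y * g) = g⁻¹ * (t * y) * g := by group
          _ = g⁻¹ * (y * t) * g := by rw [h5]
          _ = _ := by group
      have h4 := Nat.le_of_dvd Nat.card_pos (card_dvd_of_le h3)
      rw [card_cj] at h4
      omega
    have hP : ∀ y ∈ T ⊓ K, g⁻¹ * y * g ∈ T := fun y hy => h1 y hy.1 (card_cent_P S hG hT128 hy)
    have hRr : ∀ y ∈ T ⊓ L, g⁻¹ * y * g ∈ T := fun y hy => h1 y hy.1 (card_cent_P S.symm hG hT128 hy)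
    have he : g⁻¹ * e * g ∈ T := h1 e heT (by
      have h2 : T ⊓ centralizer ({e} : Set G) = T := inf_eq_left.2 fun t ht => mem_c (hec t ht)
      rw [h2]
      omega)
    have hD : ∀ y ∈ T, sign (MK.φ y) = 1 → g⁻¹ * y * g ∈ T := by
      intro y hy hys
      obtain ⟨p, hp, r, hr, rfl⟩ := (twoP S hG MK).sup y ⟨hy, hys⟩
      have h2 : g⁻¹ * (p * r) * g = (g⁻¹ * p * g) * (g⁻¹ * r * g) := by group
      rw [h2]
      exact T.mul_mem (hP p hp) (hRr r hr)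
    intro t ht
    rcases Int.units_eq_one_or (sign (MK.φ t)) with h2 | h2
    · exact hD t ht h2
    · have h3 : g⁻¹ * t * g = (g⁻¹ * (t * e) * g) * (g⁻¹ * e * g) := by
        have : t * e * e = t := by rw [mul_assoc, hee, mul_one]
        calc g⁻¹ * t * g = g⁻¹ * (t * e * e) * g := by rw [this]
          _ = _ := by group
      rw [h3]
      refine T.mul_mem (hD _ (T.mul_mem ht heT) ?_) he
      rw [MK.mul _ _ (S.TN ht) (S.TN heT), Perm.sign_mul, h2, heo]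
      decide
  -- `S₁` is a Sylow 2-subgroup
  have hSeq : S₁ = R := by
    by_contra hne
    obtain ⟨y, hyR, hyS, hy⟩ := GH.E.exists_mem_normalizer R.isPGroup' hS₁R hne
    apply hyS
    rw [hS₁]
    refine ⟨hyR, mem_normalizer_of fun t ht => ?_⟩
    have h1 := hweak y⁻¹ (fun t ht => by
      rw [inv_inv]
      exact hy t (hTS₁ ht)) t ht
    rwa [inv_inv] at h1
  have hRcard : Nat.card (R : Subgroup G) = 256 := by
    rw [← hSeq, card_two hTS₁ hnS₁ hnT (fun b hb hbT => hprod b hb hbT n hnS₁ hnT), hT128]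
  rw [hSeq] at hS₁n hweak
  -- the homomorphism with kernel `D`
  have hDR : Dv K T MK S.TN ≤ R := fun t ht => hTR ht.1
  have hDn : ((Dv K T MK S.TN).subgroupOf (R : Subgroup G)).Normal := by
    refine ⟨fun t ht g => ?_⟩
    rw [mem_subgroupOf] at ht ⊢
    exact ⟨hS₁n g g.2 _ ht.1, by
      have h1 := conj_sign S hG MK (hS₁n g g.2) ht.1
      change sign (MK.φ ((g : G) * t * (g : G)⁻¹)) = 1
      rw [h1]
      exact ht.2⟩
  have hidx : ((Dv K T MK S.TN).subgroupOf (R : Subgroup G)).index = 4 := by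
    have h1 := ((Dv K T MK S.TN).subgroupOf (R : Subgroup G)).card_mul_index
    rw [Nat.card_congr (subgroupOfEquivOfLe hDR).toEquiv, card_Dv S hG MK, hRcard] at h1
    omega
  obtain ⟨A, hA, φ, hφ⟩ := exists_hom_four _ hidx
  have hne : (-1 : ℤˣ) ≠ 1 := by decide
  have h1 : φ ⟨e, hTR heT⟩ = 1 := by
    refine eq_one_of_weak hG R φ (hTR heT) hee hTR heT hec fun g hg h => ?_
    have h2 := hweak g hg
    have h3 : ∀ t ∈ T, g⁻¹ * t * g⁻¹⁻¹ ∈ T := fun t ht => by rw [inv_inv]; exact h2 t ht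
    have h4 := conj_sign S hG MK h3 heT
    rw [inv_inv, heo] at h4
    rw [← div_eq_one, ← map_div, hφ, mem_subgroupOf]
    have h5 : (g⁻¹ * e * g) * e⁻¹ ∈ T := T.mul_mem (h2 e heT) (T.inv_mem heT)
    refine ⟨by rw [coe_div, div_eq_mul_inv]; exact h5, ?_⟩
    rw [coe_div, div_eq_mul_inv]
    change sign (MK.φ ((g⁻¹ * e * g) * e⁻¹)) = 1
    rw [MK.mul _ _ (S.TN (h2 e heT)) (S.TN (T.inv_mem heT)), MK.inv (S.TN heT), Perm.sign_mul, Perm.sign_inv, h4, heo]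
    decide
  rw [hφ, mem_subgroupOf] at h1
  exact hne (by rw [← heo]; exact h1.2)

/-- **World1K** -/
theorem worldK (W : Wd U) (hG : commutator G = ⊤) (ua : U a K) (ul : U l L)
    (Ta : IsSyl (centralizer ({a} : Set G)) T) (Tl : IsSyl (centralizer ({l} : Set G)) T) (lK : l ∈ K) (aL : a ∈ L)
    (hP : ∀ p ∈ T ⊓ K, Fixes p L) (hR : ∀ r ∈ T ⊓ L, Fixes r K) (hT : 64 < Nat.card T) : False :=
  sit_false ⟨W, ua, ul, Ta, Tl, lK, aL, hP, hR⟩ hG hT

end Cfsg.Agent.UGT.A7.B.OneK
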