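import Cfsg.Agent.UGT.A7.B.OneBase

/-!
# [A7], beta-branch, World 1, (K): the situation

`Sit U a l K L T`: `T` is a Sylow 2-subgroup of `C(a)` and of `C(l)`, `l ∈ K = K_a`, `a ∈ L = K_l`, `T ∩ K` is trivial
on `L` and `T ∩ L` is trivial on `K`.
-/

set_option autoImplicit false
set_option linter.unusedSectionVars false

open Cfsg Subgroup Equiv Equiv.Perm
open Cfsg.Agent.UAlt
open Cfsg.Agent.SignalizersComponents Cfsg.Agent.Lib
open Cfsg.Agent.SignalizersComponents.IntrinsicBasic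
open Cfsg.Agent.Intrinsic.Basic Cfsg.Agent.Intrinsic.Cen Cfsg.Agent.Intrinsic.Diag
open Cfsg.Agent.McLLyComp.Act
open Cfsg.Agent.UGT.Triple Cfsg.Agent.UGT.TriBase Cfsg.Agent.UGT.LemG Cfsg.Agent.UAlt.Nine
open Cfsg.Agent.UGT.A7.B.One

namespace Cfsg.Agent.UGT.A7.B.OneKBase

/-! ### the group `W0 = D₈ × 2` -/

theorem g0_mem_W0 (a : DihedralGroup 4) : g0 a ∈ W0 := (mem_P0.1 (g0_mem a)).1

theorem exists_rep {σ : Perm (Fin 7)} (h : σ ∈ W0) : ∃ (a : DihedralGroup 4) (u : Perm (Fin 7)),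
    (u = 1 ∨ u = w0) ∧ σ = u * g0 a := by
  rcases W0_cases h with h1 | h1
  · obtain ⟨a, ha⟩ := exists_g0 h1
    exact ⟨a, 1, Or.inl rfl, by rw [one_mul]; exact ha⟩
  · obtain ⟨a, ha⟩ := exists_g0 h1
    refine ⟨a, w0, Or.inr rfl, ?_⟩
    have hw : w0 * w0 = 1 := by decide
    rw [← ha, ← mul_assoc, hw, one_mul]

theorem rep_comm {u v : Perm (Fin 7)} (hu : u = 1 ∨ u = w0) (hv : v = 1 ∨ v = w0) (a b : DihedralGroup 4) :
    (u * g0 a) * (v * g0 b) = (v * g0 b) * (u * g0 a) ↔ a * b = b * a := by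
  have hc : ∀ {u : Perm (Fin 7)}, (u = 1 ∨ u = w0) → ∀ σ ∈ W0, σ * u = u * σ := by
    rintro u (rfl | rfl) σ hσ
    · rw [one_mul, mul_one]
    · exact w0_central hσ
  have hvW : v ∈ W0 := by
    rcases hv with rfl | rfl
    · exact one_mem _
    · exact w0_mem
  have e1 : (u * g0 a) * (v * g0 b) = (u * v) * g0 (a * b) := by
    calc (u * g0 a) * (v * g0 b) = u * (g0 a * v) * g0 b := by group
      _ = u * (v * g0 a) * g0 b := by rw [hc hv _ (g0_mem_W0 a)]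
      _ = (u * v) * (g0 a * g0 b) := by group
      _ = _ := by rw [g0_mul]
  have e2 : (v * g0 b) * (u * g0 a) = (u * v) * g0 (b * a) := by
    calc (v * g0 b) * (u * g0 a) = v * (g0 b * u) * g0 a := by group
      _ = v * (u * g0 b) * g0 a := by rw [hc hu _ (g0_mem_W0 b)]
      _ = (v * u) * (g0 b * g0 a) := by group
      _ = (u * v) * (g0 b * g0 a) := by rw [hc hu _ hvW]
      _ = _ := by rw [g0_mul]
  rw [e1, e2]
  exact ⟨fun h => g0_inj (mul_left_cancel h), fun h => by rw [h]⟩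

theorem d8_comm : ∀ a b c d : DihedralGroup 4, a * b ≠ b * a → c * a = a * c → d * a = a * d → c * d = d * c := by
  intro a b c d h1 h2 h3
  exact eight_dihedral.ab a b h1 c d h2 h3

/-- centralizers of noncentral elements of `W0` are abelian -/
theorem W0_comm {σ τ α β : Perm (Fin 7)} (hσ : σ ∈ W0) (hτ : τ ∈ W0) (hα : α ∈ W0) (hβ : β ∈ W0)
    (h : σ * τ ≠ τ * σ) (h1 : α * σ = σ * α) (h2 : β * σ = σ * β) : α * β = β * α := by
  obtain ⟨a, u, hu, rfl⟩ := exists_rep hσ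
  obtain ⟨b, v, hv, rfl⟩ := exists_rep hτ
  obtain ⟨c, x, hx, rfl⟩ := exists_rep hα
  obtain ⟨d, y, hy, rfl⟩ := exists_rep hβ
  rw [rep_comm hx hy]
  rw [rep_comm hx hu] at h1
  rw [rep_comm hy hu] at h2
  exact d8_comm a b c d (fun h3 => h ((rep_comm hu hv a b).2 h3)) h1 h2

/-! ### labels -/

variable {G : Type*} [Group G] [Finite G]

/-- the labels of a 2-group in `W0` -/
theorem exists_inW {N T : Subgroup G} (M : Lab N) (hT : IsPGroup 2 ↥T) (hTn : T ≤ normalizer (N : Set G)) :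
    ∃ (M' : Lab N) (g : Perm (Fin 7)), (∀ x, M'.φ x = g * M.φ x * g⁻¹) ∧ ∀ t ∈ T, M'.φ t ∈ W0 := by
  have h2 : IsPGroup 2 ↥((T.subgroupOf (normalizer (N : Set G))).map M.hom) := by
    refine IsPGroup.map ?_ _
    exact hT.of_injective (subgroupOfEquivOfLe hTn).toMonoidHom (subgroupOfEquivOfLe hTn).injective
  obtain ⟨g, hg⟩ := exists_conj_W0 _ h2
  obtain ⟨M', hM'⟩ := exists_relabel M g
  refine ⟨M', g, hM', fun t ht => ?_⟩
  rw [hM']
  exact hg _ ⟨⟨t, hTn ht⟩, ht, rfl⟩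

/-- the sign does not depend on the label -/
theorem sign_eq {N : Subgroup G} (M M' : Lab N) {x : G} (hx : x ∈ normalizer (N : Set G)) :
    sign (M'.φ x) = sign (M.φ x) := by
  have h7 : (Finset.univ : Finset (Fin 7)).card = 7 := by rw [Finset.card_univ, Fintype.card_fin]
  obtain ⟨τ, -, h⟩ := M.exists_bij_five M' (by omega) (by omega)
  rw [h x hx, Perm.sign_mul, Perm.sign_mul, Perm.sign_inv, mul_comm (sign τ), mul_assoc, Int.units_mul_self, mul_one]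

/-- conjugate labels -/
theorem sign_cj {N : Subgroup G} (g : G) (M : Lab N) (M' : Lab (cj g N)) {x : G} (hx : x ∈ normalizer (N : Set G)) :
    sign (M'.φ (g * x * g⁻¹)) = sign (M.φ x) := by
  have h1 : g * x * g⁻¹ ∈ normalizer (cj g N : Set G) := by
    rw [mem_normalizer_iff_cj] at hx ⊢
    rw [← cj_mul, inv_mul_cancel_right, cj_mul, hx]
  rw [sign_eq (M.cj g) M' h1]
  congr 1
  change M.φ (g⁻¹ * (g * x * g⁻¹) * g) = M.φ x
  congr 1
  group

/-! ### the situation -/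

structure Sit (U : G → Subgroup G → Prop) (a l : G) (K L T : Subgroup G) : Prop where
  W : Wd U
  ua : U a K
  ul : U l L
  Ta : IsSyl (centralizer ({a} : Set G)) T
  Tl : IsSyl (centralizer ({l} : Set G)) T
  lK : l ∈ K
  aL : a ∈ L
  hP : ∀ p ∈ T ⊓ K, Fixes p L
  hR : ∀ r ∈ T ⊓ L, Fixes r K

namespace Sit

variable {U : G → Subgroup G → Prop} {a l : G} {K L T : Subgroup G} (S : Sit U a l K L T)

omit [Finite G] in
theorem symm (S : Sit U a l K L T) : Sit U l a L K T :=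
  ⟨S.W, S.ul, S.ua, S.Tl, S.Ta, S.aL, S.lK, S.hR, S.hP⟩

include S

theorem aa : a * a = 1 := S.W.sq S.ua

theorem a1 : a ≠ 1 := S.W.ne S.ua

theorem aT : a ∈ T := by
  refine mem_of_comm S.Ta (mem_c rfl) (fun t ht => ?_) S.aa
  exact (comm_c (S.Ta.le ht)).symm

theorem lT : l ∈ T := S.symm.aT

theorem two : IsPGroup 2 ↥T := S.Ta.two

theorem a_comm {t : G} (ht : t ∈ T) : t * a = a * t := comm_c (S.Ta.le ht)

theorem l_comm {t : G} (ht : t ∈ T) : t * l = l * t := comm_c (S.Tl.le ht)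

theorem TN : T ≤ normalizer (K : Set G) := S.Ta.le.trans (S.W.nor S.ua)

theorem exists_frame : ∃ M : Lab K, Fr7 a K T M := by
  obtain ⟨M⟩ := S.W.lab S.ua
  obtain ⟨M', -, -, h⟩ := exists_fr7 M (S.W.comp S.ua) (S.W.nor S.ua) S.Ta S.aa S.a1
  exact ⟨M', h⟩

/-- `[P, R] = 1` -/
theorem comm_PR {p r : G} (hp : p ∈ T ⊓ K) (hr : r ∈ T ⊓ L) : p * r = r * p := by
  obtain ⟨M, F⟩ := S.exists_frame
  exact F.comm_PQ hp (F.fix_le_Qs ⟨hr.1, S.hR r hr⟩)

/-- `P ∩ R = 1` -/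
theorem inf_PR {p : G} (hp : p ∈ T ⊓ K) (hr : p ∈ T ⊓ L) : p = 1 := by
  obtain ⟨M, F⟩ := S.exists_frame
  refine F.P_inj hp (one_mem _) ?_
  rw [M.one]
  exact (F.fix_iff hr.1).1 ⟨hr.1, S.hR p hr⟩

/-- elements of `P` which are trivial on `K` -/
theorem eq_one_P {p : G} (hp : p ∈ T ⊓ K) (hf : Fixes p K) : p = 1 := by
  obtain ⟨M, F⟩ := S.exists_frame
  refine F.P_inj hp (one_mem _) ?_
  rw [M.one]
  exact (F.fix_iff hp.1).1 ⟨hp.1, hf⟩

/-- `Z(P) = ⟨l⟩` -/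
theorem eightP : EightS (T ⊓ K) l := by
  obtain ⟨M, F⟩ := S.exists_frame
  obtain ⟨z, hz⟩ := F.exists_z
  have h1 : l = z := by
    rcases hz.cen' l ⟨S.lT, S.lK⟩ (fun q hq => (S.l_comm hq.1).symm) with h | h
    · exact absurd h S.symm.a1
    · exact h
  rwa [← h1] at hz

/-- elements of `P` central in `T` -/
theorem central_P {p : G} (hp : p ∈ T ⊓ K) (hc : ∀ t ∈ T, t * p = p * t) : p = 1 ∨ p = l :=
  S.eightP.cen' p hp fun q hq => (hc q hq.1).symm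

/-- `T` normalizes `P` -/
theorem T_norm_P : T ≤ normalizer ((T ⊓ K : Subgroup G) : Set G) := by
  intro t ht
  rw [mem_normalizer_iff_cj, cj_inf, mem_normalizer_iff_cj.mp (S.TN ht), cj_eq_self_of_mem ht]

/-- `T` normalizes the elements of `T` trivial on a `T`-invariant subgroup -/
theorem norm_fix {N : Subgroup G} (hN : T ≤ normalizer (N : Set G)) : T ≤ normalizer (fix T N : Set G) := by
  intro t ht
  rw [mem_normalizer_iff_cj, cj_fix, mem_normalizer_iff_cj.mp (hN ht), cj_eq_self_of_mem ht]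

/-- `2`-elements of `K` commuting with an involution `s` trivial on `K` lie in `K_s` -/
theorem P_le {s : G} {N : Subgroup G} (hN : U s N) (hsT : ∀ t ∈ T, t * s = s * t) (hf : Fixes s K) :
    T ⊓ K ≤ N := by
  intro p hp
  obtain ⟨n, hn⟩ := S.two ⟨p, hp.1⟩
  exact S.W.cen_le' S.ua hN (hsT a S.aT).symm hf (mem_cen hp.2 (hsT p hp.1) (n := n) (congrArg Subtype.val hn))

/-- **`N = 1`** -/
theorem eq_one {t : G} (ht : t ∈ T) (h1 : Fixes t K) (h2 : Fixes t L) : t = 1 := by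
  by_contra hne
  have h3 : fix T K ⊓ fix T L ≠ ⊥ := by
    intro h
    have h4 : t ∈ fix T K ⊓ fix T L := ⟨⟨ht, h1⟩, ⟨ht, h2⟩⟩
    rw [h, mem_bot] at h4
    exact hne h4
  have h5 : T ≤ normalizer ((fix T K ⊓ fix T L : Subgroup G) : Set G) := by
    intro t ht
    rw [mem_normalizer_iff_cj, cj_inf, mem_normalizer_iff_cj.mp (S.norm_fix S.TN ht),
      mem_normalizer_iff_cj.mp (S.norm_fix S.symm.TN ht)]
  obtain ⟨s, ⟨hsK, hsL⟩, hso, hsc⟩ := exists_central S.two (inf_le_left.trans (fix_le T K)) h5 h3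
  obtain ⟨N, hN, -⟩ := S.W.up_fix S.ua hso (hsc a S.aT).symm hsK.2
  have h6 : T ⊓ K ≤ N := S.P_le hN hsc hsK.2
  have h7 : T ⊓ L ≤ N := S.symm.P_le hN hsc hsL.2
  have hTN : T ≤ normalizer (N : Set G) := fun t ht => S.W.nor hN (mem_c (hsc t ht))
  obtain ⟨M₀⟩ := S.W.lab hN
  obtain ⟨M, -, -, hM⟩ := exists_inW M₀ S.two hTN
  -- `T ∩ N` embeds into `P0`
  let f : ↥(T ⊓ N : Subgroup G) → ↥P0 := fun p => ⟨M.φ p, mem_P0.2 ⟨hM p p.2.1, by
    have := M.mem_alt p p.2.2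
    rw [alt_univ, mem_alternatingGroup] at this
    exact this⟩⟩
  have hf : Function.Injective f := by
    intro p q h
    have h1 : M.φ p = M.φ q := congrArg Subtype.val h
    rw [M.eq_iff p.2.2 q.2.2] at h1
    have h2 := eq_one_of_core S.two (T.mul_mem (T.inv_mem p.2.1) q.2.1) h1
    exact Subtype.ext (inv_mul_eq_one.1 h2)
  have h8 : Nat.card ↥(T ⊓ N : Subgroup G) ≤ 8 := by
    rw [← card_P0]
    exact Nat.card_le_card_of_injective f hf
  have h9 : T ⊓ K = T ⊓ N := eq_of_le_of_card_ge (le_inf inf_le_left h6) (by rw [S.eightP.card]; exact h8)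
  have h10 : T ⊓ L = T ⊓ N := eq_of_le_of_card_ge (le_inf inf_le_left h7) (by rw [S.symm.eightP.card]; exact h8)
  have h11 : l ∈ T ⊓ L := by
    rw [h10, ← h9]
    exact ⟨S.lT, S.lK⟩
  exact S.symm.a1 (S.inf_PR ⟨S.lT, S.lK⟩ h11)

/-- **even elements** of `T`: `{even on K and L} = P × R` -/
theorem exists_PR (MK : Lab K) (ML : Lab L) {t : G} (ht : t ∈ T) (h1 : sign (MK.φ t) = 1) (h2 : sign (ML.φ t) = 1) :
    ∃ p ∈ T ⊓ K, ∃ r ∈ T ⊓ L, t = p * r := by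
  obtain ⟨M, F⟩ := S.exists_frame
  obtain ⟨M', F'⟩ := S.symm.exists_frame
  obtain ⟨p, hp, hp'⟩ := F.exists_P (σ := M.φ t) (mem_P0.2 ⟨F.inW t ht, by
    rw [← h1]; exact sign_eq MK M (S.TN ht)⟩)
  obtain ⟨r, hr, hr'⟩ := F'.exists_P (σ := M'.φ t) (mem_P0.2 ⟨F'.inW t ht, by
    rw [← h2]; exact sign_eq ML M' (S.symm.TN ht)⟩)
  refine ⟨p, hp, r, hr, ?_⟩
  have hprT : p * r ∈ T := T.mul_mem hp.1 hr.1
  have e1 : M.φ r = 1 := (F.fix_iff hr.1).1 ⟨hr.1, S.hR r hr⟩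
  have e2 : M'.φ p = 1 := (F'.fix_iff hp.1).1 ⟨hp.1, S.hP p hp⟩
  have h3 : (p * r)⁻¹ * t = 1 := by
    refine S.eq_one (T.mul_mem (T.inv_mem hprT) ht) ?_ ?_
    · refine (M.fixes_iff (S.TN (T.mul_mem (T.inv_mem hprT) ht))).1 ?_
      rw [M.mul _ _ (S.TN (T.inv_mem hprT)) (S.TN ht), M.inv (S.TN hprT), M.mul _ _ (S.TN hp.1) (S.TN hr.1), e1,
        mul_one, hp', inv_mul_cancel]
    · refine (M'.fixes_iff (S.symm.TN (T.mul_mem (T.inv_mem hprT) ht))).1 ?_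
      rw [M'.mul _ _ (S.symm.TN (T.inv_mem hprT)) (S.symm.TN ht), M'.inv (S.symm.TN hprT),
        M'.mul _ _ (S.symm.TN hp.1) (S.symm.TN hr.1), e2, one_mul, hr', inv_mul_cancel]
  exact (inv_mul_eq_one.1 h3).symm

/-- an element `e ∈ t P R` with labels in `{1, w0}` on both `K` and `L`; it is a central element of `T` of order at most
two -/
theorem exists_e (MK : Lab K) (ML : Lab L) {t : G} (ht : t ∈ T) :
    ∃ e ∈ T, (∀ s ∈ T, s * e = e * s) ∧ e * e = 1 ∧ sign (MK.φ e) = sign (MK.φ t) ∧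
      sign (ML.φ e) = sign (ML.φ t) := by
  obtain ⟨M, F⟩ := S.exists_frame
  obtain ⟨M', F'⟩ := S.symm.exists_frame
  -- the even part of the labels
  have hev : ∀ σ ∈ W0, ∃ u : Perm (Fin 7), (u = 1 ∨ u = w0) ∧ ∃ π ∈ P0, σ = u * π := by
    intro σ hσ
    rcases W0_cases hσ with h | h
    · exact ⟨1, Or.inl rfl, σ, h, (one_mul σ).symm⟩
    · refine ⟨w0, Or.inr rfl, _, h, ?_⟩
      have hw : w0 * w0 = 1 := by decide
      rw [← mul_assoc, hw, one_mul]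
  obtain ⟨u, hu, π, hπ, h1⟩ := hev _ (F.inW t ht)
  obtain ⟨v, hv, ρ, hρ, h2⟩ := hev _ (F'.inW t ht)
  obtain ⟨p, hp, hp'⟩ := F.exists_P hπ
  obtain ⟨r, hr, hr'⟩ := F'.exists_P hρ
  have e1 : M.φ r = 1 := (F.fix_iff hr.1).1 ⟨hr.1, S.hR r hr⟩
  have e2 : M'.φ p = 1 := (F'.fix_iff hp.1).1 ⟨hp.1, S.hP p hp⟩
  have hprT : p * r ∈ T := T.mul_mem hp.1 hr.1
  have heT : t * (p * r)⁻¹ ∈ T := T.mul_mem ht (T.inv_mem hprT)
  have e3 : M.φ (t * (p * r)⁻¹) = u := by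
    rw [M.mul _ _ (S.TN ht) (S.TN (T.inv_mem hprT)), M.inv (S.TN hprT), M.mul _ _ (S.TN hp.1) (S.TN hr.1), e1,
      mul_one, hp', h1, mul_inv_cancel_right]
  have e4 : M'.φ (t * (p * r)⁻¹) = v := by
    rw [M'.mul _ _ (S.symm.TN ht) (S.symm.TN (T.inv_mem hprT)), M'.inv (S.symm.TN hprT),
      M'.mul _ _ (S.symm.TN hp.1) (S.symm.TN hr.1), e2, one_mul, hr', h2, mul_inv_cancel_right]
  obtain ⟨e, rfl⟩ : ∃ e, e = t * (p * r)⁻¹ := ⟨_, rfl⟩
  have hww : w0 * w0 = 1 := by decide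
  have hcen : ∀ {u : Perm (Fin 7)}, (u = 1 ∨ u = w0) → ∀ σ ∈ W0, σ * u = u * σ := by
    rintro u (rfl | rfl) σ hσ
    · rw [one_mul, mul_one]
    · exact w0_central hσ
  have hsq : ∀ {u : Perm (Fin 7)}, (u = 1 ∨ u = w0) → u * u = 1 := by
    rintro u (rfl | rfl)
    · exact one_mul 1
    · exact hww
  have hsg : ∀ {u π : Perm (Fin 7)}, π ∈ P0 → sign (u * π) = sign u := by
    intro u π hπ
    rw [Perm.sign_mul, (mem_P0.1 hπ).2, mul_one]
  refine ⟨_, heT, fun s hs => ?_, ?_, ?_, ?_⟩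
  · have h3 : (s * (t * (p * r)⁻¹)) * ((t * (p * r)⁻¹) * s)⁻¹ = 1 := by
      refine S.eq_one (T.mul_mem (T.mul_mem hs heT) (T.inv_mem (T.mul_mem heT hs))) ?_ ?_
      · refine (M.fixes_iff (S.TN (T.mul_mem (T.mul_mem hs heT) (T.inv_mem (T.mul_mem heT hs))))).1 ?_
        rw [M.mul _ _ (S.TN (T.mul_mem hs heT)) (S.TN (T.inv_mem (T.mul_mem heT hs))),
          M.inv (S.TN (T.mul_mem heT hs)), M.mul _ _ (S.TN hs) (S.TN heT), M.mul _ _ (S.TN heT) (S.TN hs), e3,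
          hcen hu _ (F.inW s hs), mul_inv_cancel]
      · refine (M'.fixes_iff (S.symm.TN (T.mul_mem (T.mul_mem hs heT) (T.inv_mem (T.mul_mem heT hs))))).1 ?_
        rw [M'.mul _ _ (S.symm.TN (T.mul_mem hs heT)) (S.symm.TN (T.inv_mem (T.mul_mem heT hs))),
          M'.inv (S.symm.TN (T.mul_mem heT hs)), M'.mul _ _ (S.symm.TN hs) (S.symm.TN heT),
          M'.mul _ _ (S.symm.TN heT) (S.symm.TN hs), e4, hcen hv _ (F'.inW s hs), mul_inv_cancel]
    exact mul_inv_eq_one.1 h3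
  · refine S.eq_one (T.mul_mem heT heT) ?_ ?_
    · refine (M.fixes_iff (S.TN (T.mul_mem heT heT))).1 ?_
      rw [M.mul _ _ (S.TN heT) (S.TN heT), e3, hsq hu]
    · refine (M'.fixes_iff (S.symm.TN (T.mul_mem heT heT))).1 ?_
      rw [M'.mul _ _ (S.symm.TN heT) (S.symm.TN heT), e4, hsq hv]
  · rw [sign_eq M MK (S.TN heT), sign_eq M MK (S.TN ht), e3, h1, hsg hπ]
  · rw [sign_eq M' ML (S.symm.TN heT), sign_eq M' ML (S.symm.TN ht), e4, h2, hsg hρ]

end Sit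

end Cfsg.Agent.UGT.A7.B.OneKBase
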