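import Cfsg.Agent.UGT.A7.B.OneKBase
import Cfsg.Agent.UGT.ParityPair

/-!
# [A7], beta-branch, World 1, (K1), (K2): parities
-/

set_option autoImplicit false
set_option linter.unusedSectionVars false

open Cfsg Subgroup Equiv Equiv.Perm MulAction
open Cfsg.Agent.UAlt
open Cfsg.Agent.SignalizersComponents Cfsg.Agent.Lib
open Cfsg.Agent.SignalizersComponents.IntrinsicBasic
open Cfsg.Agent.Intrinsic.Basic Cfsg.Agent.Intrinsic.Cen Cfsg.Agent.Intrinsic.Diag
open Cfsg.Agent.McLLyComp.Act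
open Cfsg.Agent.UGT.Triple Cfsg.Agent.UGT.TriBase Cfsg.Agent.UGT.LemG Cfsg.Agent.UAlt.Nine
open Cfsg.Agent.UGT.A7.B.One Cfsg.Agent.UGT.A7.B.OneKBase
open Cfsg.Agent.UGT.Parity Cfsg.Agent.UGT.ParityPair

namespace Cfsg.Agent.UGT.A7.B.OneKPar

variable {G : Type*} [Group G] [Finite G] {U : G → Subgroup G → Prop}

/-! ### the parity of the family -/

/-- `g` is even on `K_s` -/
def Ev (U : G → Subgroup G → Prop) (P : Pair G) (g : G) : Prop :=
  ∀ M : Lab P.L, U P.a P.L → sign (M.φ g) = 1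

theorem ev_iff {s : G} {K : Subgroup G} (h : U s K) (M : Lab K) {g : G} (hg : g ∈ normalizer (K : Set G)) :
    Ev U ⟨s, K⟩ g ↔ sign (M.φ g) = 1 := by
  constructor
  · intro h1
    exact h1 M h
  · intro h1 M' _
    rw [sign_eq M M' hg]
    exact h1

theorem isParity (W : Wd U) : IsParity (Ω := Pair G) (Ev U) := by
  constructor
  · rintro ⟨s, K⟩ g h hg hh
    rw [smul_eq_iff] at hg hh
    by_cases hU : U s K
    · obtain ⟨M⟩ := W.lab hU
      rw [ev_iff hU M hg.2, ev_iff hU M hh.2, ev_iff hU M (mul_mem hg.2 hh.2), M.mul _ _ hg.2 hh.2, Perm.sign_mul]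
      rcases Int.units_eq_one_or (sign (M.φ g)) with h1 | h1 <;> rcases Int.units_eq_one_or (sign (M.φ h)) with h2 | h2 <;>
        rw [h1, h2] <;> decide
    · constructor
      · intro _
        exact ⟨fun _ M hM => (hU hM).elim, fun _ M hM => (hU hM).elim⟩
      · intro _ M hM
        exact (hU hM).elim
  · rintro ⟨s, K⟩ g h hh
    rw [smul_eq_iff] at hh
    constructor
    · intro h1 M hM
      have h2 := h1 (M.cj g) (W.conj g hM)
      rw [sign_cj g M (M.cj g) hh.2] at h2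
      exact h2
    · intro h1 M' hM'
      have hU : U s K := by
        have h3 := W.conj g⁻¹ hM'
        have e1 : g⁻¹ * (g * s * g⁻¹) * g⁻¹⁻¹ = s := by group
        have e2 : cj g⁻¹ (cj g K) = K := by rw [← cj_mul, inv_mul_cancel, cj_one]
        change U (g⁻¹ * (g * s * g⁻¹) * g⁻¹⁻¹) (cj g⁻¹ (cj g K)) at h3
        rwa [e1, e2] at h3
      obtain ⟨M⟩ := W.lab hU
      have h4 := h1 M hU
      rw [← h4]
      exact sign_cj g M M' hh.2

instance : Finite (Pair G) := by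
  refine Finite.of_injective (fun P : Pair G => (P.a, P.L)) ?_
  rintro ⟨a, L⟩ ⟨b, M⟩ h
  cases h
  rfl

/-! ### (Z) -/

variable {a l : G} {K L T : Subgroup G}

/-- the elements of `P = T ∩ K` trivial on `K_s`, `s ∈ J ∩ Z(T)`, `s` non-trivial on `L` -/
theorem P_inf (S : Sit U a l K L T) {s : G} {N : Subgroup G} (hN : U s N) (hsT : ∀ t ∈ T, t * s = s * t)
    (hsL : ¬ Fixes s L) {p : G} (hp : p ∈ T ⊓ K) (hf : Fixes p N) : p = 1 := by
  by_contra hne
  have hTN : T ≤ normalizer (N : Set G) := fun t ht => S.W.nor hN (mem_c (hsT t ht))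
  have h3 : (T ⊓ K) ⊓ fix T N ≠ ⊥ := by
    intro h
    have h4 : p ∈ (T ⊓ K) ⊓ fix T N := ⟨hp, ⟨hp.1, hf⟩⟩
    rw [h, mem_bot] at h4
    exact hne h4
  have h5 : T ≤ normalizer (((T ⊓ K) ⊓ fix T N : Subgroup G) : Set G) := by
    intro t ht
    rw [mem_normalizer_iff_cj, cj_inf, mem_normalizer_iff_cj.mp (S.T_norm_P ht),
      mem_normalizer_iff_cj.mp (S.norm_fix hTN ht)]
  obtain ⟨u, ⟨huP, huN⟩, huo, huc⟩ := exists_central S.two (inf_le_right.trans (fix_le T N)) h5 h3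
  have h6 : u = l := (S.central_P huP huc).resolve_left (ne_one_of_order huo)
  rw [h6] at huN
  exact hsL (S.W.symm hN S.ul (hsT l S.lT) huN.2)

/-- **(Z)** -/
theorem central_fixes (S : Sit U a l K L T) {s : G} {N : Subgroup G} (hN : U s N) (hsT : ∀ t ∈ T, t * s = s * t) :
    Fixes s K ∨ Fixes s L := by
  by_contra hcon
  push Not at hcon
  obtain ⟨hsK, hsL⟩ := hcon
  have hTN : T ≤ normalizer (N : Set G) := fun t ht => S.W.nor hN (mem_c (hsT t ht))
  obtain ⟨M₀⟩ := S.W.lab hN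
  obtain ⟨M, -, -, hM⟩ := exists_inW M₀ S.two hTN
  have key : ∀ {x y : G}, x ∈ T → y ∈ T → M.φ x * M.φ y = M.φ y * M.φ x → Fixes (x * y * x⁻¹ * y⁻¹) N := by
    intro x y hx hy h
    have h1 : x * y * x⁻¹ * y⁻¹ ∈ T := T.mul_mem (T.mul_mem (T.mul_mem hx hy) (T.inv_mem hx)) (T.inv_mem hy)
    refine (M.fixes_iff (hTN h1)).1 ?_
    rw [M.mul _ _ (hTN (T.mul_mem (T.mul_mem hx hy) (T.inv_mem hx))) (hTN (T.inv_mem hy)),
      M.conj (hTN hx) (hTN hy), M.inv (hTN hy), h, mul_inv_cancel_right, mul_inv_cancel]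
  obtain ⟨u₁, hu₁, u₂, hu₂, hu⟩ := S.eightP.nab
  obtain ⟨v₁, hv₁, v₂, hv₂, hv⟩ := S.symm.eightP.nab
  apply hv
  have h1 : M.φ u₁ * M.φ u₂ ≠ M.φ u₂ * M.φ u₁ := by
    intro h
    apply hu
    have h2 := P_inf S hN hsT hsL
      (mul_mem (mul_mem (mul_mem hu₁ hu₂) (inv_mem hu₁)) (inv_mem hu₂)) (key hu₁.1 hu₂.1 h)
    rw [mul_inv_eq_one, mul_inv_eq_iff_eq_mul] at h2
    exact h2
  have h2 : M.φ v₁ * M.φ v₂ = M.φ v₂ * M.φ v₁ :=
    W0_comm (hM _ hu₁.1) (hM _ hu₂.1) (hM _ hv₁.1) (hM _ hv₂.1) h1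
      (M.comm (hTN hv₁.1) (hTN hu₁.1) (S.comm_PR hu₁ hv₁).symm)
      (M.comm (hTN hv₂.1) (hTN hu₁.1) (S.comm_PR hu₁ hv₂).symm)
  have h3 := P_inf S.symm hN hsT hsK
    (mul_mem (mul_mem (mul_mem hv₁ hv₂) (inv_mem hv₁)) (inv_mem hv₂)) (key hv₁.1 hv₂.1 h2)
  rw [mul_inv_eq_one, mul_inv_eq_iff_eq_mul] at h3
  exact h3

/-! ### (K1), (K2) -/

/-- the involutions of `Z(T)` trivial on `K` -/
def Zf (K T : Subgroup G) : Subgroup G where
  carrier := {s | s ∈ T ∧ (∀ t ∈ T, t * s = s * t) ∧ s * s = 1 ∧ Fixes s K}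
  one_mem' := ⟨T.one_mem, fun t _ => by rw [mul_one, one_mul], one_mul 1, (mem_fix.1 (one_mem (fix T K))).2⟩
  mul_mem' := by
    rintro s t ⟨hs, hs1, hs2, hs3⟩ ⟨ht, ht1, ht2, ht3⟩
    refine ⟨T.mul_mem hs ht, fun r hr => ?_, ?_, (mem_fix.1 (mul_mem (⟨hs, hs3⟩ : s ∈ fix T K) ⟨ht, ht3⟩)).2⟩
    · rw [← mul_assoc, hs1 r hr, mul_assoc, ht1 r hr, mul_assoc]
    · calc s * t * (s * t) = s * (t * s) * t := by group
        _ = s * (s * t) * t := by rw [← ht1 s hs]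
        _ = (s * s) * (t * t) := by group
        _ = 1 := by rw [hs2, ht2, one_mul]
  inv_mem' := by
    rintro s ⟨hs, hs1, hs2, hs3⟩
    have h : s⁻¹ = s := inv_eq_of_mul_eq_one_left hs2
    rw [h]
    exact ⟨hs, hs1, hs2, hs3⟩

theorem mem_Zf {s : G} : s ∈ Zf K T ↔
    s ∈ T ∧ (∀ t ∈ T, t * s = s * t) ∧ s * s = 1 ∧ Fixes s K := Iff.rfl

/-- **(K1), (K2)**: an involution of `Z(T)` which is odd on `K` is odd on `L` -/
theorem odd_of_odd (S : Sit U a l K L T) (hG : commutator G = ⊤) (MK : Lab K) (ML : Lab L) {e : G}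
    (hec : ∀ t ∈ T, t * e = e * t) (hee : e * e = 1) (h1 : sign (MK.φ e) = -1) : sign (ML.φ e) = -1 := by
  rcases Int.units_eq_one_or (sign (ML.φ e)) with h2 | h2
  swap
  · exact h2
  exfalso
  have hpar := even_card_fixed (Ω := Pair G) (noSign_of_perfect hG) (isParity S.W) hee S.two
    (fun t ht => mem_c (hec t ht))
  -- the pairs are those with `s ∈ Zf`, `s ≠ 1`
  have hne : (-1 : ℤˣ) ≠ 1 := by decide
  let X := {P : Pair G // (e • P = P ∧ ¬ Ev U P e) ∧ ∀ t ∈ T, t • P = P}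
  have hU : ∀ P : X, U P.1.a P.1.L := by
    rintro ⟨⟨s, N⟩, ⟨-, h3⟩, -⟩
    unfold Ev at h3
    push Not at h3
    obtain ⟨-, h4, -⟩ := h3
    exact h4
  have hmem : ∀ P : X, P.1.a ∈ (Zf K T : Set G) \ {1} := by
    intro P
    have h3 := hU P
    obtain ⟨⟨s, N⟩, ⟨h4, h5⟩, h6⟩ := P
    have hsT : ∀ t ∈ T, t * s = s * t := fun t ht => (smul_eq_iff.1 (h6 t ht)).1
    have hss := S.W.sq h3
    have hs1 := S.W.ne h3
    have hsmem : s ∈ T := mem_of_comm S.Ta (mem_c (hsT a S.aT).symm) (fun t ht => (hsT t ht).symm) hss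
    refine ⟨⟨hsmem, hsT, hss, ?_⟩, hs1⟩
    rcases central_fixes S h3 hsT with h7 | h7
    · exact h7
    · exfalso
      apply h5
      obtain ⟨N', hN', -, -, M', -, h8⟩ := S.W.up_lab S.ul ML (S.W.two h3) (hsT l S.lT).symm h7
      have h9 : N = N' := S.W.uniq h3 hN'
      subst h9
      rw [ev_iff h3 M' (S.W.nor h3 (mem_c (hec s hsmem).symm)), h8 e (hec l S.lT).symm (hec s hsmem).symm]
      exact h2
  let f : X → ↥((Zf K T : Set G) \ {1}) := fun P => ⟨P.1.a, hmem P⟩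
  have hf : Function.Bijective f := by
    constructor
    · intro P Q h
      have h3 : P.1.a = Q.1.a := congrArg Subtype.val h
      have h4 := hU P
      have h5 := hU Q
      rw [← h3] at h5
      exact Subtype.ext (Pair.ext' h3 (S.W.uniq h4 h5))
    · rintro ⟨s, ⟨hs, hsc, hss, hsK⟩, hs1⟩
      have hs1' : s ≠ 1 := hs1
      have hso : orderOf s = 2 := orderOf_eq_prime (by rw [pow_two]; exact hss) hs1'
      obtain ⟨N, hN, -, -, M', -, h8⟩ := S.W.up_lab S.ua MK hso (hsc a S.aT).symm hsK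
      have hen : e ∈ normalizer (N : Set G) := S.W.nor hN (mem_c (hec s hs).symm)
      refine ⟨⟨⟨s, N⟩, ⟨smul_eq_iff.2 ⟨(hec s hs).symm, hen⟩, ?_⟩, fun t ht => smul_eq_iff.2
        ⟨hsc t ht, S.W.nor hN (mem_c (hsc t ht))⟩⟩, rfl⟩
      rw [ev_iff hN M' hen, h8 e (hec a S.aT).symm (hec s hs).symm, h1]
      exact hne
  have h3 : Nat.card X = ((Zf K T : Set G) \ {1}).ncard := by
    rw [← Nat.card_coe_set_eq]
    exact Nat.card_congr (Equiv.ofBijective f hf)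
  have h4 : ((Zf K T : Set G) \ {1}).ncard + 1 = Nat.card (Zf K T) := by
    rw [Set.ncard_sdiff_singleton_add_one (one_mem _) (Set.toFinite _), ← Nat.card_coe_set_eq]
    rfl
  have h5 : 2 ∣ Nat.card (Zf K T) := by
    have ha : a ∈ Zf K T := ⟨S.aT, fun t ht => S.a_comm ht, S.aa, S.W.fixes_self S.ua⟩
    have h6 := orderOf_dvd_natCard (⟨a, ha⟩ : Zf K T)
    rw [Subgroup.orderOf_mk, S.W.two S.ua] at h6
    exact h6
  have h6 : Even (Nat.card X) := hpar
  rw [h3, even_iff_two_dvd] at h6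
  omega

/-- **every element of `T` has the same parity on `K` and `L`** -/
theorem sign_eq_sign (S : Sit U a l K L T) (hG : commutator G = ⊤) (MK : Lab K) (ML : Lab L) {t : G} (ht : t ∈ T) :
    sign (MK.φ t) = sign (ML.φ t) := by
  obtain ⟨e, heT, hec, hee, h1, h2⟩ := S.exists_e MK ML ht
  rw [← h1, ← h2]
  rcases Int.units_eq_one_or (sign (MK.φ e)) with h3 | h3
  · rcases Int.units_eq_one_or (sign (ML.φ e)) with h4 | h4
    · rw [h3, h4]
    · have h5 := odd_of_odd S.symm hG ML MK hec hee h4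
      rw [h5, h4]
  · rw [h3, odd_of_odd S hG MK ML hec hee h3]

/-- **`J ∩ Z(T) = {a, l}`** -/
theorem central_J (S : Sit U a l K L T) (hG : commutator G = ⊤) {s : G} {N : Subgroup G} (hN : U s N)
    (hsT : ∀ t ∈ T, t * s = s * t) : s = a ∨ s = l := by
  have key : ∀ {a l : G} {K L : Subgroup G} (S : Sit U a l K L T), Fixes s K → s = a := by
    intro a l K L S hsK
    have hss := S.W.sq hN
    have hsmem : s ∈ T := mem_of_comm S.Ta (mem_c (hsT a S.aT).symm) (fun t ht => (hsT t ht).symm) hss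
    obtain ⟨MK⟩ := S.W.lab S.ua
    obtain ⟨ML⟩ := S.W.lab S.ul
    have h1 : MK.φ s = 1 := (MK.fixes_iff (S.TN hsmem)).2 hsK
    have h2 : sign (MK.φ s) = 1 := by rw [h1]; exact sign_one
    obtain ⟨p, hp, r, hr, h3⟩ := S.exists_PR MK ML hsmem h2 (by rw [← sign_eq_sign S hG MK ML hsmem]; exact h2)
    have h4 : Fixes p K := by
      have h5 : p = s * r⁻¹ := by rw [h3, mul_inv_cancel_right]
      rw [h5]
      exact (mem_fix.1 (mul_mem (⟨hsmem, hsK⟩ : s ∈ fix T K) (inv_mem (⟨hr.1, S.hR r hr⟩ : r ∈ fix T K)))).2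
    have h5 : p = 1 := S.eq_one_P hp h4
    rw [h5, one_mul] at h3
    rw [h3] at hsT ⊢
    exact (S.symm.central_P hr hsT).resolve_left fun h6 => S.W.ne hN (h3.trans h6)
  rcases central_fixes S hN hsT with h | h
  · exact Or.inl (key S h)
  · exact Or.inr (key S.symm h)

end Cfsg.Agent.UGT.A7.B.OneKPar
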