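import Cfsg.Agent.UGT.A7.B.OneE

/-!
# [A7], beta-branch, World 1, O-type: the pair `(a, K)`, `(l, L)`
-/

set_option autoImplicit false
set_option linter.unusedSectionVars false

open Cfsg Subgroup Equiv Equiv.Perm
open Cfsg.Agent.UAlt
open Cfsg.Agent.SignalizersComponents Cfsg.Agent.Lib
open Cfsg.Agent.SignalizersComponents.IntrinsicBasic
open Cfsg.Agent.Intrinsic.Basic Cfsg.Agent.Intrinsic.Cen Cfsg.Agent.Intrinsic.Diag
open Cfsg.Agent.McLLyComp.Act
open Cfsg.Agent.UGT.Triple Cfsg.Agent.UGT.TriBase Cfsg.Agent.UGT.LemG Cfsg.Agent.UAlt.Nine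
open scoped commutatorElement

namespace Cfsg.Agent.UGT.A7.B.One

universe u

variable {G : Type u} [Group G] [Finite G]

/-- the situation of the O-type after the choice of `a ∈ Z(T ∩ L)` -/
structure Mid (a l : G) (K L T : Subgroup G) : Prop where
  s : Sit1 a K T
  famL : Fam l L
  sylL : IsSyl (centralizer ({l} : Set G)) T
  eK : EightS (T ⊓ K) l
  eL : EightS (T ⊓ L) a
  dis : ∀ x ∈ T ⊓ K, x ∈ T ⊓ L → x = 1
  comm : ∀ p ∈ T ⊓ K, ∀ r ∈ T ⊓ L, p * r = r * p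

theorem order_two {x : G} (h : x * x = 1) (h1 : x ≠ 1) : orderOf x = 2 :=
  orderOf_eq_prime (by rw [pow_two, h]) h1

/-- normality of `T ∩ K` in `T`, elementwise -/
theorem conj_mem_inf {T K : Subgroup G} (hTK : T ≤ normalizer (K : Set G)) {t p : G} (ht : t ∈ T)
    (hp : p ∈ T ⊓ K) : t * p * t⁻¹ ∈ T ⊓ K :=
  ⟨T.mul_mem (T.mul_mem ht hp.1) (T.inv_mem ht), (mem_normalizer_iff.1 (hTK ht) p).1 hp.2⟩

/-- **(3)**, first part -/
theorem exists_mid (hF : F1 G) (hU : Uniq G) {a : G} {K T : Subgroup G} (h : Sit1 a K T)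
    (hO : ∃ l ∈ K, orderOf l = 2 ∧ ∃ N, Fam l N) : ∃ (a l : G) (K L : Subgroup G), Mid a l K L T := by
  have W := wd_fam hF hU
  obtain ⟨M₀⟩ := h.fam.a7
  obtain ⟨M, -, -, F⟩ := exists_fr7 M₀ h.fam.comp (W.nor h.fam) h.syl (Sit1.aa h)
    (ne_one_of_order h.fam.inv)
  obtain ⟨l, hz⟩ := F.exists_z
  have hTP := F.twoP
  have hlT : ∀ t ∈ T, t * l = l * t := fun t ht => central_z hz hTP ht
  have hl2 : orderOf l = 2 := order_two hz.sq hz.ne
  obtain ⟨L, hL⟩ : ∃ L, Fam l L := by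
    obtain ⟨l₀, hl₀, hl02, N₀, hN₀⟩ := hO
    obtain ⟨k, hk, hkl⟩ := Star.exists_conj_inv M hl₀ hz.mem.2 (sq_of_order hl02) hz.sq
      (ne_one_of_order hl02) hz.ne
    exact ⟨cj k N₀, hkl ▸ fam_cj hN₀ k⟩
  have hTK : T ≤ normalizer (K : Set G) := F.TN
  have hla : l * a = a * l := Sit1.comm h hz.mem.1
  have hlK : ¬ Fixes l K := fun hf => hz.ne (eq_one_of_lab M hz.mem.2 (n := 1)
    (by rw [pow_one, pow_two, hz.sq]) ((M.fixes_iff (le_normalizer hz.mem.2)).2 hf))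
  have haL : ¬ Fixes a L := fun hf => hlK (W.symm hL h.fam hla.symm hf)
  -- Sylow subgroups
  have hTl : T ≤ centralizer ({l} : Set G) := fun t ht => mem_c (hlT t ht)
  obtain ⟨Tl, hsl, hTTl⟩ := exists_isSyl h.syl.two hTl
  have hTL : T ≤ normalizer (L : Set G) := hTl.trans (W.nor hL)
  have hsyl' : IsSyl (centralizer ({l} : Set G) ⊓ centralizer ({a} : Set G)) T :=
    ⟨h.syl.two, le_inf hTl h.syl.le, fun R h1 h2 h3 => h.syl.max R h1 (h2.trans inf_le_right) h3⟩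
  have hPl : IsSyl (L ⊓ centralizer ({a} : Set G)) (T ⊓ (L ⊓ centralizer ({a} : Set G))) := by
    refine hsyl'.inf (inf_le_inf_right _ hL.comp.le) ?_
    intro g hg
    have h1 : g ∈ normalizer (L : Set G) := W.nor hL hg.1
    have h2 : g ∈ normalizer (centralizer ({a} : Set G) : Set G) := le_normalizer hg.2
    rw [mem_normalizer_iff_cj] at h1 h2 ⊢
    rw [cj_inf, h1, h2]
  have heq : T ⊓ (L ⊓ centralizer ({a} : Set G)) = T ⊓ L := by
    apply le_antisymm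
    · exact le_inf inf_le_left (inf_le_right.trans inf_le_left)
    · exact le_inf inf_le_left (le_inf inf_le_right (inf_le_left.trans h.syl.le))
  rw [heq] at hPl
  obtain ⟨ML⟩ := hL.a7
  have haLN : a ∈ normalizer (L : Set G) := W.nor hL (mem_c hla.symm)
  have h8 : Nat.card ↥(T ⊓ L : Subgroup G) = 8 :=
    card_syl_cent ML haLN (Sit1.aa h) (fun h1 => haL ((ML.fixes_iff haLN).1 h1)) hPl
  obtain ⟨ML', -, -, Fl⟩ := exists_fr7 ML hL.comp (W.nor hL) hsl hz.sq hz.ne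
  obtain ⟨b, hb⟩ := Fl.exists_z
  have hbT : ∀ t ∈ Tl, t * b = b * t := fun t ht => central_z hb Fl.twoP ht
  have hTLeq : T ⊓ L = Tl ⊓ L :=
    Subgroup.eq_of_le_of_card_ge (inf_le_inf_right _ hTTl) (by rw [h8, Fl.P8])
  rw [← hTLeq] at hb
  have hb2 : orderOf b = 2 := order_two hb.sq hb.ne
  -- `P ∩ P_l = 1`
  have hlL : l ∉ L := fun hl => hz.ne (eq_one_of_lab ML hl (n := 1)
    (by rw [pow_one, pow_two, hz.sq])
    ((ML.fixes_iff (le_normalizer hl)).2 (W.fixes_self hL)))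
  have hdis : ∀ x ∈ T ⊓ K, x ∈ T ⊓ L → x = 1 := by
    intro x hx hxL
    by_contra hx1
    have hxl : x ≠ l := by
      rintro rfl
      exact hlL hxL.2
    have hnc : ∃ p ∈ T ⊓ K, x * p ≠ p * x := by
      by_contra hcon
      push Not at hcon
      rcases hz.cen' x hx hcon with h1 | h1
      · exact hx1 h1
      · exact hxl h1
    obtain ⟨p, hp, hxp⟩ := hnc
    rcases hz.com x hx p hp with h1 | h1
    · exact hxp (by
        calc x * p = (x * p * x⁻¹ * p⁻¹) * (p * x) := by group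
          _ = p * x := by rw [h1, one_mul])
    · apply hlL
      rw [← h1]
      have h2 : x * p * x⁻¹ * p⁻¹ = x * (p * x⁻¹ * p⁻¹) := by group
      rw [h2]
      exact L.mul_mem hxL.2 ((mem_normalizer_iff.1 (hTL hp.1) _).1 (L.inv_mem hxL.2))
  have hcomm : ∀ p ∈ T ⊓ K, ∀ r ∈ T ⊓ L, p * r = r * p := by
    intro p hp r hr
    have h1 : p * r * p⁻¹ * r⁻¹ = 1 := by
      apply hdis
      · have h2 : p * r * p⁻¹ * r⁻¹ = p * (r * p⁻¹ * r⁻¹) := by group
        rw [h2]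
        exact mul_mem hp (conj_mem_inf hTK hr.1 (inv_mem hp))
      · exact mul_mem (conj_mem_inf hTL hp.1 hr) (inv_mem hr)
    calc p * r = (p * r * p⁻¹ * r⁻¹) * (r * p) := by group
      _ = r * p := by rw [h1, one_mul]
  -- `b ∈ Q`
  have hdec : ∀ r ∈ T ⊓ L, ∃ q ∈ Qs T K M F.TN, ∃ c, (c = 1 ∨ c = l) ∧ r = c * q := by
    intro r hr
    obtain ⟨c, hc, q, hq, hrcq⟩ := hTP.sup r hr.1
    refine ⟨q, hq, c, ?_, hrcq⟩
    apply hz.cen' c hc
    intro p hp
    have h1 := hcomm p hp r hr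
    have h2 := hTP.comm p hp q hq
    have h3 : c = r * q⁻¹ := by rw [hrcq]; group
    rw [h3]
    have h4 : q⁻¹ * p = p * q⁻¹ := by
      calc q⁻¹ * p = q⁻¹ * (p * q) * q⁻¹ := by group
        _ = q⁻¹ * (q * p) * q⁻¹ := by rw [h2]
        _ = _ := by group
    calc r * q⁻¹ * p = r * (q⁻¹ * p) := by group
      _ = r * (p * q⁻¹) := by rw [h4]
      _ = (r * p) * q⁻¹ := by group
      _ = (p * r) * q⁻¹ := by rw [h1]
      _ = _ := by group
  have hφ : ∀ r ∈ T ⊓ L, ∀ s ∈ T, M.φ r * M.φ s = M.φ s * M.φ r := by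
    intro r hr s hs
    obtain ⟨q, hq, c, hc, rfl⟩ := hdec r hr
    have hqT := (mem_Qs.1 hq).1
    have hcT : c ∈ T := by
      rcases hc with rfl | rfl
      · exact T.one_mem
      · exact hz.mem.1
    have e1 : M.φ c * M.φ s = M.φ s * M.φ c := by
      refine M.comm (hTK hcT) (hTK hs) ?_
      rcases hc with rfl | rfl
      · rw [one_mul, mul_one]
      · exact (hlT s hs).symm
    have e2 : M.φ q * M.φ s = M.φ s * M.φ q := by
      rcases (mem_Qs.1 hq).2 with h1 | h1 <;> rw [h1]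
      · rw [one_mul, mul_one]
      · exact (w0_central (F.inW s hs)).symm
    rw [M.mul _ _ (hTK hcT) (hTK hqT)]
    calc M.φ c * M.φ q * M.φ s = M.φ c * (M.φ q * M.φ s) := by group
      _ = M.φ c * (M.φ s * M.φ q) := by rw [e2]
      _ = (M.φ c * M.φ s) * M.φ q := by group
      _ = (M.φ s * M.φ c) * M.φ q := by rw [e1]
      _ = _ := by group
  have hbQ : b ∈ fix T K := by
    obtain ⟨r, hr, s, hs, -, hrs⟩ := hb.exists_comm
    rw [F.fix_iff hb.mem.1, ← hrs]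
    have hrN := hTK hr.1
    have hsN := hTK hs.1
    rw [M.mul _ _ (mul_mem (mul_mem hrN hsN) (inv_mem hrN)) (inv_mem hsN), M.conj hrN hsN, M.inv hsN,
      hφ r hr s hs.1, mul_inv_cancel_right, mul_inv_cancel]
  -- replacing `a` by `b`
  have hbTT : ∀ t ∈ T, t * b = b * t := fun t ht => hbT t (hTTl ht)
  have hba : b * a = a * b := Sit1.comm h hb.mem.1
  obtain ⟨N, hN, -, hcen, -⟩ := W.up_fix h.fam hb2 hba (mem_fix.1 hbQ).2
  obtain ⟨hsyl, hfix⟩ := h.max b hbQ hb2 hbTT N hN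
  have hKN : T ⊓ K = T ⊓ N := by
    refine Subgroup.eq_of_le_of_card_ge (le_inf inf_le_left fun p hp => ?_) ?_
    · obtain ⟨n, hn⟩ := h.syl.two ⟨p, hp.1⟩
      exact hcen (mem_cen hp.2 (hbTT p hp.1) (n := n) (congrArg Subtype.val hn))
    · rw [hz.card, card_syl hN.a7.some (hsyl.inf hN.comp.le (W.nor hN))]
  refine ⟨b, l, N, L, ⟨hN, hsyl, ?_, ?_⟩, hL, ?_, hKN ▸ hz, hb,
    fun x hx => hdis x (hKN.symm ▸ hx), fun p hp => hcomm p (hKN.symm ▸ hp)⟩
  · obtain ⟨q, hq, hqq, hq1, hqa⟩ := h.four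
    rw [hfix]
    by_cases hqb : q = b
    · refine ⟨a, Sit1.aQ h, Sit1.aa h, ne_one_of_order h.fam.inv, fun hab => hqa ?_⟩
      rw [hqb, hab]
    · exact ⟨q, hq, hqq, hq1, hqb⟩
  · intro c hc hc2 hcT N' hN'
    obtain ⟨h1, h2⟩ := h.max c (hfix ▸ hc) hc2 hcT N' hN'
    exact ⟨h1, h2.trans hfix.symm⟩
  · have h1 := hsyl.max Tl hsl.two (fun t ht => mem_c (hbT t ht)) hTTl
    rw [h1] at hsl
    exact hsl

end Cfsg.Agent.UGT.A7.B.One
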