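import Cfsg.Agent.UGT.A7.B.OneMid

/-!
# [A7], beta-branch, World 1, O-type: (N) and the calculations in `S₇`
-/

set_option autoImplicit false
set_option linter.unusedSectionVars false

open Cfsg Subgroup Equiv Equiv.Perm
open Cfsg.Agent.UAlt
open Cfsg.Agent.SignalizersComponents Cfsg.Agent.Lib
open Cfsg.Agent.SignalizersComponents.IntrinsicBasic
open Cfsg.Agent.Intrinsic.Basic Cfsg.Agent.Intrinsic.Cen Cfsg.Agent.Intrinsic.Diag
open Cfsg.Agent.McLLyComp.Act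
open Cfsg.Agent.UGT.Triple Cfsg.Agent.UGT.TriBase Cfsg.Agent.UGT.LemG Cfsg.Agent.UAlt.Nine
open scoped commutatorElement

namespace Cfsg.Agent.UGT.A7.B.One

/-! ### calculations in `S₇` -/

/-- `⟨z0, w0⟩` -/
def V0 : Finset (Perm (Fin 7)) := {1, z0, w0, z0 * w0}

theorem mem_V0 {σ : Perm (Fin 7)} : σ ∈ V0 ↔ σ = 1 ∨ σ = z0 ∨ σ = w0 ∨ σ = z0 * w0 := by
  simp [V0]

/-- the property (N) for the label `r` -/
def NN (A : Set (Perm (Fin 7))) (r : Perm (Fin 7)) : Prop :=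
  ∀ g, g ∈ alternatingGroup (Fin 7) → g * r = r * g → ∀ x ∈ A,
    ∃ y ∈ A, Odd (orderOf (y⁻¹ * (g * x * g⁻¹)))

/-- `y R` interchanges two points -/
def Two (y R : Perm (Fin 7)) : Prop := ∃ i j : Fin 7, i ≠ j ∧ y (R i) = j ∧ y (R j) = i

theorem two_not_odd {y R : Perm (Fin 7)} (h : Two y R) : ¬ Odd (orderOf (y * R)) := by
  obtain ⟨i, j, hij, h1, h2⟩ := h
  rintro ⟨n, hn⟩
  have h3 : ∀ n : ℕ, ((y * R) ^ (2 * n)) i = i := by
    intro n
    induction n with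
    | zero => rfl
    | succ n ih =>
      have h4 : 2 * (n + 1) = 2 * n + 1 + 1 := by ring
      have e1 : (y * R) i = j := h1
      have e2 : (y * R) j = i := h2
      rw [h4, pow_succ, pow_succ, Perm.mul_apply, Perm.mul_apply, e1, e2, ih]
  have h4 := pow_orderOf_eq_one (y * R)
  rw [hn, pow_succ', ] at h4
  have h5 := congrArg (fun s : Perm (Fin 7) => s i) h4
  simp only [Perm.mul_apply, Perm.one_apply, h3] at h5
  exact hij (h5.symm.trans h1)

theorem excl {A : Set (Perm (Fin 7))} (hA : ∀ x ∈ A, x ∈ V0) {r : Perm (Fin 7)} (hN : NN A r)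
    (g x R : Perm (Fin 7)) (hg : sign g = 1) (hgr : g * r = r * g) (hR : g * x * g⁻¹ = R)
    (h1 : Two 1 R) (h2 : Two z0 R) (h3 : Two w0 R) (h4 : Two (z0 * w0) R) : x ∉ A := by
  intro hx
  obtain ⟨y, hy, hodd⟩ := hN g (mem_alternatingGroup.2 hg) hgr x hx
  rw [hR] at hodd
  have e1 : z0⁻¹ = z0 := inv_eq_of_mul_eq_one_left z0z0
  have e2 : w0⁻¹ = w0 := inv_eq_of_mul_eq_one_left w0w0
  have e3 : (z0 * w0)⁻¹ = z0 * w0 := by decide
  rcases mem_V0.1 (hA y hy) with rfl | rfl | rfl | rfl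
  · rw [inv_one] at hodd
    exact two_not_odd h1 hodd
  · rw [e1] at hodd
    exact two_not_odd h2 hodd
  · rw [e2] at hodd
    exact two_not_odd h3 hodd
  · rw [e3] at hodd
    exact two_not_odd h4 hodd

theorem sign_two {a b c d : Fin 7} (h1 : a ≠ b) (h2 : c ≠ d) :
    sign (swap a b * swap c d : Perm (Fin 7)) = 1 := by
  rw [Perm.sign_mul, sign_swap h1, sign_swap h2]
  rfl

/-- `(13)(24)` -/
def v1 : Perm (Fin 7) := swap 0 2 * swap 1 3
/-- `(12)(56)` -/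
def v2 : Perm (Fin 7) := swap 0 1 * swap 4 5
/-- `(14)(23)` -/
def v3 : Perm (Fin 7) := swap 0 3 * swap 1 2

theorem v1_mem : v1 ∈ P0 := by
  rw [mem_P0, mem_W0]
  exact ⟨⟨by decide, by decide⟩, sign_two (by decide) (by decide)⟩

theorem v2_mem : v2 ∈ P0 := by
  rw [mem_P0, mem_W0]
  exact ⟨⟨by decide, by decide⟩, sign_two (by decide) (by decide)⟩

theorem two_v1 : Two 1 v1 ∧ Two z0 v1 ∧ Two w0 v1 ∧ Two (z0 * w0) v1 :=
  ⟨⟨0, 2, by decide, by decide, by decide⟩, ⟨0, 3, by decide, by decide, by decide⟩,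
    ⟨0, 2, by decide, by decide, by decide⟩, ⟨0, 3, by decide, by decide, by decide⟩⟩

theorem two_v1w : Two 1 (v1 * w0) ∧ Two z0 (v1 * w0) ∧ Two w0 (v1 * w0) ∧ Two (z0 * w0) (v1 * w0) :=
  ⟨⟨0, 2, by decide, by decide, by decide⟩, ⟨0, 3, by decide, by decide, by decide⟩,
    ⟨0, 2, by decide, by decide, by decide⟩, ⟨0, 3, by decide, by decide, by decide⟩⟩

theorem two_v3 : Two 1 v3 ∧ Two z0 v3 ∧ Two w0 v3 ∧ Two (z0 * w0) v3 :=
  ⟨⟨0, 3, by decide, by decide, by decide⟩, ⟨0, 2, by decide, by decide, by decide⟩,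
    ⟨0, 3, by decide, by decide, by decide⟩, ⟨0, 2, by decide, by decide, by decide⟩⟩

theorem two_v3w : Two 1 (v3 * w0) ∧ Two z0 (v3 * w0) ∧ Two w0 (v3 * w0) ∧ Two (z0 * w0) (v3 * w0) :=
  ⟨⟨0, 3, by decide, by decide, by decide⟩, ⟨0, 2, by decide, by decide, by decide⟩,
    ⟨0, 3, by decide, by decide, by decide⟩, ⟨0, 2, by decide, by decide, by decide⟩⟩

theorem two_01 : Two 1 (swap 0 1) ∧ Two z0 (swap 0 1) ∧ Two w0 (swap 0 1) ∧ Two (z0 * w0) (swap 0 1) :=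
  ⟨⟨0, 1, by decide, by decide, by decide⟩, ⟨2, 3, by decide, by decide, by decide⟩,
    ⟨0, 1, by decide, by decide, by decide⟩, ⟨2, 3, by decide, by decide, by decide⟩⟩

theorem two_23 : Two 1 (swap 2 3) ∧ Two z0 (swap 2 3) ∧ Two w0 (swap 2 3) ∧ Two (z0 * w0) (swap 2 3) :=
  ⟨⟨2, 3, by decide, by decide, by decide⟩, ⟨0, 1, by decide, by decide, by decide⟩,
    ⟨2, 3, by decide, by decide, by decide⟩, ⟨0, 1, by decide, by decide, by decide⟩⟩

section cases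

variable {A : Set (Perm (Fin 7))} (hA : ∀ x ∈ A, x ∈ V0)

include hA

/-- excluding `z0` and `z0 w0` with `g = (12)(45)` -/
theorem excl_z1 {r : Perm (Fin 7)} (h : NN A r)
    (hr : (swap 1 2 * swap 4 5 : Perm (Fin 7)) * r = r * (swap 1 2 * swap 4 5)) :
    z0 ∉ A ∧ z0 * w0 ∉ A := by
  obtain ⟨a1, a2, a3, a4⟩ := two_v1
  obtain ⟨b1, b2, b3, b4⟩ := two_v1w
  exact ⟨excl hA h _ _ _ (sign_two (by decide) (by decide)) hr (by decide) a1 a2 a3 a4,
    excl hA h _ _ _ (sign_two (by decide) (by decide)) hr (by decide) b1 b2 b3 b4⟩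

/-- excluding `z0` and `z0 w0` with `g = (13)(45)` -/
theorem excl_z2 {r : Perm (Fin 7)} (h : NN A r)
    (hr : (swap 1 3 * swap 4 5 : Perm (Fin 7)) * r = r * (swap 1 3 * swap 4 5)) :
    z0 ∉ A ∧ z0 * w0 ∉ A := by
  obtain ⟨a1, a2, a3, a4⟩ := two_v3
  obtain ⟨b1, b2, b3, b4⟩ := two_v3w
  exact ⟨excl hA h _ _ _ (sign_two (by decide) (by decide)) hr (by decide) a1 a2 a3 a4,
    excl hA h _ _ _ (sign_two (by decide) (by decide)) hr (by decide) b1 b2 b3 b4⟩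

/-- excluding `w0` with `g = (04)(15)` -/
theorem excl_w1 {r : Perm (Fin 7)} (h : NN A r)
    (hr : (swap 0 4 * swap 1 5 : Perm (Fin 7)) * r = r * (swap 0 4 * swap 1 5)) : w0 ∉ A := by
  obtain ⟨a1, a2, a3, a4⟩ := two_01
  exact excl hA h _ _ _ (sign_two (by decide) (by decide)) hr (by decide) a1 a2 a3 a4

/-- excluding `w0` with `g = (24)(35)` -/
theorem excl_w2 {r : Perm (Fin 7)} (h : NN A r)
    (hr : (swap 2 4 * swap 3 5 : Perm (Fin 7)) * r = r * (swap 2 4 * swap 3 5)) : w0 ∉ A := by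
  obtain ⟨a1, a2, a3, a4⟩ := two_23
  exact excl hA h _ _ _ (sign_two (by decide) (by decide)) hr (by decide) a1 a2 a3 a4

theorem excl_one (h : NN A 1) : z0 ∉ A ∧ z0 * w0 ∉ A ∧ w0 ∉ A := by
  obtain ⟨h1, h2⟩ := excl_z1 hA h (by rw [one_mul, mul_one])
  exact ⟨h1, h2, excl_w1 hA h (by rw [one_mul, mul_one])⟩

theorem excl_w0 (h : NN A w0) : z0 ∉ A ∧ z0 * w0 ∉ A := excl_z1 hA h (by decide)

theorem excl_z0w0 (h : NN A (z0 * w0)) : w0 ∉ A := excl_w1 hA h (by decide)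

theorem excl_v1 (h : NN A v1 ∨ NN A (w0 * v1)) : z0 ∉ A ∧ z0 * w0 ∉ A := by
  rcases h with h | h
  · exact excl_z2 hA h (by decide)
  · exact excl_z2 hA h (by decide)

theorem excl_v2 (h : NN A v2 ∨ NN A (w0 * v2)) : w0 ∉ A := by
  rcases h with h | h
  · exact excl_w1 hA h (by decide)
  · exact excl_w2 hA h (by decide)

theorem triv_of (h1 : z0 ∉ A) (h2 : z0 * w0 ∉ A) (h3 : w0 ∉ A) : ∀ x ∈ A, x = 1 := by
  intro x hx
  rcases mem_V0.1 (hA x hx) with h | h | h | h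
  · exact h
  · exact absurd (h ▸ hx) h1
  · exact absurd (h ▸ hx) h3
  · exact absurd (h ▸ hx) h2

end cases

/-- an even permutation commuting with `z0` agrees on `0, 1, 2, 3` with an element of `P0` -/
theorem exists_agree {τ : Perm (Fin 7)} (hτ : τ * z0 = z0 * τ) :
    ∃ a : DihedralGroup 4, ∀ i : Fin 7, i ∈ ({0, 1, 2, 3} : Finset (Fin 7)) → g0 a i = τ i := by
  have key : ∀ i j : Fin 7, z0 i ≠ i → z0 j ≠ j → j ≠ i → j ≠ z0 i →
      ∃ a : DihedralGroup 4, g0 a 0 = i ∧ g0 a 2 = j := by decide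
  have hc : ∀ i, τ (z0 i) = z0 (τ i) := fun i => by
    rw [← Perm.mul_apply, hτ, Perm.mul_apply]
  have e01 : z0 0 = 1 := by decide
  have e23 : z0 2 = 3 := by decide
  have h1 : z0 (τ 0) ≠ τ 0 := by
    rw [← hc, e01]
    intro h
    exact absurd (τ.injective h) (by decide)
  have h2 : z0 (τ 2) ≠ τ 2 := by
    rw [← hc, e23]
    intro h
    exact absurd (τ.injective h) (by decide)
  have h3 : τ 2 ≠ τ 0 := fun h => absurd (τ.injective h) (by decide)
  have h4 : τ 2 ≠ z0 (τ 0) := by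
    rw [← hc, e01]
    intro h
    exact absurd (τ.injective h) (by decide)
  obtain ⟨a, ha0, ha2⟩ := key _ _ h1 h2 h3 h4
  have hca : ∀ i, g0 a (z0 i) = z0 (g0 a i) := fun i => by
    rw [← Perm.mul_apply, z0_central (g0_W0 a), Perm.mul_apply]
  refine ⟨a, fun i hi => ?_⟩
  simp only [Finset.mem_insert, Finset.mem_singleton] at hi
  rcases hi with rfl | rfl | rfl | rfl
  · exact ha0
  · rw [← e01, hca, ha0, hc]
  · exact ha2
  · rw [← e23, hca, ha2, hc]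

/-- an even permutation of square 1 fixing `0, 1, 2, 3` is trivial -/
theorem eq_one_of_fix4 {τ : Perm (Fin 7)} (hτ : τ ∈ alternatingGroup (Fin 7)) (hs : τ * τ = 1)
    (h : ∀ i : Fin 7, i ∈ ({0, 1, 2, 3} : Finset (Fin 7)) → τ i = i) : τ = 1 := by
  by_contra hne
  have h1 : Cfsg.Agent.StdAlt.Roots.IsRoot τ := Star.isRoot_of_even hs hne hτ
  have h2 := h1.2
  have h3 : τ.support ⊆ {4, 5, 6} := by
    intro i hi
    rw [Perm.mem_support] at hi
    by_contra hcon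
    apply hi
    apply h
    clear hi
    revert hcon
    revert i
    decide
  have h4 := Finset.card_le_card h3
  have h5 : ({4, 5, 6} : Finset (Fin 7)).card = 3 := by decide
  omega

/-! ### (N) -/

variable {G : Type*} [Group G] [Finite G]

/-- the elements of `P0` are labels -/
theorem lab_surj {K X : Subgroup G} (M : Lab K) (hX : IsPGroup 2 ↥X) (hXK : X ≤ K)
    (h8 : Nat.card ↥X = 8) (hW : ∀ x ∈ X, M.φ x ∈ W0) : ∀ σ ∈ P0, ∃ x ∈ X, M.φ x = σ := by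
  have hP : ∀ x ∈ X, M.φ x ∈ P0 := by
    intro x hx
    rw [mem_P0]
    refine ⟨hW x hx, ?_⟩
    have := M.mem_alt x (hXK hx)
    rwa [alt_univ, mem_alternatingGroup] at this
  let f : ↥X → ↥P0 := fun x => ⟨M.φ x, hP x x.2⟩
  have hf : Function.Injective f := by
    intro x y hxy
    have h2 : M.φ x = M.φ y := congrArg Subtype.val hxy
    rw [M.eq_iff (hXK x.2) (hXK y.2)] at h2
    obtain ⟨n, hn⟩ := hX (x⁻¹ * y)
    have h3 : (x : G)⁻¹ * y = 1 := eq_one_of_mem_core h2 (n := n) (congrArg Subtype.val hn)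
    exact Subtype.ext (inv_mul_eq_one.1 h3)
  have hb : Function.Bijective f := (Nat.bijective_iff_injective_and_card f).2 ⟨hf, by
    rw [h8, card_P0]⟩
  intro σ hσ
  obtain ⟨x, hx⟩ := hb.2 ⟨σ, hσ⟩
  exact ⟨x, x.2, congrArg Subtype.val hx⟩

/-- the central involution of `X` has label `z0` -/
theorem lab_center {K X : Subgroup G} (M : Lab K) (hX : IsPGroup 2 ↥X) (hXK : X ≤ K)
    (hW : ∀ x ∈ X, M.φ x ∈ W0) {l : G} (hl : EightS X l) : M.φ l = z0 := by
  have hs := lab_surj M hX hXK hl.card hW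
  obtain ⟨x, hx, hxe⟩ := hs _ (g0_mem (DihedralGroup.r 1))
  obtain ⟨y, hy, hye⟩ := hs _ (g0_mem (DihedralGroup.sr 0))
  have hN : X ≤ normalizer (K : Set G) := hXK.trans le_normalizer
  have h1 := mem_four (hW x hx) (hW y hy) (hW l hl.mem) (by rw [hxe, hye]; decide)
    (M.comm (hN hl.mem) (hN hx) (hl.cen x hx)) (M.comm (hN hl.mem) (hN hy) (hl.cen y hy))
  have h2 := M.mem_alt l (hXK hl.mem)
  rw [alt_univ, mem_alternatingGroup] at h2
  rcases h1 with h1 | h1 | h1 | h1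
  · exact absurd (eq_one_of_lab M (hXK hl.mem) (n := 1) (by rw [pow_one, pow_two, hl.sq]) h1) hl.ne
  · exact h1
  · rw [h1] at h2
    exact absurd h2 (by decide)
  · rw [h1] at h2
    exact absurd h2 (by decide)

/-- an element of even order has an involution as a power -/
theorem exists_pow_inv' {x : G} (h : ¬ Odd (orderOf x)) : ∃ k : ℕ, orderOf (x ^ k) = 2 := by
  rw [Nat.not_odd_iff_even] at h
  obtain ⟨m, hm⟩ := h
  have h0 : 0 < orderOf x := orderOf_pos x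
  refine ⟨m, ?_⟩
  rw [orderOf_pow' _ (by omega)]
  have h1 : Nat.gcd (orderOf x) m = m := Nat.gcd_eq_right ⟨2, by omega⟩
  rw [h1, hm]
  have h2 : m + m = 2 * m := by ring
  rw [h2, Nat.mul_div_cancel _ (by omega)]

namespace Wd

variable {U : G → Subgroup G → Prop} (W : Wd U)

include W

/-- **(N)** -/
theorem nn {a l r : G} {K L T : Subgroup G} (ha : U a K) (hl : U l L) (hT : IsPGroup 2 ↥T)
    (hTa : ∀ t ∈ T, t * a = a * t) (hTl : ∀ t ∈ T, t * l = l * t) (hE : EightS (T ⊓ K) l) (ML : Lab L)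
    (hr : r ∈ T) (hrK : Fixes r K) (hr2 : orderOf r = 2) :
    NN {x | ∃ p ∈ T ⊓ K, ML.φ p = x} (ML.φ r) := by
  rintro g hg hgr x ⟨p, hp, rfl⟩
  have hrr := sq_of_order hr2
  obtain ⟨Kr, hKr, -, hcen, -⟩ := W.up_fix ha hr2 (hTa r hr) hrK
  have hPr : ∀ p ∈ T ⊓ K, p * r = r * p := fun p hp => (comm_fix hT hp.1 hp.2 hr hrK).symm
  have hP2 : IsPGroup 2 ↥(T ⊓ K : Subgroup G) := hT.to_le inf_le_left
  have hPK : (T ⊓ K : Subgroup G) ≤ Kr := by
    intro p hp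
    obtain ⟨n, hn⟩ := hT ⟨p, hp.1⟩
    exact hcen (mem_cen hp.2 (hPr p hp) (n := n) (congrArg Subtype.val hn))
  obtain ⟨M₀⟩ := W.lab hKr
  obtain ⟨Mr, -, -, hW⟩ := exists_lab_W0 M₀ hP2 (hPK.trans le_normalizer)
  have hlz := lab_center Mr hP2 hPK hW hE
  have hsurj := lab_surj Mr hP2 hPK hE.card hW
  have hTLN : ∀ t ∈ T, t ∈ normalizer (L : Set G) := fun t ht => W.nor hl (mem_c (hTl t ht))
  obtain ⟨h, hh, hrh, hhg⟩ := ML.exists_comm_lift (hTLN r hr) (n := 1) (by rw [pow_one, pow_two, hrr])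
    (σ := g) (by rw [alt_univ]; exact hg) hgr.symm
  have hhl : h * l = l * h := comm_c ((W.comp hl).le hh)
  have hhN : h ∈ normalizer (Kr : Set G) := W.nor hKr (mem_c hrh.symm)
  obtain ⟨k, hk⟩ : ∃ k, k = h * p * h⁻¹ := ⟨_, rfl⟩
  have hkK : k ∈ Kr := hk ▸ (mem_normalizer_iff.1 hhN p).1 (hPK hp)
  have hkl : k * l = l * k := by
    have h1 : p * l = l * p := hTl p hp.1
    have h2 : h⁻¹ * l = l * h⁻¹ := by
      calc h⁻¹ * l = h⁻¹ * (l * h) * h⁻¹ := by group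
        _ = h⁻¹ * (h * l) * h⁻¹ := by rw [hhl]
        _ = _ := by group
    rw [hk]
    calc h * p * h⁻¹ * l = h * p * (h⁻¹ * l) := by group
      _ = h * (p * l) * h⁻¹ := by rw [h2]; group
      _ = (h * l) * p * h⁻¹ := by rw [h1]; group
      _ = _ := by rw [hhl]; group
  have hlK : l ∈ Kr := hPK hE.mem
  have hKN : ∀ {x}, x ∈ Kr → x ∈ normalizer (Kr : Set G) := fun hx => le_normalizer hx
  have h1 := Mr.comm (hKN hkK) (hKN hlK) hkl
  rw [hlz] at h1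
  obtain ⟨c, hc⟩ := exists_agree h1
  obtain ⟨p', hp', hpc⟩ := hsurj _ (g0_mem c)
  obtain ⟨y, hy⟩ : ∃ y, y = p'⁻¹ * k := ⟨_, rfl⟩
  have hyK : y ∈ Kr := hy ▸ mul_mem (inv_mem (hPK hp')) hkK
  have hyφ : Mr.φ y = (g0 c)⁻¹ * Mr.φ k := by
    rw [hy, Mr.mul _ _ (inv_mem (hKN (hPK hp'))) (hKN hkK), Mr.inv (hKN (hPK hp')), hpc]
  have hyfix : ∀ i : Fin 7, i ∈ ({0, 1, 2, 3} : Finset (Fin 7)) → Mr.φ y i = i := by
    intro i hi
    rw [hyφ, Perm.mul_apply, ← hc i hi, Perm.inv_eq_iff_eq]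
  have hodd : Odd (orderOf y) := by
    by_contra hev
    obtain ⟨m, hm⟩ := exists_pow_inv' hev
    have hmm := sq_of_order hm
    have hmK : y ^ m ∈ Kr := pow_mem hyK m
    have h2 : Mr.φ (y ^ m) = 1 := by
      refine eq_one_of_fix4 ?_ (Mr.sq (hKN hmK) hmm) ?_
      · have := Mr.mem_alt _ hmK
        rwa [alt_univ] at this
      · intro i hi
        rw [Mr.pow (hKN hyK)]
        have h3 : ∀ m : ℕ, (Mr.φ y ^ m) i = i := by
          intro m
          induction m with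
          | zero => rfl
          | succ m ih => rw [pow_succ, Perm.mul_apply, hyfix i hi, ih]
        exact h3 m
    exact ne_one_of_order hm (eq_one_of_lab Mr hmK (n := 1) (by rw [pow_one, pow_two, hmm]) h2)
  refine ⟨ML.φ p', ⟨p', hp', rfl⟩, ?_⟩
  have hyN : y ∈ normalizer (L : Set G) := by
    rw [hy, hk]
    exact mul_mem (inv_mem (hTLN _ hp'.1)) (mul_mem (mul_mem (le_normalizer hh) (hTLN _ hp.1))
      (inv_mem (le_normalizer hh)))
  have h2 : (ML.φ p')⁻¹ * (g * ML.φ p * g⁻¹) = ML.φ y := by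
    have h3 : k ∈ normalizer (L : Set G) := by
      rw [hk]
      exact mul_mem (mul_mem (le_normalizer hh) (hTLN _ hp.1)) (inv_mem (le_normalizer hh))
    rw [hy, ML.mul _ _ (inv_mem (hTLN _ hp'.1)) h3, ML.inv (hTLN _ hp'.1), hk,
      ML.conj (le_normalizer hh) (hTLN _ hp.1), hhg]
  rw [h2]
  have h3 : orderOf (ML.φ y) ∣ orderOf y := by
    rw [orderOf_dvd_iff_pow_eq_one, ← ML.pow hyN, pow_orderOf_eq_one, ML.one]
  exact Odd.of_dvd_nat hodd h3

end Wd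

end Cfsg.Agent.UGT.A7.B.One
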