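import Cfsg.Agent.UGT.A7.B.OneBase

/-!
# [A7], beta-branch, World 1: Sylow 2-subgroups of `S₇` and of centralizers of involutions

* `mem_four`: elements of `W0` commuting with two noncommuting elements of `W0`.
* `card_syl_cent`: `|C_K(e)|₂ = 8` for an involution `e` acting non-trivially on `K / O(K) ≅ A₇`.
* `exists_lab_W0`: a 2-group acting on `K` acts on the labels as a subgroup of `W0`, after relabelling.
-/

set_option autoImplicit false
set_option linter.unusedSectionVars false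

open Cfsg Subgroup Equiv Equiv.Perm
open Cfsg.Agent.UAlt
open Cfsg.Agent.SignalizersComponents Cfsg.Agent.Lib
open Cfsg.Agent.SignalizersComponents.IntrinsicBasic
open Cfsg.Agent.Intrinsic.Basic Cfsg.Agent.Intrinsic.Cen Cfsg.Agent.Intrinsic.Diag
open Cfsg.Agent.McLLyComp.Act
open Cfsg.Agent.UGT.Triple Cfsg.Agent.UGT.TriBase Cfsg.Agent.UGT.LemG Cfsg.Agent.UAlt.Nine
open scoped commutatorElement

namespace Cfsg.Agent.UGT.A7.B.One

/-! ### `W0` -/

theorem w0w0 : w0 * w0 = 1 := by decide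
theorem z0z0 : z0 * z0 = 1 := by decide

/-- elements of `W0` -/
theorem exists_form {σ : Perm (Fin 7)} (h : σ ∈ W0) :
    ∃ a : DihedralGroup 4, σ = g0 a ∨ σ = w0 * g0 a := by
  rcases W0_cases h with h | h
  · obtain ⟨a, rfl⟩ := exists_g0 h
    exact ⟨a, Or.inl rfl⟩
  · obtain ⟨a, ha⟩ := exists_g0 h
    refine ⟨a, Or.inr ?_⟩
    rw [← ha, ← mul_assoc, w0w0, one_mul]

theorem g0_W0 (a : DihedralGroup 4) : g0 a ∈ W0 := (mem_P0.1 (g0_mem a)).1

/-- commuting elements of `W0` -/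
theorem comm_form {σ τ : Perm (Fin 7)} {a b : DihedralGroup 4} (hσ : σ = g0 a ∨ σ = w0 * g0 a)
    (hτ : τ = g0 b ∨ τ = w0 * g0 b) : σ * τ = τ * σ ↔ a * b = b * a := by
  have e1 : g0 a * w0 = w0 * g0 a := w0_central (g0_W0 a)
  have e2 : g0 b * w0 = w0 * g0 b := w0_central (g0_W0 b)
  have key : g0 a * g0 b = g0 b * g0 a ↔ a * b = b * a := by
    rw [← g0_mul, ← g0_mul]
    exact ⟨fun h => g0_inj h, fun h => by rw [h]⟩
  rw [← key]
  rcases hσ with rfl | rfl <;> rcases hτ with rfl | rfl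
  · exact Iff.rfl
  · rw [← mul_assoc, e1, mul_assoc, mul_assoc]
    exact mul_right_inj w0
  · rw [mul_assoc, ← mul_assoc, ← mul_assoc, e2, mul_assoc, mul_assoc]
    exact mul_right_inj w0
  · have h1 : w0 * g0 a * (w0 * g0 b) = w0 * w0 * (g0 a * g0 b) := by
      calc w0 * g0 a * (w0 * g0 b) = w0 * (g0 a * w0) * g0 b := by group
        _ = w0 * (w0 * g0 a) * g0 b := by rw [e1]
        _ = _ := by group
    have h2 : w0 * g0 b * (w0 * g0 a) = w0 * w0 * (g0 b * g0 a) := by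
      calc w0 * g0 b * (w0 * g0 a) = w0 * (g0 b * w0) * g0 a := by group
        _ = w0 * (w0 * g0 b) * g0 a := by rw [e2]
        _ = _ := by group
    rw [h1, h2, w0w0, one_mul, one_mul]

/-- elements of `W0` commuting with two noncommuting elements -/
theorem mem_four {x y σ : Perm (Fin 7)} (hx : x ∈ W0) (hy : y ∈ W0) (hσ : σ ∈ W0)
    (hxy : x * y ≠ y * x) (h1 : σ * x = x * σ) (h2 : σ * y = y * σ) :
    σ = 1 ∨ σ = z0 ∨ σ = w0 ∨ σ = z0 * w0 := by
  have key : ∀ a b c : DihedralGroup 4, a * b ≠ b * a → c * a = a * c → c * b = b * c →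
      c = 1 ∨ c = DihedralGroup.r 2 := by decide
  have e1 : g0 1 = 1 := by decide
  have e2 : g0 (DihedralGroup.r 2) = z0 := by decide
  obtain ⟨a, ha⟩ := exists_form hx
  obtain ⟨b, hb⟩ := exists_form hy
  obtain ⟨c, hc⟩ := exists_form hσ
  have h3 := key a b c (fun h => hxy ((comm_form ha hb).2 h)) ((comm_form hc ha).1 h1)
    ((comm_form hc hb).1 h2)
  rcases h3 with rfl | rfl
  · rw [e1] at hc
    rcases hc with h | h
    · exact Or.inl h
    · exact Or.inr (Or.inr (Or.inl (h.trans (mul_one _))))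
  · rw [e2] at hc
    rcases hc with h | h
    · exact Or.inr (Or.inl h)
    · refine Or.inr (Or.inr (Or.inr (h.trans ?_)))
      decide

/-! ### involutions of `S₇` -/

theorem cycleType_inv {σ : Perm (Fin 7)} (h : σ * σ = 1) (h1 : σ ≠ 1) :
    ∃ n : ℕ, σ.cycleType = Multiset.replicate (n + 1) 2 ∧ σ.support.card = 2 * (n + 1) := by
  have ho : orderOf σ = 2 := orderOf_eq_prime (by rw [pow_two, h]) h1
  obtain ⟨n, hn⟩ := Equiv.Perm.cycleType_prime_order (σ := σ) (by rw [ho]; exact Nat.prime_two)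
  rw [ho] at hn
  refine ⟨n, hn, ?_⟩
  rw [← Equiv.Perm.sum_cycleType, hn, Multiset.sum_replicate, smul_eq_mul, mul_comm]

theorem conj_of_card {σ τ : Perm (Fin 7)} (h : σ * σ = 1) (h1 : σ ≠ 1) (h' : τ * τ = 1) (h1' : τ ≠ 1)
    (hc : σ.support.card = τ.support.card) : ∃ g, g * σ * g⁻¹ = τ := by
  obtain ⟨n, hn, hn'⟩ := cycleType_inv h h1
  obtain ⟨m, hm, hm'⟩ := cycleType_inv h' h1'
  have hnm : n = m := by omega
  subst hnm
  have h2 : IsConj σ τ := Equiv.Perm.isConj_iff_cycleType_eq.2 (hn.trans hm.symm)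
  exact isConj_iff.1 h2

theorem inv_cases {σ : Perm (Fin 7)} (h : σ * σ = 1) (h1 : σ ≠ 1) :
    ∃ g, g * σ * g⁻¹ = z0 ∨ g * σ * g⁻¹ = w0 ∨ g * σ * g⁻¹ = z0 * w0 := by
  obtain ⟨n, -, hn⟩ := cycleType_inv h h1
  have h4 : σ.support.card ≤ 7 := by
    have := Finset.card_le_univ σ.support
    rwa [Fintype.card_fin] at this
  have c1 : z0.support.card = 4 := by decide
  have c2 : w0.support.card = 2 := by decide
  have c3 : (z0 * w0).support.card = 6 := by decide
  have h5 : n = 0 ∨ n = 1 ∨ n = 2 := by omega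
  rcases h5 with rfl | rfl | rfl
  · obtain ⟨g, hg⟩ := conj_of_card h h1 (τ := w0) (by decide) (by decide) (by rw [c2, hn])
    exact ⟨g, Or.inr (Or.inl hg)⟩
  · obtain ⟨g, hg⟩ := conj_of_card h h1 (τ := z0) (by decide) (by decide) (by rw [c1, hn])
    exact ⟨g, Or.inl hg⟩
  · obtain ⟨g, hg⟩ := conj_of_card h h1 (τ := z0 * w0) (by decide) (by decide) (by rw [c3, hn])
    exact ⟨g, Or.inr (Or.inr hg)⟩

/-- every involution of `S₇` commutes with a Sylow 2-subgroup of `A₇` -/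
theorem eight_dvd_cent {σ : Perm (Fin 7)} (h : σ * σ = 1) (h1 : σ ≠ 1) :
    8 ∣ Nat.card ↥(alternatingGroup (Fin 7) ⊓ centralizer ({σ} : Set (Perm (Fin 7)))) := by
  obtain ⟨g, hg⟩ := inv_cases h h1
  have h2 : P0.map (MulAut.conj g⁻¹).toMonoidHom ≤
      alternatingGroup (Fin 7) ⊓ centralizer ({σ} : Set (Perm (Fin 7))) := by
    rintro _ ⟨p, hp, rfl⟩
    have h3 := mem_P0.1 hp
    have h4 : g * σ * g⁻¹ * p = p * (g * σ * g⁻¹) := by
      rcases hg with hg | hg | hg <;> rw [hg]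
      · exact (z0_central h3.1).symm
      · exact (w0_central h3.1).symm
      · rw [mul_assoc, ← w0_central h3.1, ← mul_assoc, ← z0_central h3.1, mul_assoc]
    refine mem_inf.2 ⟨?_, ?_⟩
    · change g⁻¹ * p * g⁻¹⁻¹ ∈ _
      exact (inferInstance : (alternatingGroup (Fin 7)).Normal).conj_mem _
        (mem_alternatingGroup.2 h3.2) g⁻¹
    · change g⁻¹ * p * g⁻¹⁻¹ ∈ _
      rw [mem_centralizer_singleton_iff, inv_inv]
      calc g⁻¹ * p * g * σ = g⁻¹ * (p * (g * σ * g⁻¹)) * g := by group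
        _ = g⁻¹ * (g * σ * g⁻¹ * p) * g := by rw [h4]
        _ = _ := by group
  have h3 := card_dvd_of_le h2
  have h4 : Nat.card ↥(P0.map (MulAut.conj g⁻¹).toMonoidHom) = 8 := by
    rw [card_map_of_injective (MulAut.conj g⁻¹).injective, card_P0]
  rwa [h4] at h3

variable {G : Type*} [Group G] [Finite G]

/-- the order of Sylow 2-subgroups of `K`, `K / O(K) ≅ A₇` -/
theorem card_syl {K R : Subgroup G} (M : Lab K) (hR : IsSyl K R) : Nat.card ↥R = 8 :=
  (Star.exists_even M hR.two (hR.le.trans le_normalizer) hR le_rfl).1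

/-- 2-subgroups of `K` have order at most 8 -/
theorem card_two_le {K R : Subgroup G} (M : Lab K) (hR : IsPGroup 2 ↥R) (hRK : R ≤ K) :
    Nat.card ↥R ≤ 8 := by
  obtain ⟨R', h1, h2⟩ := exists_isSyl hR hRK
  rw [← card_syl M h1]
  exact Nat.le_of_dvd Nat.card_pos (card_dvd_of_le h2)

/-- **`|C_K(e)|₂ = 8`** -/
theorem card_syl_cent {K R : Subgroup G} (M : Lab K) {e : G} (he : e ∈ normalizer (K : Set G))
    (hee : e * e = 1) (he1 : M.φ e ≠ 1) (hR : IsSyl (K ⊓ centralizer ({e} : Set G)) R) :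
    Nat.card ↥R = 8 := by
  have h1 := Subgroup.card_dvd_of_surjective _ (M.homC_surjective he (n := 1) (by
    rw [pow_one, pow_two, hee]))
  have h2 : 8 ∣ Nat.card ↥(K ⊓ centralizer ({e} : Set G)) := by
    refine dvd_trans ?_ h1
    rw [alt_univ]
    exact eight_dvd_cent (M.sq he hee) he1
  have h3 := hR.dvd_card (k := 3) (by norm_num; exact h2)
  have h4 := card_two_le M hR.two (hR.le.trans inf_le_left)
  have h5 : 0 < Nat.card ↥R := Nat.card_pos
  have h6 := Nat.le_of_dvd h5 h3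
  norm_num at h6
  omega

/-- a 2-group acting on `K` acts on the labels as a subgroup of `W0` -/
theorem exists_lab_W0 {K Y : Subgroup G} (M : Lab K) (hY : IsPGroup 2 ↥Y)
    (hYK : Y ≤ normalizer (K : Set G)) : ∃ (M' : Lab K) (g : Perm (Fin 7)),
      (∀ x, M'.φ x = g * M.φ x * g⁻¹) ∧ ∀ y ∈ Y, M'.φ y ∈ W0 := by
  have h2 : IsPGroup 2 ↥((Y.subgroupOf (normalizer (K : Set G))).map M.hom) := by
    refine IsPGroup.map ?_ _
    exact hY.of_injective (subgroupOfEquivOfLe hYK).toMonoidHom (subgroupOfEquivOfLe hYK).injective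
  obtain ⟨g, hg⟩ := exists_conj_W0 _ h2
  obtain ⟨M', hM'⟩ := exists_relabel M g
  refine ⟨M', g, hM', fun y hy => ?_⟩
  rw [hM']
  exact hg _ ⟨⟨y, hYK hy⟩, hy, rfl⟩

/-- a 2-element of `K` with trivial label is trivial -/
theorem eq_one_of_lab {K : Subgroup G} (M : Lab K) {p : G} (hp : p ∈ K) {n : ℕ} (hn : p ^ 2 ^ n = 1)
    (h : M.φ p = 1) : p = 1 := by
  rw [M.core_iff p hp] at h
  exact eq_one_of_mem_core h (n := n) hn

/-- a noncommuting pair in a 2-subgroup of order 8 of `K` -/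
theorem exists_nab {K X : Subgroup G} (M : Lab K) (hX : IsPGroup 2 ↥X) (hXK : X ≤ K)
    (h8 : Nat.card ↥X = 8) : ∃ x ∈ X, ∃ y ∈ X, x * y ≠ y * x := by
  obtain ⟨M', -, -, h1⟩ := exists_lab_W0 M hX (hXK.trans le_normalizer)
  have hP : ∀ x ∈ X, M'.φ x ∈ P0 := by
    intro x hx
    rw [mem_P0]
    refine ⟨h1 x hx, ?_⟩
    have := M'.mem_alt x (hXK hx)
    rwa [alt_univ, mem_alternatingGroup] at this
  let f : ↥X → ↥P0 := fun x => ⟨M'.φ x, hP x x.2⟩
  have hf : Function.Injective f := by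
    intro x y hxy
    have h2 : M'.φ x = M'.φ y := congrArg Subtype.val hxy
    rw [M'.eq_iff (hXK x.2) (hXK y.2)] at h2
    obtain ⟨n, hn⟩ := hX (x⁻¹ * y)
    have h3 : (x : G)⁻¹ * y = 1 := eq_one_of_mem_core h2 (n := n) (congrArg Subtype.val hn)
    exact Subtype.ext (inv_mul_eq_one.1 h3)
  have hb : Function.Bijective f := (Nat.bijective_iff_injective_and_card f).2 ⟨hf, by
    rw [h8, card_P0]⟩
  have key : ∃ a b : DihedralGroup 4, a * b ≠ b * a := by decide
  obtain ⟨a, b, hab⟩ := key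
  obtain ⟨x, hx⟩ := hb.2 ⟨g0 a, g0_mem a⟩
  obtain ⟨y, hy⟩ := hb.2 ⟨g0 b, g0_mem b⟩
  have hx' : M'.φ x = g0 a := congrArg Subtype.val hx
  have hy' : M'.φ y = g0 b := congrArg Subtype.val hy
  refine ⟨x, x.2, y, y.2, fun h => hab ?_⟩
  have h2 := M'.comm (le_normalizer (hXK x.2)) (le_normalizer (hXK y.2)) h
  rw [hx', hy', ← g0_mul, ← g0_mul] at h2
  exact g0_inj h2

end Cfsg.Agent.UGT.A7.B.One
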