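import Cfsg.Agent.UGT.A7.B.TwoMain
import Cfsg.Agent.UGT.A7.B.Cm

/-!
# [A7], beta-branch, the reduction (R) (#14403): counting the members of `U(m)`
-/

set_option autoImplicit false
set_option linter.unusedSectionVars false

open Cfsg Subgroup Equiv Equiv.Perm
open Cfsg.Agent.UAlt
open Cfsg.Agent.SignalizersComponents Cfsg.Agent.Lib
open Cfsg.Agent.SignalizersComponents.IntrinsicBasic
open Cfsg.Agent.Intrinsic.Basic Cfsg.Agent.Intrinsic.Cen Cfsg.Agent.Intrinsic.Diag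
open Cfsg.Agent.McLLyComp.Act
open Cfsg.Agent.UGT.Triple Cfsg.Agent.UGT.TriBase
open Cfsg.Agent.UGT.A7.B Cfsg.Agent.UGT.A7.BW
open scoped commutatorElement

namespace Cfsg.Agent.UGT.A7.BR

universe u

variable {G : Type u} [Group G] [Finite G] {a b c l m s t g e y : G} {L L' N N' K D X Y : Subgroup G}

/-- `U(s)` -/
def US (s : G) : Set (Subgroup G) := {N | Fam s N}

theorem mem_US : N ∈ US s ↔ Fam s N := Iff.rfl

theorem US_cj (g s : G) : US (g * s * g⁻¹) = (cj g) '' US s := by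
  ext N
  constructor
  · intro h
    have h1 := (mem_US.1 h).cj g⁻¹
    have h3 : g⁻¹ * (g * s * g⁻¹) * g⁻¹⁻¹ = s := by group
    rw [h3] at h1
    exact ⟨_, h1, by rw [← cj_mul, mul_inv_cancel, cj_one]⟩
  · rintro ⟨N', h, rfl⟩
    exact (mem_US.1 h).cj g

theorem card_US_cj (g s : G) : (US (g * s * g⁻¹)).ncard = (US s).ncard := by
  rw [US_cj, Set.ncard_image_of_injective _ (cj_injective g)]

theorem up_cj_ne (h : DiagUp a c L N) : cj a N ≠ N := h.ne

theorem trivUp_cj (h : TrivUp a c L N) (g : G) :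
    TrivUp (g * a * g⁻¹) (g * c * g⁻¹) (cj g L) (cj g N) where
  fix := h.fix.cj g
  le := by rw [← cj_cen]; exact cj_mono h.le
  sup := by rw [← cj_cen, core_cj, cj_def, cj_def, cj_def, ← Subgroup.map_sup, h.sup]

theorem diagUp_cj (h : DiagUp a c L N) (g : G) :
    DiagUp (g * a * g⁻¹) (g * c * g⁻¹) (cj g L) (cj g N) where
  ne := by
    intro h1
    apply h.ne
    apply cj_injective g
    rw [← h1, ← cj_mul, ← cj_mul, inv_mul_cancel_right]
  eq := by rw [← cj_cen, h.eq, cj_diag, cj_centralizer]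

/-- **counting**: `𝒮 ⊆ U(l)` fixed by `m`, `𝒴 ⊆ U(m)` closed under `l` and disjoint from the pump-ups of the
members of `𝒮`, `|U(m)| ≤ |𝒮| + |𝒴|`: all pump-ups of the members of `𝒮` are trivial, and together with `𝒴` they
are the members of `U(m)`. -/
theorem count (hF : F1 G) (ll : l * l = 1) (hm : orderOf m = 2) (hml : m * l = l * m)
    {𝒮 𝒴 : Set (Subgroup G)} (hS : ∀ N ∈ 𝒮, Fam l N ∧ Fixes m N) (hY : ∀ Y ∈ 𝒴, Fam m Y)
    (hYc : ∀ Y ∈ 𝒴, cj l Y ∈ 𝒴) (hYn : ∀ N ∈ 𝒮, ∀ Y ∈ 𝒴, ¬ Up l m N Y)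
    (hcard : (US m).ncard ≤ 𝒮.ncard + 𝒴.ncard) :
    (∀ N ∈ 𝒮, ∃ X, Fam m X ∧ TrivUp l m N X) ∧
    (∀ X, Fam m X → X ∈ 𝒴 ∨ ∃ N ∈ 𝒮, TrivUp l m N X) ∧ (US m).ncard = 𝒮.ncard + 𝒴.ncard := by
  classical
  have hmm := sq_of_order hm
  have h1 : ∀ N ∈ 𝒮, ∃ X, Fam m X ∧ Up l m N X := fun N hN =>
    hF l m N (hS N hN).1 hm hml (hS N hN).2
  choose! F hF1 hF2 using h1
  have hinj : Set.InjOn F 𝒮 := by
    intro N hN N' hN' hNN
    exact (hF2 N hN).inj (hF2 N' hN') (hS N hN).1.comp (hS N' hN').1.comp ll hmm hml (hS N hN).2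
      (hS N' hN').2 (hF1 N hN).comp (hF1 N' hN').comp (Or.inl hNN.symm)
  have hdisj : Disjoint (F '' 𝒮) 𝒴 := by
    rw [Set.disjoint_left]
    rintro _ ⟨N, hN, rfl⟩ h
    exact hYn N hN _ h (hF2 N hN)
  have hsub : F '' 𝒮 ∪ 𝒴 ⊆ US m := by
    rintro X (⟨N, hN, rfl⟩ | h)
    · exact hF1 N hN
    · exact hY X h
  have hc : (F '' 𝒮 ∪ 𝒴).ncard = 𝒮.ncard + 𝒴.ncard := by
    rw [Set.ncard_union_eq hdisj (Set.toFinite _) (Set.toFinite _), hinj.ncard_image]
  have heq : F '' 𝒮 ∪ 𝒴 = US m := by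
    apply Set.eq_of_subset_of_ncard_le hsub
    rw [hc]
    exact hcard
  have htriv : ∀ N ∈ 𝒮, TrivUp l m N (F N) := by
    intro N hN
    rcases hF2 N hN with h | h
    · exact h
    · exfalso
      have h2 : cj l (F N) ∈ F '' 𝒮 ∪ 𝒴 := by
        rw [heq]
        exact (hF1 N hN).cj_mem hml.symm
      have hback : cj l (cj l (F N)) = F N := by rw [← cj_mul, ll, cj_one]
      rcases h2 with ⟨N', hN', h3⟩ | h2
      · have h4 : N = N' := (hF2 N hN).inj (hF2 N' hN') (hS N hN).1.comp (hS N' hN').1.comp ll hmm hml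
          (hS N hN).2 (hS N' hN').2 (hF1 N hN).comp (hF1 N' hN').comp (Or.inr h3)
        apply h.ne
        rw [← h3, h4]
      · have h4 := hYc _ h2
        rw [hback] at h4
        exact hYn N hN _ h4 (hF2 N hN)
  refine ⟨fun N hN => ⟨F N, hF1 N hN, htriv N hN⟩, fun X hX => ?_, ?_⟩
  · have h5 : X ∈ F '' 𝒮 ∪ 𝒴 := by rw [heq]; exact hX
    rcases h5 with ⟨N, hN, rfl⟩ | h5
    · exact Or.inr ⟨N, hN, htriv N hN⟩
    · exact Or.inl h5
  · rw [← heq, hc]

/-- an involution of `L` commuting with a 2-group fixing `L` -/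
theorem exists_inv_grp (M : Lab L) {P : Subgroup G} (hP : IsPGroup 2 ↥P) (hPF : ∀ p ∈ P, Fixes p L) :
    ∃ y ∈ L, orderOf y = 2 ∧ ∀ p ∈ P, y * p = p * y := by
  have hPN : P ≤ normalizer (L : Set G) := fun p hp => (hPF p hp).1
  obtain ⟨Q, h1, -, h3, -, h5, h6⟩ := M.exists_group_lift hP hPN (Q₀ := P0)
    (isPGroup_W0.to_le inf_le_left) (by rw [alt_univ]; exact inf_le_right) (by
      intro p hp σ _
      rw [(M.fixes_iff (hPN hp)).2 (hPF p hp), one_mul, mul_one])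
  obtain ⟨q, hq, hφ⟩ := h5 z0 (mem_P0.2 ⟨mem_W0.2 ⟨rfl, by decide⟩, by decide⟩)
  have hqN := le_normalizer (h1 hq)
  have hqq : q * q = 1 := by
    apply h6 _ (mul_mem hq hq)
    rw [M.mul _ _ hqN hqN, hφ]
    decide
  refine ⟨q, h1 hq, orderOf_eq_prime (by rw [pow_two, hqq]) ?_, h3 q hq⟩
  rintro rfl
  rw [M.one] at hφ
  exact absurd hφ (by decide)

/-- an involution of `L` does not fix `L` -/
theorem fam_not_fixes (h : Fam a L) (hl : l ∈ L) (ho : orderOf l = 2) : ¬ Fixes l L := by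
  obtain ⟨M⟩ := h.a7
  intro hf
  have h2 := (M.fixes_iff (le_normalizer hl)).2 hf
  rw [M.core_iff l hl] at h2
  exact ne_one_of_order ho (eq_one_of_mem_core_sq h2 (sq_of_order ho))

/-- the subgroup generated by two commuting involutions -/
theorem isPGroup_pair {p q : G} (hp : p * p = 1) (hq : q * q = 1) (hpq : p * q = q * p) :
    IsPGroup 2 ↥(zpowers p ⊔ zpowers q) := by
  have h1 : ∀ {x : G}, x * x = 1 → IsPGroup 2 ↥(zpowers x) := by
    intro x hx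
    rintro ⟨y, hy⟩
    obtain ⟨k, rfl⟩ := mem_zpowers_iff.1 hy
    refine ⟨1, Subtype.ext ?_⟩
    change (x ^ k) ^ 2 ^ 1 = 1
    rw [pow_one, ← zpow_natCast, ← zpow_mul, mul_comm, zpow_mul, zpow_natCast, pow_two, hx, one_zpow]
  refine (h1 hp).to_sup_of_normal_right' (h1 hq) ?_
  rw [zpowers_le, mem_normalizer_iff_cj, cj_def, MonoidHom.map_zpowers]
  change zpowers (p * q * p⁻¹) = _
  rw [hpq, mul_inv_cancel_right]

/-- an involution of `L` commuting with two commuting involutions fixing `L` -/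
theorem exists_inv_pair (M : Lab L) {p q : G} (hp : p * p = 1) (hq : q * q = 1) (hpq : p * q = q * p)
    (hpL : Fixes p L) (hqL : Fixes q L) : ∃ y ∈ L, orderOf y = 2 ∧ y * p = p * y ∧ y * q = q * y := by
  obtain ⟨y, hy, ho, hc⟩ := exists_inv_grp M (isPGroup_pair hp hq hpq) (by
    intro x hx
    have h1 : zpowers p ⊔ zpowers q ≤ fix ⊤ L := by
      refine sup_le ?_ ?_
      · rw [zpowers_le]; exact mem_fix.2 ⟨mem_top p, hpL⟩
      · rw [zpowers_le]; exact mem_fix.2 ⟨mem_top q, hqL⟩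
    exact (mem_fix.1 (h1 hx)).2)
  exact ⟨y, hy, ho, hc p (mem_sup_left (mem_zpowers p)), hc q (mem_sup_right (mem_zpowers q))⟩

end Cfsg.Agent.UGT.A7.BR
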