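import Cfsg.Agent.UGT.A7.B.RedThree
import Cfsg.Agent.UGT.A7.B.RedWitDef

/-!
# [A7], beta-branch, the reduction (R) (#14403): the choice of `a`, (R5), `Reduction G` from (R4)
-/

set_option autoImplicit false
set_option linter.unusedSectionVars false

open Cfsg Subgroup Equiv Equiv.Perm
open Cfsg.Agent.UAlt
open Cfsg.Agent.SignalizersComponents Cfsg.Agent.Lib
open Cfsg.Agent.SignalizersComponents.IntrinsicBasic
open Cfsg.Agent.Intrinsic.Basic Cfsg.Agent.Intrinsic.Cen Cfsg.Agent.Intrinsic.Diag
open Cfsg.Agent.McLLyComp.Act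
open Cfsg.Agent.UGT.Triple Cfsg.Agent.UGT.TriBase
open Cfsg.Agent.UGT.A7.B Cfsg.Agent.UGT.A7.BW
open Cfsg.Agent.UGT.TMCSyl (tp card_le_tp exists_syl)
open scoped commutatorElement

namespace Cfsg.Agent.UGT.A7.BR

universe u

variable {G : Type u} [Group G] [Finite G] {a b c l m s t g e y : G}
  {L L' N N' K D X Y Ki Kj K₁ K₂ : Subgroup G}

theorem card_syl {E R : Subgroup G} (h : IsSyl E R) : Nat.card ↥R = tp E := by
  obtain ⟨Q, h1, h2, h3, -⟩ := exists_syl E
  obtain ⟨g, -, h4⟩ := h.conj h2 h1
  apply le_antisymm (card_le_tp h.two h.le)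
  rw [← h3, ← card_cj g R]
  exact Subgroup.card_le_of_le h4

theorem FS_le (b : G) : BW.FS (G := G) Fam b ≤ centralizer ({b} : Set G) := fun _ hg =>
  mem_c (BW.mem_FS.1 hg).1

theorem card_syl_FS (W : Wo (Fam (G := G))) {T : Subgroup G} (hT : IsSyl (centralizer ({b} : Set G)) T) :
    Nat.card ↥(T ⊓ BW.FS Fam b) = tp (BW.FS Fam b) := by
  refine card_syl (hT.inf (FS_le b) fun g hg => ?_)
  have h1 : g * b = b * g := comm_c hg
  rw [mem_normalizer_iff_cj, W.cj_FS, h1, mul_inv_cancel_right]

/-- the choice of `a` -/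
theorem exists_choice (c q t : G → ℕ) : ∃ a : G, (∀ b, c b ≤ c a) ∧ (∀ b, c b = c a → q b ≤ q a) ∧
    (∀ b, c b = c a → q b = q a → t b ≤ t a) := by
  obtain ⟨s, hs⟩ := Finite.exists_max c
  have i1 : Nonempty {b : G // c b = c s} := ⟨⟨s, rfl⟩⟩
  obtain ⟨⟨r, hr⟩, hr'⟩ := Finite.exists_max (fun b : {b : G // c b = c s} => q b)
  have i2 : Nonempty {b : G // c b = c s ∧ q b = q r} := ⟨⟨r, hr, rfl⟩⟩
  obtain ⟨⟨a, ha1, ha2⟩, ha'⟩ := Finite.exists_max (fun b : {b : G // c b = c s ∧ q b = q r} => t b)
  refine ⟨a, fun b => ?_, fun b hb => ?_, fun b hb hb' => ?_⟩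
  · rw [ha1]; exact hs b
  · rw [ha2]; exact hr' ⟨b, hb.trans ha1⟩
  · exact ha' ⟨b, hb.trans ha1, hb'.trans ha2⟩

/-- (X_i): `a` normalizes the members of `U(l)` -/
theorem wit (R : Rd a) (h2 : 2 ≤ (US a).ncard) (hK : Fam a K) (hl : l ∈ K) (ho : orderOf l = 2)
    (hc : (US l).ncard = (US a).ncard) : Wit a l K where
  fam := hK
  mem := hl
  ord := ho
  max := R.max
  card := hc
  two := h2
  norm := by
    classical
    intro N hN
    rw [mem_normalizer_iff_cj]
    by_contra hne
    have aa := hK.aa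
    have hla : l * a = a * l := comm_c (hK.comp.le hl)
    have hback : cj a (cj a N) = N := by rw [← cj_mul, aa, cj_one]
    have hN' : Fam l (cj a N) := hN.cj_mem hla.symm
    have hS : (US a \ {K}).ncard + 1 = (US a).ncard :=
      Set.ncard_sdiff_singleton_add_one (show K ∈ US a from hK) (Set.toFinite _)
    have hcardY : ({N, cj a N} : Set (Subgroup G)).ncard = 2 := Set.ncard_pair (Ne.symm hne)
    obtain ⟨-, -, h3⟩ := count (𝒮 := US a \ {K}) (𝒴 := {N, cj a N}) R.hF aa ho hla
      (fun K' hK' => ⟨hK'.1, hK'.1.comp.fixes_of_mem hK.comp hK'.2 hl⟩)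
      (by
        rintro Y (rfl | rfl)
        · exact hN
        · exact hN')
      (by
        rintro Y (rfl | rfl)
        · exact Or.inr rfl
        · exact Or.inl hback)
      (by
        intro K' hK' Y hY hup
        have hY' : Fam l Y := by
          rcases hY with rfl | rfl
          · exact hN
          · exact hN'
        rcases hup with h | h
        · have h4 := mem_normalizer_iff_cj.1 h.fix.1
          rcases hY with rfl | rfl
          · exact hne h4
          · rw [hback] at h4
            exact hne h4.symm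
        · exact no_diag R hK hK'.1 hK'.2 hl ho hY' h)
      (by omega)
    omega

/-- **the reduction**, from (R4) -/
theorem reduction_of (h4 : F1 G → ∀ (t l : G) (K : Subgroup G), Wit t l K → ∃ D : Set G, AA D) :
    Reduction G := by
  classical
  intro hF hW hD hs
  obtain ⟨s, hs⟩ := hs
  have W := wo_fam hF hD
  obtain ⟨a, m1, m2, m3⟩ := exists_choice (G := G) (fun b => (US b).ncard) (fun b => tp (BW.FS Fam b))
    (fun b => tp (centralizer ({b} : Set G)))
  have h2 : 2 ≤ (US a).ncard := le_trans hs (m1 s)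
  have R : Rd a := ⟨hF, m1, fun b hb T T' hT hT' => by
    rw [card_syl_FS W hT, card_syl_FS W hT']
    exact m2 b hb⟩
  by_cases hX : ∃ K, Fam a K ∧ ∃ l ∈ K, orderOf l = 2 ∧ (US l).ncard = (US a).ncard
  · obtain ⟨K, hK, l, hl, ho, hc⟩ := hX
    exact Or.inl (h4 hF a l K (wit R h2 hK hl ho hc))
  · push Not at hX
    by_cases h3 : 3 ≤ (US a).ncard
    · exact Or.inl ⟨_, aa3 R h3 hX⟩
    · right
      have h5 : (US a).ncard = 2 := by omega
      obtain ⟨K₁, K₂, hne, hKK⟩ := Set.ncard_eq_two.1 h5
      have f1 : Fam a K₁ := by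
        have : K₁ ∈ US a := by rw [hKK]; exact Or.inl rfl
        exact this
      have f2 : Fam a K₂ := by
        have : K₂ ∈ US a := by rw [hKK]; exact Or.inr rfl
        exact this
      refine ⟨a, K₁, K₂, f1, f2, hne, fun s => ?_, ?_, ?_⟩
      · have := m1 s
        change (US s).ncard ≤ 2
        omega
      · intro i hi l hl ho
        have hi' : Fam a i := by
          rcases hi with rfl | rfl
          · exact f1
          · exact f2
        have h6 := (members R hi' hl ho (hX i hi' l hl ho)).2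
        change (US l).ncard = 1
        omega
      · intro b hb T T' Q Q' hT hT' hQ hQ'
        have e1 : Q = T ⊓ BW.FS Fam a := by
          ext q
          rw [hQ]
          exact Iff.rfl
        have e2 : Q' = T' ⊓ BW.FS Fam b := by
          ext q
          rw [hQ']
          exact Iff.rfl
        have hb' : (US b).ncard = (US a).ncard := hb.trans h5.symm
        have m2' := m2 b hb'
        have m3' := m3 b hb'
        rw [e1, e2, card_syl_FS W hT, card_syl_FS W hT', card_syl hT, card_syl hT']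
        rcases lt_or_eq_of_le m2' with h7 | h7
        · exact Or.inl h7
        · exact Or.inr ⟨h7, m3' h7⟩

end Cfsg.Agent.UGT.A7.BR
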