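import Cfsg.Agent.UGT.A7.B.RedBase
import Cfsg.Agent.UGT.A7.Star7

/-!
# [A7], beta-branch, the reduction (R) (#14403): (R1), no diagonal pump-ups of the `K_j` at the involutions of `K_i`
-/

set_option autoImplicit false
set_option linter.unusedSectionVars false

open Cfsg Subgroup Equiv Equiv.Perm
open Cfsg.Agent.UAlt
open Cfsg.Agent.SignalizersComponents Cfsg.Agent.Lib
open Cfsg.Agent.SignalizersComponents.IntrinsicBasic
open Cfsg.Agent.Intrinsic.Basic Cfsg.Agent.Intrinsic.Cen Cfsg.Agent.Intrinsic.Diag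
open Cfsg.Agent.McLLyComp.Act
open Cfsg.Agent.UGT.Triple Cfsg.Agent.UGT.TriBase
open Cfsg.Agent.UGT.A7.B Cfsg.Agent.UGT.A7.BW
open scoped commutatorElement

namespace Cfsg.Agent.UGT.A7.BR

universe u

variable {G : Type u} [Group G] [Finite G] {a b c l m s t g e y : G} {L L' N N' K D X Y Ki Kj : Subgroup G}

/-- the element `a` of the reduction: `|U(a)|` is maximal, `|Q_a|` is maximal among these -/
structure Rd (a : G) : Prop where
  hF : F1 G
  max : ∀ s : G, (US s).ncard ≤ (US a).ncard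
  qmax : ∀ b : G, (US b).ncard = (US a).ncard → ∀ T T' : Subgroup G,
    IsSyl (centralizer ({a} : Set G)) T → IsSyl (centralizer ({b} : Set G)) T' →
    Nat.card ↥(T' ⊓ BW.FS Fam b) ≤ Nat.card ↥(T ⊓ BW.FS Fam a)

/-- (R1) for `l` central in `T ∩ K_i` -/
theorem no_diag_aux (R : Rd a) {T : Subgroup G} (hT : IsSyl (centralizer ({a} : Set G)) T)
    (hi : Fam a Ki) (hj : Fam a Kj) (hne : Kj ≠ Ki) (hlK : l ∈ Ki) (hlT : l ∈ T) (ho : orderOf l = 2)
    (hcen : ∀ p ∈ T ⊓ Ki, l * p = p * l) (hN : Fam l N) : ¬ DiagUp a l Kj N := by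
  classical
  intro hd
  have aa := hi.aa
  have ll := sq_of_order ho
  have hla : l * a = a * l := comm_c (hi.comp.le hlK)
  have hlF : ∀ K, Fam a K → K ≠ Ki → Fixes l K := fun K hK hn => hK.comp.fixes_of_mem hi.comp hn hlK
  have hback : cj a (cj a N) = N := by rw [← cj_mul, aa, cj_one]
  have hN' : Fam l (cj a N) := hN.cj_mem hla.symm
  -- the members of `U(l)`
  obtain ⟨hc1, hc2⟩ : (∀ X, Fam l X → (X = N ∨ X = cj a N) ∨ ∃ K, Fam a K ∧ K ≠ Ki ∧ TrivUp a l K X) ∧
      (US l).ncard = (US a).ncard := by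
    have hcardS : ((US a \ {Ki}) \ {Kj}).ncard + 2 = (US a).ncard := by
      have h1 : Kj ∈ US a \ {Ki} := ⟨hj, hne⟩
      rw [Set.ncard_sdiff_singleton_of_mem h1, Set.ncard_sdiff_singleton_of_mem (show Ki ∈ US a from hi)]
      have h2 : 0 < (US a \ {Ki}).ncard := (Set.ncard_pos (Set.toFinite _)).2 ⟨Kj, h1⟩
      rw [Set.ncard_sdiff_singleton_of_mem (show Ki ∈ US a from hi)] at h2
      omega
    have hcardY : ({N, cj a N} : Set (Subgroup G)).ncard = 2 := Set.ncard_pair hd.ne.symm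
    obtain ⟨-, h2, h3⟩ := count (𝒮 := (US a \ {Ki}) \ {Kj}) (𝒴 := {N, cj a N}) R.hF aa ho hla
      (fun K hK => ⟨hK.1.1, hlF K hK.1.1 hK.1.2⟩)
      (by
        rintro Y (rfl | rfl)
        · exact hN
        · exact hN')
      (by
        rintro Y (rfl | rfl)
        · exact Or.inr rfl
        · exact Or.inl hback)
      (by
        intro K hK Y hY hup
        apply hK.2
        refine (hup.inj (Or.inr hd) hK.1.1.comp hj.comp aa ll hla (hlF K hK.1.1 hK.1.2) (hlF Kj hj hne)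
          (N := Y) (N' := N) ?_ hN.comp ?_)
        · rcases hY with rfl | rfl
          · exact hN.comp
          · exact hN'.comp
        · rcases hY with rfl | rfl
          · exact Or.inl rfl
          · exact Or.inr hback.symm)
      (by have := R.max l; omega)
    refine ⟨fun X hX => ?_, by omega⟩
    rcases h2 X hX with h4 | ⟨K, hK, h4⟩
    · exact Or.inl h4
    · exact Or.inr ⟨K, hK.1.1, hK.1.2, h4⟩
  -- elements fixing the members of `U(a)` different from `K_i`, and `N`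
  have hβ : ∀ g, g * a = a * g → g * l = l * g → (∀ K, Fam a K → K ≠ Ki → Fixes g K) → cj g N = N →
      g ∈ BW.FS Fam l := by
    intro g hga hgl hg hgN
    have h1 : Fixes g N := Mu.fixes_of_diag hj.comp aa ll hla (hlF Kj hj hne) hN.comp hd.ne hd.eq
      (hg Kj hj hne) hgl hga (mem_normalizer_iff_cj.2 hgN)
    refine BW.mem_FS.2 ⟨hgl, fun X hX => ?_⟩
    rcases hc1 X hX with (rfl | rfl) | ⟨K, hK, hn, ht⟩
    · exact h1
    · have h2 := h1.cj a
      rwa [← hga, mul_inv_cancel_right] at h2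
    · exact ht.fixes hK.comp ll hla (hlF K hK hn) hX.comp (hg K hK hn) hgl
  have hQT : ∀ q ∈ T ⊓ BW.FS Fam a, q * a = a * q ∧ q * l = l * q := fun q hq =>
    ⟨(BW.mem_FS.1 hq.2).1, W2.comm_of_fixes hT.two hq.1 ((BW.mem_FS.1 hq.2).2 Ki hi) hlK hlT⟩
  have hγ : ∀ q ∈ T ⊓ BW.FS Fam a, orderOf q = 2 → cj q N ≠ N := by
    intro q hq hq2 hqN
    obtain ⟨hqa, hql⟩ := hQT q hq
    have hqF := (BW.mem_FS.1 hq.2).2
    have h1 := hβ q hqa hql (fun K hK _ => hqF K hK) hqN
    have h2 := cm_symm R.hF (a := l) (fun s => by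
      have := R.max s
      rw [← hc2] at this
      exact this) ll hq2 hql (BW.mem_FS.1 h1).2
    obtain ⟨Y, hY, ht⟩ := (cm R.hF R.max aa hq2 hqa hqF).1 Ki hi
    have h3 := (ht.fixes_iff hi.comp aa (sq_of_order hq2) hqa (hqF Ki hi) hY.comp hla hql.symm).2 (h2 Y hY)
    exact fam_not_fixes hi hlK ho h3
  have haQ : a ∈ T ⊓ BW.FS Fam a :=
    ⟨mem_of_comm hT (mem_centralizer_singleton_iff.2 rfl) (fun s hs => (comm_c (hT.le hs)).symm) aa,
      BW.mem_FS.2 ⟨rfl, fun L hL => hL.fixes⟩⟩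
  have hor : ∀ q ∈ T ⊓ BW.FS Fam a, cj q N = N ∨ cj q N = cj a N := by
    intro q hq
    obtain ⟨hqa, hql⟩ := hQT q hq
    exact Mu.cj_or aa hla hN.comp hd.ne hd.eq ((BW.mem_FS.1 hq.2).2 Kj hj).1 hql hqa
  have hδ : ∀ q ∈ T ⊓ BW.FS Fam a, orderOf q = 2 → q = a := by
    intro q hq hq2
    by_contra hqa'
    obtain ⟨hqa, hql⟩ := hQT q hq
    have hqq := sq_of_order hq2
    have h1 := (hor q hq).resolve_left (hγ q hq hq2)
    have h2 : cj (a * q) N = N := by rw [cj_mul, h1, hback]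
    refine hγ (a * q) (mul_mem haQ hq) (orderOf_eq_prime ?_ ?_) h2
    · rw [pow_two]
      calc a * q * (a * q) = a * (q * a) * q := by group
        _ = a * (a * q) * q := by rw [hqa]
        _ = (a * a) * (q * q) := by group
        _ = 1 := by rw [aa, hqq, one_mul]
    · intro h3
      apply hqa'
      rw [← inv_eq_of_mul_eq_one_right h3]
      exact inv_eq_of_mul_eq_one_left aa
  have hε : ∀ q ∈ T ⊓ BW.FS Fam a, q = 1 ∨ q = a := by
    intro q hq
    by_cases hqq : q * q = 1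
    · rcases W2.inv_cases hqq with h | h
      · exact Or.inl h
      · exact Or.inr (hδ q hq h)
    · exfalso
      obtain ⟨n, hn, hn1⟩ := exists_invol hT.two (mul_mem hq.1 hq.1) hqq
      have h1 : (q * q) ^ n = q ^ n * q ^ n := (Commute.refl q).mul_pow n
      have hr := pow_mem hq n
      have h2 := hδ (q ^ n * q ^ n) (mul_mem hr hr) (by
        rw [← h1]
        exact orderOf_eq_prime (by rw [pow_two, hn]) hn1)
      apply hd.ne
      rw [← h2, cj_mul]
      rcases hor _ hr with h3 | h3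
      · rw [h3, h3]
      · rw [h3, ← cj_mul, (hQT _ hr).1, cj_mul, h3, hback]
  have hcQ : Nat.card ↥(T ⊓ BW.FS Fam a) ≤ 2 := by
    have h1 : Function.Injective (fun q : ↥(T ⊓ BW.FS Fam a) => (decide ((q : G) = 1) : Bool)) := by
      intro q q' h
      have h5 : ((q : G) = 1) ↔ ((q' : G) = 1) := by simpa using h
      apply Subtype.ext
      rcases hε q q.2 with h6 | h6 <;> rcases hε q' q'.2 with h7 | h7
      · exact h6.trans h7.symm
      · exact absurd ((h5.1 h6).symm.trans h7) hi.ne_one.symm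
      · exact absurd ((h5.2 h7).symm.trans h6) hi.ne_one.symm
      · exact h6.trans h7.symm
    have h2 := Nat.card_le_card_of_injective _ h1
    simpa using h2
  -- a subgroup of order `≥ 4` of `F(l)`
  obtain ⟨Mi⟩ := hi.a7
  have hPs := inf_subnormal hT hi.comp.le hi.comp.2.1
  have hP8 := syl8 Mi hPs
  obtain ⟨A, hA⟩ : ∃ A : Subgroup G, A = (T ⊓ Ki) ⊓ normalizer (N : Set G) := ⟨_, rfl⟩
  have hAP : A ≤ T ⊓ Ki := hA ▸ inf_le_left
  have hPo : ∀ p ∈ T ⊓ Ki, cj p N = N ∨ cj p N = cj a N := by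
    intro p hp
    exact Mu.cj_or aa hla hN.comp hd.ne hd.eq (hj.comp.fixes_of_mem hi.comp hne hp.2).1 (hcen p hp).symm
      (comm_c (hi.comp.le hp.2))
  have hA4 : 4 ≤ Nat.card ↥A := by
    by_cases h : ∃ w ∈ T ⊓ Ki, w ∉ A
    · obtain ⟨w, hw, hwA⟩ := h
      have key : ∀ b ∈ T ⊓ Ki, b ∉ A → cj b N = cj a N := by
        intro b hb hbA
        refine (hPo b hb).resolve_left fun h1 => hbA ?_
        rw [hA]
        exact ⟨hb, mem_normalizer_iff_cj.2 h1⟩
      have h1 := card_two hAP hw hwA (by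
        intro b hb hbA
        rw [hA]
        refine ⟨mul_mem hb hw, mem_normalizer_iff_cj.2 ?_⟩
        have hba : b * a = a * b := comm_c (hi.comp.le hb.2)
        rw [cj_mul, key w hw hwA, ← cj_mul, hba, cj_mul, key b hb hbA, hback])
      omega
    · push Not at h
      have h1 : A = T ⊓ Ki := le_antisymm hAP h
      rw [h1, hP8]
      norm_num
  have hAF : A ≤ BW.FS Fam l := by
    intro p hp
    rw [hA] at hp
    exact hβ p (comm_c (hi.comp.le hp.1.2)) (hcen p hp.1).symm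
      (fun K hK hn => hK.comp.fixes_of_mem hi.comp hn hp.1.2) (mem_normalizer_iff_cj.1 hp.2)
  obtain ⟨T', hT', hAT'⟩ := exists_isSyl (E := centralizer ({l} : Set G)) (R₀ := A)
    (hT.two.to_le (hAP.trans inf_le_left)) (fun p hp => mem_c (BW.mem_FS.1 (hAF hp)).1)
  have h1 := R.qmax l hc2 T T' hT hT'
  have h2 : Nat.card ↥A ≤ Nat.card ↥(T' ⊓ BW.FS Fam l) :=
    Subgroup.card_le_of_le (le_inf hAT' hAF)
  omega

/-- **(R1)** -/
theorem no_diag (R : Rd a) (hi : Fam a Ki) (hj : Fam a Kj) (hne : Kj ≠ Ki) (hlK : l ∈ Ki)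
    (ho : orderOf l = 2) (hN : Fam l N) : ¬ DiagUp a l Kj N := by
  intro hd
  obtain ⟨T, hT, -⟩ := exists_isSyl (E := centralizer ({a} : Set G)) (R₀ := ⊥) (IsPGroup.of_bot) bot_le
  have hPs := inf_subnormal hT hi.comp.le hi.comp.2.1
  obtain ⟨Mi⟩ := hi.a7
  obtain ⟨z, E⟩ := syl_eightS Mi hPs
  obtain ⟨k, hk, hkl⟩ := exists_conj_inv hi.a7 hlK E.mem.2 (sq_of_order ho) E.sq (ne_one_of_order ho) E.ne
  have h1 := diagUp_cj hd k
  have hka : k * a = a * k := comm_c (hi.comp.le hk)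
  have hkj : cj k Kj = Kj := mem_normalizer_iff_cj.1 (hj.comp.fixes_of_mem hi.comp hne hk).1
  rw [hkl, hka, mul_inv_cancel_right, hkj] at h1
  have h2 := hN.cj k
  rw [hkl] at h2
  exact no_diag_aux R hT hi hj hne E.mem.2 E.mem.1 (orderOf_eq_prime (by rw [pow_two, E.sq]) E.ne)
    (fun p hp => E.cen p hp) h2 h1

/-- the pump-ups of `K_j` at the involutions of `K_i` are trivial -/
theorem triv (R : Rd a) (hi : Fam a Ki) (hj : Fam a Kj) (hne : Kj ≠ Ki) (hlK : l ∈ Ki)
    (ho : orderOf l = 2) : ∃ N, Fam l N ∧ TrivUp a l Kj N := by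
  obtain ⟨N, hN, h | h⟩ := R.hF a l Kj hj ho (comm_c (hi.comp.le hlK)) (hj.comp.fixes_of_mem hi.comp hne hlK)
  · exact ⟨N, hN, h⟩
  · exact absurd h (no_diag R hi hj hne hlK ho hN)

end Cfsg.Agent.UGT.A7.BR
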