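import Cfsg.Agent.UGT.A7.B.RedOne

/-!
# [A7], beta-branch, the reduction (R) (#14403): (R2), (R3)
-/

set_option autoImplicit false
set_option linter.unusedSectionVars false

open Cfsg Subgroup Equiv Equiv.Perm
open Cfsg.Agent.UAlt
open Cfsg.Agent.SignalizersComponents Cfsg.Agent.Lib
open Cfsg.Agent.SignalizersComponents.IntrinsicBasic
open Cfsg.Agent.Intrinsic.Basic Cfsg.Agent.Intrinsic.Cen Cfsg.Agent.Intrinsic.Diag
open Cfsg.Agent.McLLyComp.Act
open Cfsg.Agent.UGT.Triple Cfsg.Agent.UGT.TriBase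
open Cfsg.Agent.UGT.A7.B Cfsg.Agent.UGT.A7.BW
open scoped commutatorElement

namespace Cfsg.Agent.UGT.A7.BR

universe u

variable {G : Type u} [Group G] [Finite G] {a b c l m s t g e y : G}
  {L L' N N' K D X Y Ki Kj K₁ K₂ : Subgroup G}

/-- trivial pump-ups are unique -/
theorem triv_unique (h : TrivUp a l K N) (h' : TrivUp a l K N') (hK : Fam a K) (hla : l * a = a * l)
    (ll : l * l = 1) (hf : Fixes l K) (hN : Fam l N) (hN' : Fam l N') : N = N' :=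
  (isComp_cen hK.comp (mem_c hla) ll hf).1.unique hN.comp hN'.comp h.le h'.le

/-- the members of `U(l)` for `l ∈ K_i` in the case (E_i) -/
theorem members (R : Rd a) (hi : Fam a Ki) (hl : l ∈ Ki) (ho : orderOf l = 2)
    (hE : (US l).ncard ≠ (US a).ncard) :
    (∀ X, Fam l X → ∃ K, Fam a K ∧ K ≠ Ki ∧ TrivUp a l K X) ∧ (US l).ncard + 1 = (US a).ncard := by
  classical
  have hla : l * a = a * l := comm_c (hi.comp.le hl)
  have hS : (US a \ {Ki}).ncard + 1 = (US a).ncard :=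
    Set.ncard_sdiff_singleton_add_one (show Ki ∈ US a from hi) (Set.toFinite _)
  have hmax := R.max l
  obtain ⟨-, h2, h3⟩ := count (𝒮 := US a \ {Ki}) (𝒴 := ∅) R.hF hi.aa ho hla
    (fun K hK => ⟨hK.1, hK.1.comp.fixes_of_mem hi.comp hK.2 hl⟩) (fun Y hY => absurd hY (Set.notMem_empty _))
    (fun Y hY => absurd hY (Set.notMem_empty _)) (fun _ _ Y hY => absurd hY (Set.notMem_empty _))
    (by rw [Set.ncard_empty]; omega)
  rw [Set.ncard_empty] at h3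
  refine ⟨fun X hX => ?_, by omega⟩
  rcases h2 X hX with h4 | ⟨K, hK, h4⟩
  · exact absurd h4 (Set.notMem_empty _)
  · exact ⟨K, hK.1, hK.2, h4⟩

/-- `l ∈ K₁`, `m ∈ K₂` commuting, `K ≠ K₁, K₂`: the pump-up of `K_l` at `m` is `K_m` -/
theorem triv_trans (hF : F1 G) (h₁ : Fam a K₁) (h₂ : Fam a K₂) (hK : Fam a K) (hn1 : K ≠ K₁) (hn2 : K ≠ K₂)
    (hl : l ∈ K₁) (hm : m ∈ K₂) (ho : orderOf l = 2) (hm2 : orderOf m = 2) (hml : m * l = l * m)
    (hN : Fam l N) (hX : Fam m X) (hfN : Fixes m N) (tN : TrivUp a l K N) (tX : TrivUp a m K X) :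
    TrivUp l m N X := by
  have ll := sq_of_order ho
  have mm := sq_of_order hm2
  have hla : l * a = a * l := comm_c (h₁.comp.le hl)
  have hma : m * a = a * m := comm_c (h₂.comp.le hm)
  have hlK := hK.comp.fixes_of_mem h₁.comp hn1 hl
  have hmK := hK.comp.fixes_of_mem h₂.comp hn2 hm
  obtain ⟨M⟩ := hK.a7
  obtain ⟨y, hy, hy2, hyl, hym⟩ := exists_inv_pair M ll mm hml.symm hlK hmK
  have yy := sq_of_order hy2
  have hyN : y ∈ N := tN.le (mem_cen_of_sq hy hyl yy)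
  have hyX : y ∈ X := tX.le (mem_cen_of_sq hy hym yy)
  have hlX : Fixes l X := tX.fixes hK.comp mm hma hmK hX.comp hlK hml.symm
  have hlX' := mem_normalizer_iff_cj.1 hlX.1
  obtain ⟨X', hX', hup⟩ := hF l m N hN hm2 hml hfN
  have h3 := Up.moved hup ll hml.symm hX'.comp hX.comp (mem_cen_of_sq hyN hym yy)
    (fam_not_fixes hX hyX hy2)
  rcases h3 with rfl | ⟨hd, h3⟩
  · rcases hup with h | h
    · exact h
    · exact absurd hlX' h.ne
  · exfalso
    apply hd.ne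
    have h4 : cj l (cj l X') = X' := by rw [← cj_mul, ll, cj_one]
    rw [← h3, ← hlX', h3, h4]

/-- the claims of (A1) for `e`, `N ∈ U(e)` and the involution `m` of `N` -/
structure Cl (D : Set G) (e : G) (N : Subgroup G) (m : G) : Prop where
  mem : m ∈ D
  star : ∃ X, Fam m X ∧ e ∈ X
  triv : ∀ N', Fam e N' → N' ≠ N → ∃ X, Fam m X ∧ TrivUp e m N' X
  all : ∀ X, Fam m X → e ∈ X ∨ ∃ N', Fam e N' ∧ N' ≠ N ∧ TrivUp e m N' X

theorem conj_back (g s : G) : g * (g⁻¹ * s * g⁻¹⁻¹) * g⁻¹ = s := by group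

theorem cj_back (g : G) (N : Subgroup G) : cj g (cj g⁻¹ N) = N := by
  rw [← cj_mul, mul_inv_cancel, cj_one]

theorem Cl.cj {D : Set G} (hD : ∀ e ∈ D, ∀ g : G, g * e * g⁻¹ ∈ D) (h : Cl D e N m) (g : G) :
    Cl D (g * e * g⁻¹) (IntrinsicBasic.cj g N) (g * m * g⁻¹) where
  mem := hD m h.mem g
  star := by
    obtain ⟨X, hX, he⟩ := h.star
    exact ⟨IntrinsicBasic.cj g X, hX.cj g, conj_mem_cj he⟩
  triv := by
    intro N' hN' hne
    have h1 : Fam e (IntrinsicBasic.cj g⁻¹ N') := by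
      have h2 := hN'.cj g⁻¹
      rwa [show g⁻¹ * (g * e * g⁻¹) * g⁻¹⁻¹ = e by group] at h2
    obtain ⟨X, hX, hT⟩ := h.triv _ h1 (by
      rintro rfl
      exact hne (cj_back g N').symm)
    refine ⟨IntrinsicBasic.cj g X, hX.cj g, ?_⟩
    have h3 := trivUp_cj hT g
    rwa [cj_back] at h3
  all := by
    intro X hX
    have h1 : Fam m (IntrinsicBasic.cj g⁻¹ X) := by
      have h2 := hX.cj g⁻¹
      rwa [show g⁻¹ * (g * m * g⁻¹) * g⁻¹⁻¹ = m by group] at h2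
    rcases h.all _ h1 with h2 | ⟨N', hN', hne, hT⟩
    · left
      have h3 := conj_mem_cj (g := g) h2
      rwa [cj_back] at h3
    · right
      refine ⟨IntrinsicBasic.cj g N', hN'.cj g, fun h4 => hne (cj_injective g h4), ?_⟩
      have h3 := trivUp_cj hT g
      rwa [cj_back] at h3

/-- (A1) from the claims -/
theorem a1_of_cl {D : Set G} (hD : ∀ e ∈ D, ∀ g : G, g * e * g⁻¹ ∈ D) (hinv : ∀ e ∈ D, orderOf e = 2)
    (hfam : ∀ e ∈ D, ∃ N, Fam e N)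
    (hcl : ∀ e ∈ D, ∀ N, Fam e N → ∀ m ∈ N, orderOf m = 2 → Cl D e N m) : A1 D where
  conj := hD
  inv := hinv
  fam := hfam
  mem := fun e he N hN m hm ho => (hcl e he N hN m hm ho).mem
  star := fun e he N hN m hm ho => (hcl e he N hN m hm ho).star
  triv := fun e he N N' hN hN' hne m hm ho => (hcl e he N hN m hm ho).triv N' hN' hne
  all := fun e he N hN m hm ho => (hcl e he N hN m hm ho).all

/-- the claims for one involution of `N` imply the claims for all -/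
theorem cl_of_one {D : Set G} (hD : ∀ e ∈ D, ∀ g : G, g * e * g⁻¹ ∈ D) (hN : Fam e N) {m' : G}
    (hm' : m' ∈ N) (ho' : orderOf m' = 2) (h : Cl D e N m') (hm : m ∈ N) (ho : orderOf m = 2) :
    Cl D e N m := by
  obtain ⟨k, hk, hkm⟩ := exists_conj_inv hN.a7 hm' hm (sq_of_order ho') (sq_of_order ho)
    (ne_one_of_order ho') (ne_one_of_order ho)
  have h1 := h.cj hD k
  have hke : k * e = e * k := comm_c (hN.comp.le hk)
  rwa [hkm, hke, mul_inv_cancel_right, cj_eq_self_of_mem hk] at h1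

/-- the set `D` of (R3) -/
def D3 (a : G) : Set G := {e | ∃ (g : G) (K : Subgroup G) (l : G), Fam a K ∧ l ∈ K ∧ orderOf l = 2 ∧
  e = g * l * g⁻¹}

theorem D3_conj (a : G) : ∀ e ∈ D3 a, ∀ g : G, g * e * g⁻¹ ∈ D3 a := by
  rintro _ ⟨k, K, l, hK, hl, ho, rfl⟩ g
  exact ⟨g * k, K, l, hK, hl, ho, by group⟩

/-- the claims for `l ∈ K₁`, `N = (K₂)_l`, `m ∈ K₂ ∩ C(l)` -/
theorem cl3 (R : Rd a) (hE : ∀ K, Fam a K → ∀ l ∈ K, orderOf l = 2 → (US l).ncard ≠ (US a).ncard)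
    (h₁ : Fam a K₁) (h₂ : Fam a K₂) (hne : K₂ ≠ K₁) (hl : l ∈ K₁) (ho : orderOf l = 2)
    (hm : m ∈ K₂) (hm2 : orderOf m = 2) (hml : m * l = l * m) (hN : Fam l N) (tN : TrivUp a l K₂ N) :
    Cl (D3 a) l N m := by
  have ll := sq_of_order ho
  have mm := sq_of_order hm2
  have hla : l * a = a * l := comm_c (h₁.comp.le hl)
  have hma : m * a = a * m := comm_c (h₂.comp.le hm)
  have hmN : m ∈ N := tN.le (mem_cen_of_sq hm hml mm)
  have hlK₂ := h₂.comp.fixes_of_mem h₁.comp hne hl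
  -- members `N' ≠ N`
  have key : ∀ K N' X, Fam a K → K ≠ K₁ → K ≠ K₂ → Fam l N' → Fam m X → TrivUp a l K N' →
      TrivUp a m K X → N' ≠ N ∧ TrivUp l m N' X := by
    intro K N' X hK hn1 hn2 hN' hX t1 t2
    have hne' : N' ≠ N := by
      rintro rfl
      exact hn2 (Up.inj (Or.inl t1) (Or.inl tN) hK.comp h₂.comp h₁.aa ll hla
        (hK.comp.fixes_of_mem h₁.comp hn1 hl) hlK₂ hN'.comp hN'.comp (Or.inl rfl))
    exact ⟨hne', triv_trans R.hF h₁ h₂ hK hn1 hn2 hl hm ho hm2 hml hN' hX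
      (hN'.comp.fixes_of_mem hN.comp hne' hmN) t1 t2⟩
  obtain ⟨X₁, hX₁, tX₁⟩ := triv R h₂ h₁ hne.symm hm hm2
  have hlX₁ : l ∈ X₁ := tX₁.le (mem_cen_of_sq hl hml.symm ll)
  refine ⟨⟨1, K₂, m, h₂, hm, hm2, by group⟩, ⟨X₁, hX₁, hlX₁⟩, fun N' hN' hne' => ?_, fun X hX => ?_⟩
  · obtain ⟨K, hK, hn1, t1⟩ := (members R h₁ hl ho (hE K₁ h₁ l hl ho)).1 N' hN'
    have hn2 : K ≠ K₂ := by
      rintro rfl
      exact hne' (triv_unique t1 tN hK hla ll hlK₂ hN' hN)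
    obtain ⟨X, hX, t2⟩ := triv R h₂ hK hn2 hm hm2
    exact ⟨X, hX, (key K N' X hK hn1 hn2 hN' hX t1 t2).2⟩
  · obtain ⟨K, hK, hn2, t2⟩ := (members R h₂ hm hm2 (hE K₂ h₂ m hm hm2)).1 X hX
    by_cases hn1 : K = K₁
    · subst hn1
      left
      exact t2.le (mem_cen_of_sq hl hml.symm ll)
    · right
      obtain ⟨N', hN', t1⟩ := triv R h₁ hK hn1 hl ho
      obtain ⟨h3, h4⟩ := key K N' X hK hn1 hn2 hN' hX t1 t2
      exact ⟨N', hN', h3, h4⟩

/-- **(R3)** -/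
theorem aa3 (R : Rd a) (h3 : 3 ≤ (US a).ncard)
    (hE : ∀ K, Fam a K → ∀ l ∈ K, orderOf l = 2 → (US l).ncard ≠ (US a).ncard) : AA (D3 a) := by
  have hinv : ∀ e ∈ D3 a, orderOf e = 2 := by
    rintro _ ⟨k, K, l, hK, hl, ho, rfl⟩
    rw [orderOf_conj, ho]
  have hcard : ∀ e ∈ D3 a, (US e).ncard + 1 = (US a).ncard := by
    rintro _ ⟨k, K, l, hK, hl, ho, rfl⟩
    rw [card_US_cj]
    exact (members R hK hl ho (hE K hK l hl ho)).2
  have hcl : ∀ e ∈ D3 a, ∀ N, Fam e N → ∀ m ∈ N, orderOf m = 2 → Cl (D3 a) e N m := by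
    -- for `l ∈ K`
    have key : ∀ K, Fam a K → ∀ l ∈ K, orderOf l = 2 → ∀ N, Fam l N → ∀ m ∈ N, orderOf m = 2 →
        Cl (D3 a) l N m := by
      intro K hK l hl ho N hN m hm hm2
      obtain ⟨K₂, h₂, hne, tN⟩ := (members R hK hl ho (hE K hK l hl ho)).1 N hN
      obtain ⟨M₂⟩ := h₂.a7
      obtain ⟨m', hm', ho', hml'⟩ := exists_inv M₂ (h₂.comp.fixes_of_mem hK.comp hne hl) (sq_of_order ho)
      exact cl_of_one (D3_conj a) hN (tN.le (mem_cen_of_sq hm' hml' (sq_of_order ho'))) ho'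
        (cl3 R hE hK h₂ hne hl ho hm' ho' hml' hN tN) hm hm2
    rintro _ ⟨k, K, l, hK, hl, ho, rfl⟩ N hN m hm hm2
    have h1 : Fam l (cj k⁻¹ N) := by
      have h2 := hN.cj k⁻¹
      rwa [show k⁻¹ * (k * l * k⁻¹) * k⁻¹⁻¹ = l by group] at h2
    have h4 := (key K hK l hl ho _ h1 (k⁻¹ * m * k⁻¹⁻¹) (conj_mem_cj hm) (by rw [orderOf_conj, hm2])).cj
      (D3_conj a) k
    rwa [cj_back, conj_back] at h4
  have htwo : ∀ e ∈ D3 a, ∃ N N', Fam e N ∧ Fam e N' ∧ N ≠ N' := by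
    intro e he
    have h1 := hcard e he
    have h2 : 1 < (US e).ncard := by omega
    obtain ⟨N, hN, N', hN', hne⟩ := (Set.one_lt_ncard (Set.toFinite _)).1 h2
    exact ⟨N, N', hN, hN', hne⟩
  refine ⟨a1_of_cl (D3_conj a) hinv (fun e he => ?_) hcl, ?_, htwo, fun e he e' he' => ?_⟩
  · obtain ⟨N, -, hN, -⟩ := htwo e he
    exact ⟨N, hN⟩
  · have h1 : 0 < (US a).ncard := by omega
    obtain ⟨K, hK⟩ := (Set.ncard_pos (Set.toFinite _)).1 h1
    obtain ⟨M⟩ := (mem_US.1 hK).a7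
    obtain ⟨l, hl, ho, -⟩ := exists_inv M (fixes_one K) (one_mul 1)
    exact ⟨l, 1, K, l, hK, hl, ho, by group⟩
  · have h1 := hcard e he
    have h2 := hcard e' he'
    change (US e).ncard = (US e').ncard
    omega

end Cfsg.Agent.UGT.A7.BR
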