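import Cfsg.Agent.UGT.A7.B.Basic
import Cfsg.Agent.UGT.A7.DiagInner
import Cfsg.Agent.UGT.A7.PumpPlug

/-!
# The β-branch of [A7]: splitting involutions of a diagonal; four-groups

* `exists_split`: an involution of the diagonal of `N`, `N^f` is `n n^f`, `n ∈ N`, `[n, n^f] = 1`;
* `exists_four`: four-groups of `L` over an involution commuting with a 2-group;
* `card_fix`: involutions of `L` have labels with three fixed points.
-/

set_option autoImplicit false
set_option linter.unusedSectionVars false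

open Cfsg Subgroup Equiv Equiv.Perm
open Cfsg.Agent.UAlt
open Cfsg.Agent.SignalizersComponents Cfsg.Agent.Lib
open Cfsg.Agent.SignalizersComponents.IntrinsicBasic
open Cfsg.Agent.Intrinsic.Basic Cfsg.Agent.Intrinsic.Cen Cfsg.Agent.Intrinsic.Diag Cfsg.Agent.Intrinsic
open Cfsg.Agent.McLLyComp.Act
open Cfsg.Agent.UGT.Triple Cfsg.Agent.UGT.PumpGen Cfsg.Agent.UGT.TriBase
open Cfsg.Agent.UGT.A7.Mu
open Cfsg.Agent.UGT.A7.Dg (diag_mem_normalizer)
open Cfsg.Agent.StdAlt.Roots (IsRoot)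
open Cfsg.Agent.StdAlt (V4 four4 mem_four4)
open scoped commutatorElement

namespace Cfsg.Agent.UGT.A7.B

universe u

variable {G : Type u} [Group G] [Finite G] {a b c l x f s t g e : G} {L N K D X Y : Subgroup G}

/-- the involutions of `L` have root labels -/
theorem isRoot (M : M7 L) (hl : l ∈ L) (hll : l * l = 1) (hne : l ≠ 1) : IsRoot (M.φ l) := by
  have h2 := M.sq (le_normalizer hl) hll
  have hne' : M.φ l ≠ 1 := fun h => hne (eq_one_of_mem_core_sq ((M.core_iff l hl).mp h) hll)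
  have he : M.φ l ∈ alternatingGroup (Fin 7) := by
    have := M.mem_alt l hl
    rwa [alt_univ] at this
  refine ⟨h2, ?_⟩
  have ho : orderOf (M.φ l) = 2 := orderOf_eq_prime (by rw [pow_two, h2]) hne'
  obtain ⟨n, hn⟩ := Equiv.Perm.cycleType_prime_order (σ := M.φ l) (by rw [ho]; exact Nat.prime_two)
  rw [ho] at hn
  have h3 : (M.φ l).cycleType.sum = 2 * (n + 1) := by
    rw [hn, Multiset.sum_replicate, smul_eq_mul, mul_comm]
  have h4 := Equiv.Perm.sum_cycleType (M.φ l)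
  have h5 : (M.φ l).support.card ≤ 7 := by
    have := Finset.card_le_univ (M.φ l).support
    rwa [Fintype.card_fin] at this
  have h6 := Equiv.Perm.sign_of_cycleType (M.φ l)
  rw [Equiv.Perm.mem_alternatingGroup.mp he, h3, hn, Multiset.card_replicate] at h6
  have h7 : n ≤ 2 := by omega
  interval_cases n
  · exact absurd h6 (by decide)
  · omega
  · exact absurd h6 (by decide)

/-- three fixed points -/
theorem card_fix (M : M7 L) (hl : l ∈ L) (hll : l * l = 1) (hne : l ≠ 1) :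
    (fixIn Finset.univ (M.φ l)).card = 3 := by
  have h1 := (isRoot M hl hll hne).2
  have h2 : fixIn Finset.univ (M.φ l) = Finset.univ \ (M.φ l).support := by
    ext i
    rw [mem_fixIn, Finset.mem_sdiff, Equiv.Perm.mem_support, not_not]
  rw [h2, Finset.card_sdiff_of_subset (Finset.subset_univ _), h1, Finset.card_univ, Fintype.card_fin]

omit [Finite G] in
theorem eq_of_mem_zpowers {c : G} (hcc : c * c = 1) : ∀ p ∈ zpowers c, p = 1 ∨ p = c := by
  rintro _ ⟨k, rfl⟩
  show c ^ k = 1 ∨ c ^ k = c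
  rcases Int.even_or_odd' k with ⟨j, rfl | rfl⟩
  · left
    rw [zpow_mul, show c ^ (2 : ℤ) = 1 by rw [zpow_two, hcc], one_zpow]
  · right
    rw [zpow_add, zpow_mul, show c ^ (2 : ℤ) = 1 by rw [zpow_two, hcc], one_zpow, one_mul, zpow_one]

/-- `L` has an involution commuting with the involution `c` fixing `L` -/
theorem exists_inv (M : M7 L) {c : G} (hc : Fixes c L) (hcc : c * c = 1) :
    ∃ l ∈ L, orderOf l = 2 ∧ l * c = c * l := by
  have hp := eq_of_mem_zpowers hcc
  have hP : IsPGroup 2 (zpowers c) := isPGroup_of_sq fun e he => by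
    rcases hp e he with rfl | rfl
    · exact one_mul 1
    · exact hcc
  have hPN : zpowers c ≤ normalizer (L : Set G) := by
    rw [zpowers_le]; exact hc.1
  have hφ : ∀ p ∈ zpowers c, M.φ p = 1 := by
    intro p h
    rcases hp p h with rfl | rfl
    · exact M.one
    · exact (M.fixes_iff hc.1).mpr hc
  have hnd : [(0 : Fin 7), 1, 2, 3].Nodup := by decide
  obtain ⟨V, hV, hVc, -, h4⟩ := exists_rootV M hP hPN hnd (Finset.subset_univ _)
    (fun p hp σ _ => by rw [hφ p hp, one_mul, mul_one])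
  obtain ⟨v, hv, hv1⟩ := hV.exists_ne
  exact ⟨v, hV.mem hv, orderOf_eq_prime (by rw [pow_two, hV.sq hv]) hv1, hVc v hv c (mem_zpowers c)⟩

/-- four-groups of `L` over the involution `m ∈ L` commuting with a 2-group `P` fixing `L` -/
theorem exists_four (M : M7 L) {m : G} (hm : m ∈ L) (hmm : m * m = 1) (hm1 : m ≠ 1)
    {P : Subgroup G} (hP : IsPGroup 2 P) (hPF : ∀ p ∈ P, Fixes p L) (hPm : ∀ p ∈ P, p * m = m * p) :
    ∃ V : Subgroup G, V ≤ L ∧ m ∈ V ∧ Nat.card V = 4 ∧ (∀ v ∈ V, v * v = 1) ∧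
      ∀ v ∈ V, ∀ p ∈ P, v * p = p * v := by
  have hroot : Root M (M.φ m).support m :=
    ⟨hm, hmm, Finset.subset_univ _, (isRoot M hm hmm hm1).2, fun x _ => by
      rw [Equiv.Perm.mem_support, not_not]⟩
  obtain ⟨a, b, c, d, hnd, hT, hφ⟩ := hroot.exists_swap
  have hmN : m ∈ normalizer (L : Set G) := le_normalizer hm
  have hPN : P ≤ normalizer (L : Set G) := fun p hp => (hPF p hp).1
  have hm' : V4 a b c d (M.φ m) := by rw [hφ]; exact Or.inr (Or.inl rfl)
  have hz : IsPGroup 2 (zpowers m) := isPGroup_of_sq fun e he => by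
    obtain ⟨k, rfl⟩ := he
    show m ^ k * m ^ k = 1
    rw [← zpow_add, ← two_mul, zpow_mul, show m ^ (2 : ℤ) = 1 by rw [zpow_two, hmm], one_zpow]
  have hQ : IsPGroup 2 (P ⊔ zpowers m : Subgroup G) := by
    refine hP.to_sup_of_normal_right' hz fun p hp => ?_
    rw [mem_normalizer_iff_cj, cj_def, MonoidHom.map_zpowers]
    show zpowers (p * m * p⁻¹) = zpowers m
    rw [conj_of_comm (hPm p hp)]
  have key : ∀ q ∈ P ⊔ zpowers m, q ∈ normalizer (L : Set G) ∧
      ∀ σ, V4 a b c d σ → M.φ q * σ = σ * M.φ q := by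
    intro q hq
    rw [sup_eq_closure] at hq
    induction hq using closure_induction with
    | mem x hx =>
      rcases hx with hx | hx
      · refine ⟨hPN hx, fun σ _ => ?_⟩
        rw [(M.fixes_iff (hPN hx)).mpr (hPF x hx), one_mul, mul_one]
      · rcases eq_of_mem_zpowers hmm x hx with rfl | rfl
        · exact ⟨one_mem _, fun σ _ => by rw [M.one, one_mul, mul_one]⟩
        · refine ⟨hmN, fun σ hσ => ?_⟩
          rw [hφ]
          exact ((StdAlt.V4.comm hnd hσ).1).symm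
    | one => exact ⟨one_mem _, fun σ _ => by rw [M.one, one_mul, mul_one]⟩
    | mul x y _ _ hx hy =>
      refine ⟨mul_mem hx.1 hy.1, fun σ hσ => ?_⟩
      rw [M.mul _ _ hx.1 hy.1, mul_assoc, hy.2 σ hσ, ← mul_assoc, hx.2 σ hσ, mul_assoc]
    | inv x _ hx =>
      refine ⟨inv_mem hx.1, fun σ hσ => ?_⟩
      rw [M.inv hx.1, inv_mul_eq_iff_eq_mul, ← mul_assoc, hx.2 σ hσ, mul_inv_cancel_right]
  obtain ⟨V, hV, hVc, -, h4⟩ := exists_rootV M hQ (fun q hq => (key q hq).1) hnd
    (Finset.subset_univ _) (fun p hp σ hσ => (key p hp).2 σ hσ)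
  obtain ⟨v, hv, hvm⟩ := h4 _ hm'
  have hvm' : v = m := by
    have h1 : v * m = m * v := hVc v hv m (mem_sup_right (mem_zpowers m))
    have h2 : v⁻¹ * m ∈ core L := by
      rw [← M.core_iff _ (mul_mem (inv_mem (hV.mem hv)) hm),
        M.mul _ _ (inv_mem (le_normalizer (hV.mem hv))) hmN, M.inv (le_normalizer (hV.mem hv)), hvm,
        inv_mul_cancel]
    have h3 : v⁻¹ = v := inv_eq_of_mul_eq_one_left (hV.sq hv)
    have h4 : v⁻¹ * m = 1 := by
      apply eq_one_of_mem_core_sq h2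
      rw [h3]
      calc v * m * (v * m) = v * (m * v) * m := by group
        _ = v * (v * m) * m := by rw [h1]
        _ = (v * v) * (m * m) := by group
        _ = 1 := by rw [hV.sq hv, hmm, one_mul]
    exact inv_mul_eq_one.mp h4
  exact ⟨V, hV.le, hvm' ▸ hv, hV.1, fun v hv => hV.sq hv, fun v hv p hp =>
    hVc v hv p (mem_sup_left hp)⟩

/-- **splitting involutions of a diagonal** -/
theorem exists_split (M : M7 N) (hN : IsComp X N) (hf : f ∈ X) (hff : f * f = 1)
    (hne : IntrinsicBasic.cj f N ≠ N) (hl : l ∈ diag X N f) (hll : l * l = 1) :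
    ∃ n ∈ N, n * n = 1 ∧ n * (f * n * f⁻¹) = (f * n * f⁻¹) * n ∧ l = n * (f * n * f⁻¹) := by
  obtain ⟨h1, h2, -⟩ := exists_diag hN hf hff hne
  obtain ⟨k, hk, hlk⟩ := h2 l hl
  have hlX : l ∈ X := (h1.le hl).1
  have hlf : l * f = f * l := mem_centralizer_singleton_iff.mp (h1.le hl).2
  have hfix := fixes_inv_mul hN hf hne hk hlX hlk
  have hlN := diag_mem_normalizer hN hf hff hne hl
  have hkN : k ∈ normalizer (N : Set G) := le_normalizer hk
  have e1 : M.φ l = M.φ k := by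
    have h3 := (M.fixes_iff hfix.1).mpr hfix
    rw [M.mul _ _ (inv_mem hkN) hlN, M.inv hkN, inv_mul_eq_one] at h3
    exact h3.symm
  have e2 : k ^ 2 ^ 1 ∈ core N := by
    rw [pow_one, pow_two, ← M.core_iff _ (mul_mem hk hk), M.mul _ _ hkN hkN, ← e1]
    exact M.sq hlN hll
  obtain ⟨j, hj1, hj2⟩ := Lifting.exists_two_part (odd_card_core N) e2
  rw [pow_one, pow_two] at hj1
  obtain ⟨n, hn, hnn, hn0, hnc⟩ := exists_comm_swap hN hf hff hne (pow_mem hk j) hj1
  -- `n ≡ k`
  have hkn : k⁻¹ * n ∈ core X := by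
    have h3 := mul_mem (hN.core_le_core hj2) hn0
    rwa [show k⁻¹ * k ^ j * ((k ^ j)⁻¹ * n) = k⁻¹ * n by group] at h3
  have hnor : ∀ {z : G}, z ∈ X → z ∈ normalizer (core X : Set G) := fun h => le_normalizer_core X h
  have hnX := hN.le hn
  have hkX := hN.le hk
  have hnf : f * n * f⁻¹ ∈ X := mul_mem (mul_mem hf hnX) (inv_mem hf)
  have hcon : ∀ {z o : G}, z ∈ X → o ∈ core X → z * o * z⁻¹ ∈ core X := fun hz ho =>
    (mem_normalizer_iff.mp (hnor hz) _).mp ho
  have h5 : (n * (f * n * f⁻¹))⁻¹ * l ∈ core X := by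
    -- `n n^f ≡ k k^f ≡ l`
    have h6 : (f * n * f⁻¹)⁻¹ * (n⁻¹ * k) * (f * n * f⁻¹) ∈ core X := by
      have h7 : n⁻¹ * k ∈ core X := by
        have := inv_mem hkn
        rwa [mul_inv_rev, inv_inv] at this
      have := hcon (inv_mem hnf) h7
      rwa [inv_inv] at this
    have h7 : (f * n * f⁻¹)⁻¹ * (f * k * f⁻¹) ∈ core X := by
      have h8 : n⁻¹ * k ∈ core X := by
        have := inv_mem hkn
        rwa [mul_inv_rev, inv_inv] at this
      have := hcon hf h8
      rwa [show f * (n⁻¹ * k) * f⁻¹ = (f * n * f⁻¹)⁻¹ * (f * k * f⁻¹) by group] at this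
    have h8 : (l⁻¹ * (k * (f * k * f⁻¹)))⁻¹ ∈ core X := inv_mem hlk
    have h9 := mul_mem (mul_mem h6 h7) h8
    rwa [show (f * n * f⁻¹)⁻¹ * (n⁻¹ * k) * (f * n * f⁻¹) * ((f * n * f⁻¹)⁻¹ * (f * k * f⁻¹)) *
      (l⁻¹ * (k * (f * k * f⁻¹)))⁻¹ = (n * (f * n * f⁻¹))⁻¹ * l by group] at h9
  have hfi : f⁻¹ = f := inv_eq_of_mul_eq_one_left hff
  have haf : n * (f * n * f⁻¹) * f = f * (n * (f * n * f⁻¹)) := by
    calc n * (f * n * f⁻¹) * f = n * (f * n) := by group
      _ = (f * (f * n * f⁻¹) * f⁻¹) * (f * n) := by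
        rw [show f * (f * n * f⁻¹) * f⁻¹ = (f * f) * n * (f * f)⁻¹ by group, hff, one_mul, inv_one,
          mul_one]
      _ = f * ((f * n * f⁻¹) * n) := by group
      _ = _ := by rw [hnc]
  have haa : (n * (f * n * f⁻¹)) * (n * (f * n * f⁻¹)) = 1 := by
    calc (n * (f * n * f⁻¹)) * (n * (f * n * f⁻¹)) = n * ((f * n * f⁻¹) * n) * (f * n * f⁻¹) := by
          group
      _ = n * (n * (f * n * f⁻¹)) * (f * n * f⁻¹) := by rw [hnc]
      _ = (n * n) * (f * (n * n) * f⁻¹) := by group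
      _ = 1 := by rw [hnn]; group
  obtain ⟨o, ho, hof, hol⟩ := Lifting.exists_conj_commute (odd_card_core X) (n := 1) (m := 1)
    (v := f) (by rw [pow_one, pow_two, haa]) (by rw [pow_one, pow_two, hll])
    (hnor (mul_mem hnX hnf)) haf hlf h5
  have hoN : o ∈ normalizer (N : Set G) := hN.core_le_normalizer ho
  have e3 : f * (o * n * o⁻¹) * f⁻¹ = o * (f * n * f⁻¹) * o⁻¹ := by
    calc f * (o * n * o⁻¹) * f⁻¹ = (f * o) * n * (f * o)⁻¹ := by group
      _ = (o * f) * n * (o * f)⁻¹ := by rw [hof]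
      _ = _ := by group
  refine ⟨o * n * o⁻¹, (mem_normalizer_iff.mp hoN n).mp hn, ?_, ?_, ?_⟩
  · calc o * n * o⁻¹ * (o * n * o⁻¹) = o * (n * n) * o⁻¹ := by group
      _ = 1 := by rw [hnn]; group
  · rw [e3]
    calc o * n * o⁻¹ * (o * (f * n * f⁻¹) * o⁻¹) = o * (n * (f * n * f⁻¹)) * o⁻¹ := by group
      _ = o * ((f * n * f⁻¹) * n) * o⁻¹ := by rw [hnc]
      _ = _ := by group
  · rw [e3, ← hol]
    group

end Cfsg.Agent.UGT.A7.B
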