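import Cfsg.Agent.UGT.A7.Frame7

/-!
# Trivial pump-ups of 2-components, and commuting groups `D₈` acting on `A₇`

* `Tv s t K N`: `K`, `N` are 2-components of `C(s)`, `C(t)`, `t` fixes `K / O(K)`, `s` fixes `N / O(N)`
  and `cen K t ≤ N`. The elements of `C(s) ∩ C(t)` act in the same way on `K / O(K)` and on `N / O(N)`.
* `syl8`, `syl_eightS`: Sylow 2-subgroups of `L`, `L / O(L) ≅ A₇`.
* `isSyl_of_cen`: Sylow 2-subgroups of `C_L(e)` are Sylow 2-subgroups of `L`.
* `exists_fixing`: commuting Sylow 2-subgroups of `A₇`'s cannot both act faithfully on an `A₇`.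
-/

set_option autoImplicit false
set_option linter.unusedSectionVars false

open Cfsg Subgroup Equiv Equiv.Perm
open Cfsg.Agent.UAlt
open Cfsg.Agent.SignalizersComponents Cfsg.Agent.Lib
open Cfsg.Agent.SignalizersComponents.IntrinsicBasic
open Cfsg.Agent.Intrinsic.Basic Cfsg.Agent.Intrinsic.Cen Cfsg.Agent.Intrinsic.Diag
open Cfsg.Agent.McLLyComp.Act
open Cfsg.Agent.UGT.Triple Cfsg.Agent.UGT.TriBase
open scoped commutatorElement

namespace Cfsg.Agent.UGT.A7.BW

universe u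

variable {G : Type u} [Group G] [Finite G]

/-! ### trivial pump-ups -/

/-- a trivial pump-up -/
structure Tv (s t : G) (K N : Subgroup G) : Prop where
  compK : IsComp (centralizer ({s} : Set G)) K
  compN : IsComp (centralizer ({t} : Set G)) N
  ss : s * s = 1
  tt : t * t = 1
  ts : t * s = s * t
  ft : Fixes t K
  fs : Fixes s N
  le : cen K t ≤ N

namespace Tv

variable {s t : G} {K N : Subgroup G} (h : Tv s t K N)

include h

theorem cen_eq : cen N s = cen K t := by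
  have h1 := (isComp_cen h.compK (mem_c h.ts) h.tt h.ft).1
  have h2 := (isComp_cen h.compN (mem_c h.ts.symm) h.ss h.fs).1
  rw [inf_comm] at h2
  symm
  apply h1.eq_of_le h2
  refine h1.le_of_two fun k hk n hn => mem_cen (h.le hk) ?_ hn
  exact comm_c (h1.le hk).1

theorem symm : Tv t s N K where
  compK := h.compN
  compN := h.compK
  ss := h.tt
  tt := h.ss
  ts := h.ts.symm
  ft := h.fs
  fs := h.ft
  le := by
    rw [h.cen_eq]
    exact cen_le _ _

theorem norm_of {g : G} (_hgs : g * s = s * g) (hgt : g * t = t * g)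
    (hg : g ∈ normalizer (K : Set G)) : g ∈ normalizer (N : Set G) := by
  have h1 := (isComp_cen h.compK (mem_c h.ts) h.tt h.ft).1
  have h2 := mem_normalizer_iff_cj.mp (mem_normalizer_cen hg hgt)
  rw [mem_normalizer_iff_cj]
  have h3 : IsComp (centralizer ({t} : Set G)) (cj g N) := isComp_cj_of_mem h.compN (mem_c hgt)
  refine h1.unique h3 h.compN ?_ h.le
  rw [← h2]
  exact cj_mono h.le

theorem norm_iff {g : G} (hgs : g * s = s * g) (hgt : g * t = t * g) :
    g ∈ normalizer (K : Set G) ↔ g ∈ normalizer (N : Set G) :=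
  ⟨h.norm_of hgs hgt, h.symm.norm_of hgt hgs⟩

theorem fixes_of {g : G} (hgs : g * s = s * g) (hgt : g * t = t * g) (hg : Fixes g K) :
    Fixes g N := by
  have h1 := (isComp_cen h.compK (mem_c h.ts) h.tt h.ft).2
  have h2 := (isComp_cen h.compN (mem_c h.ts.symm) h.ss h.fs).2
  rw [h.cen_eq] at h2
  have h3 := h.norm_of hgs hgt hg.1
  have h4 := mem_normalizer_cen hg.1 hgt
  exact (fixes_iff_of_sup h2 h4 h3).mp ((fixes_iff_of_sup h1 h4 hg.1).mpr hg)

theorem fixes_iff {g : G} (hgs : g * s = s * g) (hgt : g * t = t * g) : Fixes g K ↔ Fixes g N :=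
  ⟨h.fixes_of hgs hgt, h.symm.fixes_of hgt hgs⟩

/-- 2-elements of `N` commuting with `s` lie in `K` -/
theorem mem_of {g : G} (hg : g ∈ N) (hgs : g * s = s * g) {n : ℕ} (hn : g ^ 2 ^ n = 1) : g ∈ K := by
  have h1 : g ∈ cen N s := mem_cen hg hgs hn
  rw [h.cen_eq] at h1
  exact cen_le _ _ h1

theorem eq_of {N' : Subgroup G} (h' : Tv s t K N') : N' = N :=
  (isComp_cen h.compK (mem_c h.ts) h.tt h.ft).1.unique h'.compN h.compN h'.le h.le

end Tv

/-! ### Sylow 2-subgroups -/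

theorem cycleType_of_sq {σ : Perm (Fin 7)} (h : σ * σ = 1) :
    σ.cycleType = Multiset.replicate (σ.support.card / 2) 2 ∧ σ.support.card / 2 ≤ 3 ∧
      2 * (σ.support.card / 2) = σ.support.card := by
  by_cases h1 : σ = 1
  · subst h1
    simp
  have ho : orderOf σ = 2 := orderOf_eq_prime (by rw [pow_two, h]) h1
  obtain ⟨n, hn⟩ := Equiv.Perm.cycleType_prime_order (σ := σ) (by rw [ho]; exact Nat.prime_two)
  rw [ho] at hn
  have h2 : σ.cycleType.sum = 2 * (n + 1) := by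
    rw [hn, Multiset.sum_replicate, smul_eq_mul, mul_comm]
  have h3 := Equiv.Perm.sum_cycleType σ
  have h4 : σ.support.card ≤ 7 := by
    have := Finset.card_le_univ σ.support
    rwa [Fintype.card_fin] at this
  have h5 : σ.support.card / 2 = n + 1 := by omega
  rw [h5]
  exact ⟨hn, by omega, by omega⟩

/-- a permutation of order `≤ 2` is conjugate to `1`, `w0`, `z0` or `z0 w0` -/
theorem exists_conj_inv {σ : Perm (Fin 7)} (h : σ * σ = 1) :
    ∃ g : Perm (Fin 7), ∀ τ ∈ W0, (g * σ * g⁻¹) * τ = τ * (g * σ * g⁻¹) := by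
  obtain ⟨h1, h2, h3⟩ := cycleType_of_sq h
  have key : ∀ ρ : Perm (Fin 7), ρ * ρ = 1 → ρ.support.card = σ.support.card →
      (∀ τ ∈ W0, ρ * τ = τ * ρ) → ∃ g : Perm (Fin 7), ∀ τ ∈ W0, (g * σ * g⁻¹) * τ = τ * (g * σ * g⁻¹) := by
    intro ρ hρ hc hW
    have h4 := (cycleType_of_sq hρ).1
    rw [hc, ← h1] at h4
    obtain ⟨g, hg⟩ := isConj_iff.1 ((isConj_iff_cycleType_eq).2 h4.symm)
    exact ⟨g, by rw [hg]; exact hW⟩
  have h4 : σ.support.card / 2 = 0 ∨ σ.support.card / 2 = 1 ∨ σ.support.card / 2 = 2 ∨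
      σ.support.card / 2 = 3 := by omega
  rcases h4 with h4 | h4 | h4 | h4
  · refine key 1 (mul_one _) ?_ fun τ _ => by rw [one_mul, mul_one]
    rw [support_one, Finset.card_empty]; omega
  · refine key w0 (by decide) ?_ fun τ hτ => (mem_W0.1 hτ).2.symm
    have : w0.support.card = 2 := by decide
    omega
  · refine key z0 (by decide) ?_ fun τ hτ => (mem_W0.1 hτ).1.symm
    have : z0.support.card = 4 := by decide
    omega
  · refine key (z0 * w0) (by decide) ?_ fun τ hτ => ?_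
    · have : (z0 * w0).support.card = 6 := by decide
      omega
    · obtain ⟨h5, h6⟩ := mem_W0.1 hτ
      calc z0 * w0 * τ = z0 * (τ * w0) := by rw [mul_assoc, h6]
        _ = τ * z0 * w0 := by rw [← mul_assoc, h5]
        _ = τ * (z0 * w0) := by rw [mul_assoc]

/-- `8` divides the order of the centralizer in `A₇` of a permutation of order `≤ 2` -/
theorem exists_P0 {σ : Perm (Fin 7)} (h : σ * σ = 1) :
    ∃ P : Subgroup (Perm (Fin 7)), Nat.card P = 8 ∧ P ≤ alternatingGroup (Fin 7) ∧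
      ∀ τ ∈ P, σ * τ = τ * σ := by
  obtain ⟨g, hg⟩ := exists_conj_inv h
  refine ⟨P0.map (MulAut.conj g⁻¹).toMonoidHom, ?_, ?_, ?_⟩
  · rw [card_map_of_injective (MulAut.conj g⁻¹).injective, card_P0]
  · rintro _ ⟨τ, hτ, rfl⟩
    exact (inferInstance : (alternatingGroup (Fin 7)).Normal).conj_mem _ (mem_P0.1 hτ).2 g⁻¹
  · rintro _ ⟨τ, hτ, rfl⟩
    have h1 := hg τ (mem_P0.1 hτ).1
    change σ * (g⁻¹ * τ * g⁻¹⁻¹) = (g⁻¹ * τ * g⁻¹⁻¹) * σ
    calc σ * (g⁻¹ * τ * g⁻¹⁻¹) = g⁻¹ * ((g * σ * g⁻¹) * τ) * g := by group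
      _ = g⁻¹ * (τ * (g * σ * g⁻¹)) * g := by rw [h1]
      _ = _ := by group

/-- an involution in a nontrivial 2-group generated by one element -/
theorem exists_invol {X : Subgroup G} (hX : IsPGroup 2 ↥X) {x : G} (hx : x ∈ X) (h1 : x ≠ 1) :
    ∃ n : ℕ, (x ^ n) * (x ^ n) = 1 ∧ x ^ n ≠ 1 := by
  obtain ⟨k, hk⟩ := hX ⟨x, hx⟩
  have hk' : x ^ 2 ^ k = 1 := congrArg Subtype.val hk
  clear hk
  induction k with
  | zero => exact absurd (by simpa using hk') h1
  | succ k ih =>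
    by_cases h : x ^ 2 ^ k = 1
    · exact ih h
    · refine ⟨2 ^ k, ?_, h⟩
      rw [← pow_add, ← two_mul, ← pow_succ', hk']

theorem syl8 {L X : Subgroup G} (M : Lab L) (hX : IsSyl L X) : Nat.card ↥X = 8 :=
  (Star.exists_even M hX.two (hX.le.trans le_normalizer) hX le_rfl).1

/-- Sylow 2-subgroups of `C_L(e)` are Sylow 2-subgroups of `L` -/
theorem isSyl_of_cen {L X : Subgroup G} (M : Lab L) {e : G} (he : e ∈ normalizer (L : Set G))
    (hee : e * e = 1) (hX : IsSyl (L ⊓ centralizer ({e} : Set G)) X) : IsSyl L X := by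
  obtain ⟨P, hP8, hPA, hPc⟩ := exists_P0 (M.sq he hee)
  have h1 : 8 ∣ Nat.card ↥(alt (Finset.univ : Finset (Fin 7)) ⊓ centralizer ({M.φ e} : Set (Perm (Fin 7)))) := by
    rw [← hP8]
    refine card_dvd_of_le fun τ hτ => ⟨?_, mem_centralizer_singleton_iff.2 (hPc τ hτ).symm⟩
    rw [alt_univ]
    exact hPA hτ
  have h2 : 2 ^ 3 ∣ Nat.card ↥(L ⊓ centralizer ({e} : Set G)) := by
    have h3 := card_dvd_of_surjective (M.homC he) (M.homC_surjective he (n := 1) (by
      rw [pow_one, pow_two, hee]))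
    exact (show (2 : ℕ) ^ 3 = 8 by norm_num) ▸ h1.trans h3
  have h3 := hX.dvd_card h2
  obtain ⟨P', hP', hXP⟩ := exists_isSyl hX.two (hX.le.trans inf_le_left)
  have h4 := syl8 M hP'
  have h5 : X = P' := Subgroup.eq_of_le_of_card_ge hXP (by
    rw [h4]
    exact Nat.le_of_dvd Nat.card_pos h3)
  rw [h5]
  exact hP'

/-- Sylow 2-subgroups of `L` are dihedral of order 8 -/
theorem syl_dih {L X : Subgroup G} (M : Lab L) (hX : IsSyl L X) :
    Nonempty (↥X ≃* DihedralGroup 4) := by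
  have hXn : X ≤ normalizer (L : Set G) := hX.le.trans le_normalizer
  have h2 : IsPGroup 2 ↥((X.subgroupOf (normalizer (L : Set G))).map M.hom) := by
    refine IsPGroup.map ?_ _
    exact hX.two.of_injective (subgroupOfEquivOfLe hXn).toMonoidHom (subgroupOfEquivOfLe hXn).injective
  obtain ⟨g, hg⟩ := exists_conj_W0 _ h2
  obtain ⟨M', hM'⟩ := exists_relabel M g
  have hP : ∀ x ∈ X, M'.φ x ∈ P0 := by
    intro x hx
    rw [mem_P0]
    refine ⟨?_, ?_⟩
    · rw [hM']
      exact hg _ ⟨⟨x, hXn hx⟩, hx, rfl⟩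
    · have := M'.mem_alt x (hX.le hx)
      rw [alt_univ, mem_alternatingGroup] at this
      exact this
  let f : ↥X →* ↥P0 :=
    { toFun := fun p => ⟨M'.φ p, hP p p.2⟩
      map_one' := Subtype.ext M'.one
      map_mul' := fun p q => Subtype.ext (M'.mul _ _ (hXn p.2) (hXn q.2)) }
  have hf : Function.Injective f := by
    intro p q h
    have h3 : M'.φ p = M'.φ q := congrArg Subtype.val h
    rw [M'.eq_iff (hX.le p.2) (hX.le q.2)] at h3
    have h4 := eq_one_of_core hX.two (X.mul_mem (X.inv_mem p.2) q.2) h3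
    exact Subtype.ext (inv_mul_eq_one.1 h4)
  have hb : Function.Bijective f := (Nat.bijective_iff_injective_and_card f).2 ⟨hf, by
    rw [syl8 M hX, card_P0]⟩
  exact ⟨(MulEquiv.ofBijective f hb).trans P0equiv.symm⟩

theorem syl_eightS {L X : Subgroup G} (M : Lab L) (hX : IsSyl L X) : ∃ z, EightS X z := by
  obtain ⟨e⟩ := syl_dih M hX
  exact ⟨_, eightS_of_eight (syl8 M hX) (eight_dihedral.of_equiv e.symm)⟩

/-- two commuting nonabelian groups of order 8 cannot both act faithfully on `A₇` -/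
theorem exists_fixing {N X₁ X₂ : Subgroup G} (M : Lab N) {z₁ z₂ : G} (h1 : EightS X₁ z₁)
    (h2 : EightS X₂ z₂) (hn1 : X₁ ≤ normalizer (N : Set G)) (hn2 : X₂ ≤ normalizer (N : Set G))
    (hc : ∀ x ∈ X₁, ∀ y ∈ X₂, x * y = y * x) :
    ∃ u, (u ∈ X₁ ∨ u ∈ X₂) ∧ u * u = 1 ∧ u ≠ 1 ∧ Fixes u N := by
  classical
  by_contra hcon
  push Not at hcon
  have hp : Fact (Nat.Prime 2) := ⟨Nat.prime_two⟩
  have p1 : IsPGroup 2 ↥X₁ := IsPGroup.of_card (n := 3) (by rw [h1.card]; norm_num)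
  have p2 : IsPGroup 2 ↥X₂ := IsPGroup.of_card (n := 3) (by rw [h2.card]; norm_num)
  have inj : ∀ X : Subgroup G, IsPGroup 2 ↥X → X ≤ normalizer (N : Set G) →
      (∀ u ∈ X, u * u = 1 → u ≠ 1 → ¬ Fixes u N) → ∀ x ∈ X, M.φ x = 1 → x = 1 := by
    intro X hX hXn h x hx hφ
    by_contra hne
    obtain ⟨n, hn, hn1⟩ := exists_invol hX hx hne
    refine h _ (pow_mem hx n) hn hn1 ?_
    rw [← M.fixes_iff (pow_mem (hXn hx) n), M.pow (hXn hx), hφ, one_pow]
  have i1 := inj X₁ p1 hn1 fun u hu => hcon u (Or.inl hu)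
  have i2 := inj X₂ p2 hn2 fun u hu => hcon u (Or.inr hu)
  let f : ↥X₁ × ↥X₂ →* Perm (Fin 7) :=
    { toFun := fun p => M.φ (p.1 * p.2)
      map_one' := by
        change M.φ ((1 : G) * 1) = 1
        rw [one_mul, M.one]
      map_mul' := fun p q => by
        change M.φ (((p.1 : G) * q.1) * ((p.2 : G) * q.2)) = M.φ ((p.1 : G) * p.2) * M.φ ((q.1 : G) * q.2)
        rw [← M.mul _ _ (mul_mem (hn1 p.1.2) (hn2 p.2.2)) (mul_mem (hn1 q.1.2) (hn2 q.2.2))]
        congr 1
        have := hc q.1 q.1.2 p.2 p.2.2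
        calc (p.1 : G) * q.1 * ((p.2 : G) * q.2) = p.1 * (q.1 * p.2) * q.2 := by group
          _ = p.1 * (p.2 * q.1) * q.2 := by rw [this]
          _ = _ := by group }
  have hr : IsPGroup 2 ↥f.range := by
    have h3 : IsPGroup 2 (↥X₁ × ↥X₂) := IsPGroup.of_card (n := 6) (by
      rw [Nat.card_prod, h1.card, h2.card]; norm_num)
    rw [MonoidHom.range_eq_map]
    exact (h3.of_injective _ (Subgroup.subtype_injective (⊤ : Subgroup (↥X₁ × ↥X₂)))).map f
  have hr16 : Nat.card ↥f.range ≤ 16 := by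
    obtain ⟨g, hg⟩ := exists_conj_W0 _ hr
    rw [← card_W0]
    refine Nat.card_le_card_of_injective (fun t : ↥f.range => (⟨g * t * g⁻¹, hg t t.2⟩ : ↥W0)) ?_
    intro s t hst
    have h3 : g * (s : Perm (Fin 7)) * g⁻¹ = g * t * g⁻¹ := congrArg Subtype.val hst
    exact Subtype.ext (by simpa using h3)
  have hk : Nat.card ↥f.ker ≤ 2 := by
    have h3 : ∀ p : ↥X₁ × ↥X₂, p ∈ f.ker → (p.1 : G) = 1 ∨ (p.1 : G) = z₁ := by
      rintro ⟨⟨x, hx⟩, ⟨y, hy⟩⟩ hp
      have h4 : M.φ (x * y) = 1 := hp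
      refine h1.cen' x hx fun q hq => ?_
      rw [M.mul _ _ (hn1 hx) (hn2 hy)] at h4
      have h5 : M.φ x = (M.φ y)⁻¹ := eq_inv_of_mul_eq_one_left h4
      have h6 : M.φ (x * q * x⁻¹ * q⁻¹) = 1 := by
        rw [M.mul _ _ (mul_mem (mul_mem (hn1 hx) (hn1 hq)) (inv_mem (hn1 hx))) (inv_mem (hn1 hq)),
          M.conj (hn1 hx) (hn1 hq), M.inv (hn1 hq), h5, inv_inv]
        have h7 := M.comm (hn1 hq) (hn2 hy) (hc q hq y hy)
        rw [mul_assoc (M.φ y)⁻¹, h7, inv_mul_cancel_left, mul_inv_cancel]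
      have h7 := i1 _ (mul_mem (mul_mem (mul_mem hx hq) (inv_mem hx)) (inv_mem hq)) h6
      calc x * q = (x * q * x⁻¹ * q⁻¹) * (q * x) := by group
        _ = q * x := by rw [h7, one_mul]
    have h4 : Function.Injective (fun p : ↥f.ker => (decide ((p.1.1 : G) = 1) : Bool)) := by
      rintro ⟨⟨⟨x, hx⟩, ⟨y, hy⟩⟩, hp⟩ ⟨⟨⟨x', hx'⟩, ⟨y', hy'⟩⟩, hp'⟩ h
      have h5 : (x = 1) ↔ (x' = 1) := by simpa using h
      have h6 : x = x' := by
        rcases h3 _ hp with h7 | h7 <;> rcases h3 _ hp' with h8 | h8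
        · exact h7.trans h8.symm
        · exact absurd ((h5.1 h7).symm.trans h8) h1.ne.symm
        · exact absurd ((h5.2 h8).symm.trans h7) h1.ne.symm
        · exact h7.trans h8.symm
      have h7 : y = y' := by
        have h8 : M.φ (x * y) = 1 := hp
        have h9 : M.φ (x' * y') = 1 := hp'
        rw [← h6, M.mul _ _ (hn1 hx) (hn2 hy')] at h9
        rw [M.mul _ _ (hn1 hx) (hn2 hy)] at h8
        have h10 : M.φ y = M.φ y' := mul_left_cancel (h8.trans h9.symm)
        have h11 := i2 (y⁻¹ * y') (mul_mem (inv_mem hy) hy') (by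
          rw [M.mul _ _ (inv_mem (hn2 hy)) (hn2 hy'), M.inv (hn2 hy), h10, inv_mul_cancel])
        exact inv_mul_eq_one.1 h11
      subst h6 h7
      rfl
    have h5 := Nat.card_le_card_of_injective _ h4
    simpa using h5
  have h3 : Nat.card (↥X₁ × ↥X₂) = 64 := by rw [Nat.card_prod, h1.card, h2.card]
  have h4 : Nat.card ↥f.range * Nat.card ↥f.ker = 64 := by
    rw [mul_comm, ← index_ker, Subgroup.card_mul_index, h3]
  have h5 : Nat.card ↥f.range * Nat.card ↥f.ker ≤ 16 * 2 := Nat.mul_le_mul hr16 hk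
  omega

end Cfsg.Agent.UGT.A7.BW
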