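import Cfsg.Agent.UGT.A7.B.TwoBase

/-!
# [A7], beta-branch, World 2 (#14403): the action of the involutions of `K₁`, `K₂`
-/

set_option autoImplicit false
set_option linter.unusedSectionVars false

open Cfsg Subgroup Equiv Equiv.Perm
open Cfsg.Agent.UAlt
open Cfsg.Agent.SignalizersComponents Cfsg.Agent.Lib
open Cfsg.Agent.SignalizersComponents.IntrinsicBasic
open Cfsg.Agent.Intrinsic.Basic Cfsg.Agent.Intrinsic.Cen Cfsg.Agent.Intrinsic.Diag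
open Cfsg.Agent.McLLyComp.Act
open Cfsg.Agent.UGT.Triple Cfsg.Agent.UGT.TriBase
open scoped commutatorElement

namespace Cfsg.Agent.UGT.A7.BW

universe u

variable {G : Type u} [Group G] [Finite G]

/-- World 2: `U(a) = {K₁, K₂}`, `|U(s)| ≤ 2` for all `s`, `|U(l)| ≤ 1` for the involutions `l` of `K₁`, `K₂` -/
structure W2 (Fm : G → Subgroup G → Prop) (a : G) (K₁ K₂ : Subgroup G) : Prop where
  w : Wo Fm
  f₁ : Fm a K₁
  f₂ : Fm a K₂
  ne : K₁ ≠ K₂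
  le2 : ∀ {s L₁ L₂ L₃}, Fm s L₁ → Fm s L₂ → Fm s L₃ → L₁ ≠ L₂ → L₃ = L₁ ∨ L₃ = L₂
  one : ∀ {l M M'}, (l ∈ K₁ ∨ l ∈ K₂) → orderOf l = 2 → Fm l M → Fm l M' → M = M'

/-- `X₁`, `X₂` are commuting Sylow 2-subgroups of `K₁`, `K₂`, centralized by `e` -/
structure XX (K₁ K₂ : Subgroup G) (e : G) (X₁ X₂ : Subgroup G) : Prop where
  le₁ : X₁ ≤ K₁
  le₂ : X₂ ≤ K₂
  d₁ : Nonempty (↥X₁ ≃* DihedralGroup 4)
  d₂ : Nonempty (↥X₂ ≃* DihedralGroup 4)
  e₁ : ∃ z, EightS X₁ z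
  e₂ : ∃ z, EightS X₂ z
  c₁ : ∀ x ∈ X₁, x * e = e * x
  c₂ : ∀ x ∈ X₂, x * e = e * x
  comm : ∀ x ∈ X₁, ∀ y ∈ X₂, x * y = y * x

namespace W2

variable {Fm : G → Subgroup G → Prop} {a : G} {K₁ K₂ : Subgroup G} (H : W2 Fm a K₁ K₂)

include H

theorem symm : W2 Fm a K₂ K₁ where
  w := H.w
  f₁ := H.f₂
  f₂ := H.f₁
  ne := H.ne.symm
  le2 := H.le2
  one := fun h => H.one h.symm

theorem aa : a * a = 1 := H.w.sq H.f₁

theorem ca {y : G} (hy : y ∈ K₁) : y * a = a * y := comm_c ((H.w.comp H.f₁).le hy)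

theorem fix₂ {l : G} (hl : l ∈ K₁) : Fixes l K₂ :=
  (H.w.comp H.f₂).fixes_of_mem (H.w.comp H.f₁) H.ne.symm hl

/-- (F1) for `K₂` at an involution of `K₁`: the pump-up is trivial -/
theorem exists_tv {l : G} (hl : l ∈ K₁) (ho : orderOf l = 2) : ∃ M, Fm l M ∧ Tv a l K₂ M := by
  obtain ⟨N, hN, h | h⟩ := H.w.up H.f₂ ho (H.ca hl) (H.fix₂ hl)
  · exact ⟨N, hN, H.w.tv H.f₂ hN (H.ca hl) (H.fix₂ hl) h.1 h.2⟩
  · exact absurd (H.one (Or.inl hl) ho (H.w.cjm hN (H.ca hl).symm) hN) h.1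

theorem tv {l : G} (hl : l ∈ K₁) (ho : orderOf l = 2) {M : Subgroup G} (hM : Fm l M) :
    Tv a l K₂ M := by
  obtain ⟨M', h1, h2⟩ := H.exists_tv hl ho
  rw [H.one (Or.inl hl) ho hM h1]
  exact h2

/-- an involution `e` acting trivially on `K₂` as soon as an involution `l ∈ K₁` commuting with it moves or fixes
a member of `U(e)` -/
theorem fixes_or {l e : G} {M : Subgroup G} (hl : l ∈ K₁) (ho : orderOf l = 2) (hea : e * a = a * e)
    (hle : l * e = e * l) (hM : Fm e M) (h : Fixes l M ∨ cj l M ≠ M) : Fixes e K₂ := by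
  rcases h with h | h
  · obtain ⟨N, hN, h1 | h1⟩ := H.w.up hM ho hle h
    · exact (H.tv hl ho hN).symm.fixes_of hle.symm hea h1.1
    · exact absurd (H.one (Or.inl hl) ho (H.w.cjm hN hle.symm) hN) h1.1
  · obtain ⟨N, hN, h1 | h1⟩ := H.w.dp hM ho hle h
    · exact (H.tv hl ho hN).symm.fixes_of hle.symm hea h1.1
    · exact absurd (H.one (Or.inl hl) ho (H.w.cjm hN hle.symm) hN) h1.1

theorem acts {l e : G} {M : Subgroup G} (hl : l ∈ K₁) (ho : orderOf l = 2) (hea : e * a = a * e)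
    (hle : l * e = e * l) (hM : Fm e M) (hn : ¬ Fixes e K₂) :
    l ∈ normalizer (M : Set G) ∧ ¬ Fixes l M := by
  rw [mem_normalizer_iff_cj]
  constructor
  · by_contra h
    exact hn (H.fixes_or hl ho hea hle hM (Or.inr h))
  · exact fun h => hn (H.fixes_or hl ho hea hle hM (Or.inl h))

omit H in
theorem inv_cases {x : G} (hxx : x * x = 1) : x = 1 ∨ orderOf x = 2 := by
  by_cases h : x = 1
  · exact Or.inl h
  · exact Or.inr (orderOf_eq_prime (by rw [pow_two, hxx]) h)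

/-- a dihedral subgroup of `K₁` commuting with `e` normalizes the members of `U(e)` -/
theorem le_norm {e : G} {M X : Subgroup G} (hX : X ≤ K₁) (d : Nonempty (↥X ≃* DihedralGroup 4))
    (hc : ∀ x ∈ X, x * e = e * x) (hea : e * a = a * e) (hM : Fm e M) (hn : ¬ Fixes e K₂) :
    X ≤ normalizer (M : Set G) := by
  obtain ⟨d⟩ := d
  have key : ∀ p ∈ X, p * p = 1 → p ∈ normalizer (M : Set G) := by
    intro p hp hpp
    rcases inv_cases hpp with rfl | h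
    · exact one_mem _
    · exact (H.acts (hX hp) h hea (hc p hp) hM hn).1
  intro x hx
  obtain ⟨p, hp, q, hq, hpp, hqq, rfl⟩ := exists_two_inv d hx
  exact mul_mem (key p hp hpp) (key q hq hqq)

theorem exists_XX {e : G} (hee : e * e = 1)
    (h1 : e ∈ normalizer (K₁ : Set G)) (h2 : e ∈ normalizer (K₂ : Set G)) :
    ∃ X₁ X₂, XX K₁ K₂ e X₁ X₂ := by
  obtain ⟨E, hE⟩ : ∃ E, E = centralizer ({a} : Set G) ⊓ centralizer ({e} : Set G) ⊓
      (normalizer (K₁ : Set G) ⊓ normalizer (K₂ : Set G)) := ⟨_, rfl⟩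
  have c1 := H.w.comp H.f₁
  have c2 := H.w.comp H.f₂
  have hK1 : K₁ ⊓ centralizer ({e} : Set G) ≤ E := by
    rw [hE]
    rintro y ⟨hy, hye⟩
    exact ⟨⟨c1.le hy, hye⟩, le_normalizer hy, (H.fix₂ hy).1⟩
  have hK2 : K₂ ⊓ centralizer ({e} : Set G) ≤ E := by
    rw [hE]
    rintro y ⟨hy, hye⟩
    exact ⟨⟨c2.le hy, hye⟩, (H.symm.fix₂ hy).1, le_normalizer hy⟩
  have hn1 : E ≤ normalizer ((K₁ ⊓ centralizer ({e} : Set G) : Subgroup G) : Set G) := by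
    intro y hy
    rw [hE] at hy
    rw [mem_normalizer_iff_cj, cj_inf, mem_normalizer_iff_cj.mp hy.2.1, cj_eq_self_of_mem hy.1.2]
  have hn2 : E ≤ normalizer ((K₂ ⊓ centralizer ({e} : Set G) : Subgroup G) : Set G) := by
    intro y hy
    rw [hE] at hy
    rw [mem_normalizer_iff_cj, cj_inf, mem_normalizer_iff_cj.mp hy.2.2, cj_eq_self_of_mem hy.1.2]
  obtain ⟨T, hT, -⟩ := exists_isSyl (E := E) (R₀ := ⊥) (IsPGroup.of_bot) bot_le
  have s1 := hT.inf hK1 hn1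
  have s2 := hT.inf hK2 hn2
  obtain ⟨M₁⟩ := H.w.lab H.f₁
  obtain ⟨M₂⟩ := H.w.lab H.f₂
  have t1 := isSyl_of_cen M₁ h1 hee s1
  have t2 := isSyl_of_cen M₂ h2 hee s2
  refine ⟨_, _, t1.le, t2.le, syl_dih M₁ t1, syl_dih M₂ t2, syl_eightS M₁ t1, syl_eightS M₂ t2,
    fun x hx => comm_c hx.2.2, fun x hx => comm_c hx.2.2, fun x hx y hy => ?_⟩
  have h3 : ⁅x, y⁆ ∈ core K₁ :=
    (c1.comm_le_core c2 H.ne (commutator_mem_commutator (t1.le hx) (t2.le hy))).1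
  have h4 : ⁅x, y⁆ ∈ T := by
    rw [commutatorElement_def]
    exact mul_mem (mul_mem (mul_mem hx.1 hy.1) (inv_mem hx.1)) (inv_mem hy.1)
  exact commutatorElement_eq_one_iff_mul_comm.1 (eq_one_of_core hT.two h4 h3)

/-- no involution `e ∈ J` of `C(a)` acts non-trivially on both `K₁` and `K₂` -/
theorem fixes_one_of {e : G} {M : Subgroup G} (hea : e * a = a * e) (hM : Fm e M)
    (h1 : e ∈ normalizer (K₁ : Set G)) (h2 : e ∈ normalizer (K₂ : Set G)) :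
    Fixes e K₁ ∨ Fixes e K₂ := by
  by_contra hcon
  push Not at hcon
  obtain ⟨n1, n2⟩ := hcon
  obtain ⟨X₁, X₂, X⟩ := H.exists_XX (H.w.sq hM) h1 h2
  have l1 := H.le_norm X.le₁ X.d₁ X.c₁ hea hM n2
  have l2 := H.symm.le_norm X.le₂ X.d₂ X.c₂ hea hM n1
  obtain ⟨z₁, E₁⟩ := X.e₁
  obtain ⟨z₂, E₂⟩ := X.e₂
  obtain ⟨A⟩ := H.w.lab hM
  obtain ⟨u, hu, huu, hu1, hf⟩ := exists_fixing A E₁ E₂ l1 l2 X.comm
  have ho : orderOf u = 2 := orderOf_eq_prime (by rw [pow_two, huu]) hu1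
  rcases hu with hu | hu
  · exact (H.acts (X.le₁ hu) ho hea (X.c₁ u hu) hM n2).2 hf
  · exact (H.symm.acts (X.le₂ hu) ho hea (X.c₂ u hu) hM n1).2 hf

/-- (CM) for `c = 2`: an involution `y ∈ F(b)`, `|U(b)| = 2`: the pump-ups are trivial and different -/
theorem cm_aux {b y : G} {B₁ B₂ : Subgroup G} (h₁ : Fm b B₁) (h₂ : Fm b B₂) (hne : B₁ ≠ B₂)
    (hy : y ∈ FS Fm b) (ho : orderOf y = 2) : ∃ N, Fm y N ∧ Tv b y B₁ N := by
  obtain ⟨hyb, hyf⟩ := mem_FS.1 hy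
  have hyy := sq_of_order ho
  obtain ⟨N₁, hN₁, t1 | t1⟩ := H.w.up h₁ ho hyb (hyf _ h₁)
  · exact ⟨N₁, hN₁, H.w.tv h₁ hN₁ hyb (hyf _ h₁) t1.1 t1.2⟩
  exfalso
  have hN₁' := H.w.cjm hN₁ hyb.symm
  have hbi : cj b (cj b N₁) = N₁ := by rw [← cj_mul, H.w.sq h₁, cj_one]
  obtain ⟨N₂, hN₂, t2⟩ := H.w.up h₂ ho hyb (hyf _ h₂)
  have h3 := H.le2 hN₁' hN₁ hN₂ t1.1
  have c1 := (isComp_cen (H.w.comp h₁) (mem_c hyb) hyy (hyf _ h₁)).1
  rcases t2 with t2 | t2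
  · have h4 := mem_normalizer_iff_cj.1 t2.1.1
    rcases h3 with rfl | rfl
    · rw [hbi] at h4
      exact t1.1 h4.symm
    · exact t1.1 h4
  · have h5 : diag (centralizer ({y} : Set G)) N₂ b = diag (centralizer ({y} : Set G)) N₁ b := by
      rcases h3 with rfl | rfl
      · have h6 := cj_diag b (centralizer ({y} : Set G)) N₁ b
        rw [cj_eq_self_of_mem (mem_c hyb.symm), mul_inv_cancel_right] at h6
        rw [← h6, ← t1.2]
        exact mem_normalizer_iff_cj.1 (mem_normalizer_cen (H.w.fixes_self h₁).1 hyb.symm)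
      · rfl
    have h6 : cen B₂ y = cen B₁ y := by rw [t2.2, t1.2, h5]
    exact hne (c1.unique (H.w.comp h₁) (H.w.comp h₂) (cen_le _ _) (by rw [← h6]; exact cen_le _ _))

/-- (CM) for `c = 2` -/
theorem cm {b y : G} {B₁ B₂ : Subgroup G} (h₁ : Fm b B₁) (h₂ : Fm b B₂) (hne : B₁ ≠ B₂)
    (hy : y ∈ FS Fm b) (ho : orderOf y = 2) :
    ∃ N₁ N₂, Fm y N₁ ∧ Fm y N₂ ∧ N₁ ≠ N₂ ∧ Tv b y B₁ N₁ ∧ Tv b y B₂ N₂ := by
  obtain ⟨N₁, a1, t1⟩ := H.cm_aux h₁ h₂ hne hy ho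
  obtain ⟨N₂, a2, t2⟩ := H.cm_aux h₂ h₁ hne.symm hy ho
  refine ⟨N₁, N₂, a1, a2, ?_, t1, t2⟩
  rintro rfl
  have h3 := t1.cen_eq
  rw [t2.cen_eq] at h3
  have hyb := (mem_FS.1 hy).1
  have c1 := (isComp_cen (H.w.comp h₁) (mem_c hyb) (sq_of_order ho) ((mem_FS.1 hy).2 _ h₁)).1
  exact hne (c1.unique (H.w.comp h₁) (H.w.comp h₂) (cen_le _ _) (by rw [← h3]; exact cen_le _ _))

/-- `U(l)` has one member for the involutions `l` of `K₁`: these do not lie in `F(b)`, `|U(b)| = 2` -/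
theorem not_mem_FS {b l : G} {B₁ B₂ : Subgroup G} (h₁ : Fm b B₁) (h₂ : Fm b B₂) (hne : B₁ ≠ B₂)
    (hl : l ∈ K₁ ∨ l ∈ K₂) (ho : orderOf l = 2) : l ∉ FS Fm b := by
  intro hy
  obtain ⟨N₁, N₂, a1, a2, a3, -⟩ := H.cm h₁ h₂ hne hy ho
  exact a3 (H.one hl ho a1 a2)

/-- an involution `e` of `C(a)` with `|U(e)| = 2` normalizing `K₁`, `K₂` and fixing `K₁` fixes `K₂` -/
theorem fixes_both {e : G} {B₁ B₂ : Subgroup G} (hea : e * a = a * e) (hb₁ : Fm e B₁)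
    (hb₂ : Fm e B₂) (hB : B₁ ≠ B₂) (hf : Fixes e K₁) (h2 : e ∈ normalizer (K₂ : Set G)) :
    Fixes e K₂ := by
  by_contra hn
  have hee := H.w.sq hb₁
  have ho := H.w.two hb₁
  obtain ⟨X₁, X₂, X⟩ := H.exists_XX hee hf.1 h2
  obtain ⟨N, hN, t | t⟩ := H.w.up H.f₁ ho hea hf
  · -- the other member of `U(e)`
    obtain ⟨N', hN', hne⟩ : ∃ N', Fm e N' ∧ N' ≠ N := by
      by_cases h : B₁ = N
      · exact ⟨B₂, hb₂, fun h' => hB (h.trans h'.symm)⟩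
      · exact ⟨B₁, hb₁, h⟩
    obtain ⟨z, E⟩ := X.e₁
    have hz2 : orderOf z = 2 := orderOf_eq_prime (by rw [pow_two, E.sq]) E.ne
    have hzN : z ∈ N := t.2 (mem_cen_of_sq (X.le₁ E.mem) (X.c₁ z E.mem) E.sq)
    have hf' : Fixes z N' := (H.w.comp hN').fixes_of_mem (H.w.comp hN) hne hzN
    exact hn (H.fixes_or (X.le₁ E.mem) hz2 hea (X.c₁ z E.mem) hN' (Or.inl hf'))
  · have hN' := H.w.cjm hN hea.symm
    obtain ⟨z, E⟩ := X.e₂
    obtain ⟨p, hp, hpp⟩ : ∃ p ∈ X₂, p * p = z := by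
      by_contra hcon
      push Not at hcon
      have h3 : ∀ p ∈ X₂, p * p = 1 := fun p hp => (E.pow p hp).resolve_right (hcon p hp)
      obtain ⟨p, hp, q, hq, hpq⟩ := E.nab
      apply hpq
      have h4 := h3 _ (mul_mem hp hq)
      have h5 : p⁻¹ = p := inv_eq_of_mul_eq_one_left (h3 p hp)
      have h6 : q⁻¹ = q := inv_eq_of_mul_eq_one_left (h3 q hq)
      have h7 : (p * q)⁻¹ = p * q := inv_eq_of_mul_eq_one_left h4
      rw [← h7, mul_inv_rev, h5, h6]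
    have hpa : p * a = a * p := H.symm.ca (X.le₂ hp)
    have hpe := X.c₂ p hp
    have hpK : Fixes p K₁ := H.symm.fix₂ (X.le₂ hp)
    have h3 := Mu.cj_or H.aa hea (H.w.comp hN) t.1 t.2 hpK.1 hpe hpa
    have h4 : cj z N = N := by
      rw [← hpp, cj_mul]
      rcases h3 with h3 | h3
      · rw [h3, h3]
      · rw [h3, ← cj_mul, hpa, cj_mul, h3, ← cj_mul, H.aa, cj_one]
    have hza : z * a = a * z := H.symm.ca (X.le₂ E.mem)
    have hze := X.c₂ z E.mem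
    have h5 : Fixes z N := Mu.fixes_of_diag (H.w.comp H.f₁) H.aa hee hea hf (H.w.comp hN) t.1 t.2
      (H.symm.fix₂ (X.le₂ E.mem)) hze hza (mem_normalizer_iff_cj.2 h4)
    have h6 : Fixes z (cj a N) := by
      have h7 := h5.cj a
      rwa [← hza, mul_inv_cancel_right] at h7
    have hz2 : orderOf z = 2 := orderOf_eq_prime (by rw [pow_two, E.sq]) E.ne
    refine H.not_mem_FS hN' hN t.1 (Or.inr (X.le₂ E.mem)) hz2 (mem_FS.2 ⟨hze, fun L hL => ?_⟩)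
    rcases H.le2 hN' hN hL t.1 with rfl | rfl
    · exact h6
    · exact h5

end W2

end Cfsg.Agent.UGT.A7.BW
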