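import Cfsg.Agent.UGT.A7.B.Tv
import Cfsg.Agent.UGT.Q2.DiagConj
import Cfsg.Agent.UGT.TMCSyl
import Cfsg.Agent.UGT.Tri

/-!
# [A7], beta-branch, World 2 (#14403): basic facts

`Wo Fm`: the properties of the family of the pairs `(s, K)` used here.
-/

set_option autoImplicit false
set_option linter.unusedSectionVars false

open Cfsg Subgroup Equiv Equiv.Perm
open Cfsg.Agent.UAlt
open Cfsg.Agent.SignalizersComponents Cfsg.Agent.Lib
open Cfsg.Agent.SignalizersComponents.IntrinsicBasic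
open Cfsg.Agent.Intrinsic.Basic Cfsg.Agent.Intrinsic.Cen Cfsg.Agent.Intrinsic.Diag
open Cfsg.Agent.McLLyComp.Act
open Cfsg.Agent.UGT.Triple Cfsg.Agent.UGT.TriBase
open scoped commutatorElement

namespace Cfsg.Agent.UGT.A7.BW

universe u

variable {G : Type u} [Group G] [Finite G]

/-! ### general facts -/

/-- a subnormal subgroup meets a Sylow subgroup in a Sylow subgroup -/
theorem inf_subnormal {E R K : Subgroup G} (h : IsSyl E R) (hK : K ≤ E)
    (hs : (K.subgroupOf E).IsSubnormal) : IsSyl K (R ⊓ K) := by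
  obtain ⟨K', hK'⟩ : ∃ K', K' = K.subgroupOf E := ⟨_, rfl⟩
  have hKm : K = K'.map E.subtype := by
    rw [hK', subgroupOf_map_subtype, inf_of_le_left hK]
  rw [← hK'] at hs
  clear hK'
  subst hKm
  clear hK
  induction hs with
  | top =>
    rw [← MonoidHom.range_eq_map, range_subtype, inf_of_le_left h.le]
    exact h
  | step A B hAB _ hN ih =>
    have h1 : A.map E.subtype ≤ B.map E.subtype := Subgroup.map_mono hAB
    have h2 := ih.inf h1 (by
      rintro _ ⟨b, hb, rfl⟩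
      rw [mem_normalizer_iff]
      have key : ∀ c ∈ B, ∀ n, n ∈ A.map E.subtype → (E.subtype c) * n * (E.subtype c)⁻¹ ∈
          A.map E.subtype := by
        rintro c hc _ ⟨m, hm, rfl⟩
        have h3 := hN.conj_mem (⟨m, hAB hm⟩ : ↥B) hm ⟨c, hc⟩
        exact ⟨_, h3, rfl⟩
      intro n
      refine ⟨key b hb n, fun h3 => ?_⟩
      have h4 := key b⁻¹ (inv_mem hb) _ h3
      have h5 : E.subtype b⁻¹ * (E.subtype b * n * (E.subtype b)⁻¹) * (E.subtype b⁻¹)⁻¹ = n := by
        rw [map_inv]; group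
      rwa [h5] at h4)
    rwa [inf_assoc, inf_of_le_right h1] at h2

/-- all involutions of `M` commuting with a 2-element `x` fixing `M / O(M)` are conjugate under `C_M(x)` -/
theorem conj_inv {M : Subgroup G} (A : Lab M) {x : G} {n : ℕ} (hx : x ^ 2 ^ n = 1) (hf : Fixes x M)
    {m m' : G} (hm : m ∈ M) (hm' : m' ∈ M) (hmm : m * m = 1) (hmm' : m' * m' = 1) (h1 : m ≠ 1)
    (h1' : m' ≠ 1) (hmx : m * x = x * m) (hmx' : m' * x = x * m') :
    ∃ h ∈ M, h * x = x * h ∧ h * m' * h⁻¹ = m := by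
  have hφx : A.φ x = 1 := (A.fixes_iff hf.1).2 hf
  have key : ∀ k ∈ M, k * k = 1 → k ≠ 1 → A.φ k ≠ 1 := by
    intro k hk hkk hk1 hφ
    rw [A.core_iff k hk] at hφ
    exact hk1 (eq_one_of_mem_core_sq hφ hkk)
  have hN := le_normalizer (H := M)
  -- the labels are conjugate in `A₇`
  have r1 : StdAlt.Roots.IsRoot (A.φ m) := by
    refine Star.isRoot_of_even (A.sq (hN hm) hmm) (key m hm hmm h1) ?_
    have := A.mem_alt m hm
    rwa [alt_univ] at this
  have r2 : StdAlt.Roots.IsRoot (A.φ m') := by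
    refine Star.isRoot_of_even (A.sq (hN hm') hmm') (key m' hm' hmm' h1') ?_
    have := A.mem_alt m' hm'
    rwa [alt_univ] at this
  obtain ⟨c, hc⟩ := StdAlt.Closing.isConj_roots (by norm_num)
    (a := (⟨A.φ m', by
      have := A.mem_alt m' hm'
      rwa [alt_univ] at this⟩ : alternatingGroup (Fin 7)))
    (b := (⟨A.φ m, by
      have := A.mem_alt m hm
      rwa [alt_univ] at this⟩ : alternatingGroup (Fin 7))) r2 r1
  have hc' : (c : Perm (Fin 7)) * A.φ m' * (c : Perm (Fin 7))⁻¹ = A.φ m := congrArg Subtype.val hc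
  obtain ⟨k, hk, hkx, hkc⟩ := A.exists_comm_lift hf.1 hx (σ := (c : Perm (Fin 7))) (by
    rw [alt_univ]; exact c.2) (by rw [hφx, one_mul, mul_one])
  obtain ⟨s, hs⟩ : ∃ s, s = k * m' * k⁻¹ := ⟨_, rfl⟩
  have hsM : s ∈ M := by rw [hs]; exact M.mul_mem (M.mul_mem hk hm') (M.inv_mem hk)
  have hss : s * s = 1 := by
    rw [hs]
    calc k * m' * k⁻¹ * (k * m' * k⁻¹) = k * (m' * m') * k⁻¹ := by group
      _ = 1 := by rw [hmm', mul_one, mul_inv_cancel]
  have hC : ∀ {y : G}, y * x = x * y ↔ y ∈ centralizer ({x} : Set G) :=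
    fun {y} => ⟨mem_c, comm_c⟩
  have hsx : s ∈ centralizer ({x} : Set G) := by
    rw [hs]
    exact mul_mem (mul_mem (hC.1 hkx.symm) (hC.1 hmx')) (inv_mem (hC.1 hkx.symm))
  have hφs : A.φ s = A.φ m := by rw [hs, A.conj (hN hk) (hN hm'), hkc, hc']
  have hsm : s * m ∈ core M := by
    rw [← A.core_iff _ (M.mul_mem hsM hm), A.mul _ _ (hN hsM) (hN hm), hφs, ← A.mul _ _ (hN hm) (hN hm),
      hmm, A.one]
  obtain ⟨h, hh, hsh⟩ := Q2.DiagConj.conj_of_odd (N := core M ⊓ centralizer ({x} : Set G))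
    (Odd.of_dvd_nat (odd_card_core M) (card_dvd_of_le inf_le_left)) hss hmm
    ⟨hsm, mul_mem hsx (hC.1 hmx)⟩
  refine ⟨h * k, M.mul_mem (core_le M hh.1) hk, ?_, ?_⟩
  · exact hC.2 (mul_mem hh.2 (hC.1 hkx.symm))
  · rw [← hsh, hs]; group

/-- every element of a dihedral group of order 8 is a product of two elements of order `≤ 2` -/
theorem exists_two_inv {X : Subgroup G} (e : ↥X ≃* DihedralGroup 4) {x : G} (hx : x ∈ X) :
    ∃ p ∈ X, ∃ q ∈ X, p * p = 1 ∧ q * q = 1 ∧ x = p * q := by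
  have key : ∀ y : DihedralGroup 4, ∃ p q : DihedralGroup 4, p * p = 1 ∧ q * q = 1 ∧ y = p * q := by
    decide
  obtain ⟨p, q, hp, hq, hpq⟩ := key (e ⟨x, hx⟩)
  refine ⟨e.symm p, (e.symm p).2, e.symm q, (e.symm q).2, ?_, ?_, ?_⟩
  · have h1 : e.symm p * e.symm p = 1 := by rw [← map_mul, hp, map_one]
    exact congrArg Subtype.val h1
  · have h1 : e.symm q * e.symm q = 1 := by rw [← map_mul, hq, map_one]
    exact congrArg Subtype.val h1
  · have h1 : (⟨x, hx⟩ : ↥X) = e.symm p * e.symm q := by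
      rw [← map_mul, ← hpq, e.symm_apply_apply]
    exact congrArg Subtype.val h1

/-! ### the family -/

/-- the properties of the family of the pairs `(s, K)` used in World 2 -/
structure Wo (Fm : G → Subgroup G → Prop) : Prop where
  two : ∀ {s K}, Fm s K → orderOf s = 2
  comp : ∀ {s K}, Fm s K → IsComp (centralizer ({s} : Set G)) K
  lab : ∀ {s K}, Fm s K → Nonempty (Lab K)
  conj : ∀ {s K} (g : G), Fm s K → Fm (g * s * g⁻¹) (cj g K)
  up : ∀ {s t K}, Fm s K → orderOf t = 2 → t * s = s * t → Fixes t K →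
    ∃ N, Fm t N ∧ ((Fixes s N ∧ cen K t ≤ N) ∨
      (cj s N ≠ N ∧ cen K t = diag (centralizer ({t} : Set G)) N s))
  dp : ∀ {f e M}, Fm f M → orderOf e = 2 → e * f = f * e → cj e M ≠ M →
    ∃ N, Fm e N ∧ ((Fixes f N ∧ diag (centralizer ({f} : Set G)) M e ≤ N) ∨
      (cj f N ≠ N ∧ diag (centralizer ({f} : Set G)) M e = diag (centralizer ({e} : Set G)) N f))

/-- the elements of `C(s)` fixing all members of `U(s)` -/
def FS (Fm : G → Subgroup G → Prop) (s : G) : Subgroup G where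
  carrier := {g | g * s = s * g ∧ ∀ L, Fm s L → Fixes g L}
  mul_mem' := by
    rintro g h ⟨h1, h2⟩ ⟨h3, h4⟩
    exact ⟨by rw [mul_assoc, h3, ← mul_assoc, h1, mul_assoc], fun L hL => fixes_mul (h2 L hL) (h4 L hL)⟩
  one_mem' := ⟨by rw [one_mul, mul_one], fun L _ => fixes_one L⟩
  inv_mem' := by
    rintro g ⟨h1, h2⟩
    refine ⟨?_, fun L hL => fixes_inv (h2 L hL)⟩
    rw [inv_mul_eq_iff_eq_mul, ← mul_assoc, h1, mul_inv_cancel_right]

theorem mem_FS {Fm : G → Subgroup G → Prop} {s g : G} :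
    g ∈ FS Fm s ↔ g * s = s * g ∧ ∀ L, Fm s L → Fixes g L := Iff.rfl

namespace Wo

variable {Fm : G → Subgroup G → Prop} (W : Wo Fm)

include W

theorem sq {s : G} {K : Subgroup G} (h : Fm s K) : s * s = 1 := sq_of_order (W.two h)

theorem ne {s : G} {K : Subgroup G} (h : Fm s K) : s ≠ 1 := ne_one_of_order (W.two h)

theorem cjm {s g : G} {K : Subgroup G} (h : Fm s K) (hg : g * s = s * g) : Fm s (cj g K) := by
  have h1 := W.conj g h
  rwa [hg, mul_inv_cancel_right] at h1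

theorem tv {s t : G} {K N : Subgroup G} (h : Fm s K) (h' : Fm t N) (hts : t * s = s * t)
    (hf : Fixes t K) (hs : Fixes s N) (hle : cen K t ≤ N) : Tv s t K N :=
  ⟨W.comp h, W.comp h', W.sq h, W.sq h', hts, hf, hs, hle⟩

/-- an involution of `K` does not fix `K` -/
theorem not_fixes {s : G} {K : Subgroup G} (h : Fm s K) {l : G} (hl : l ∈ K) (hll : l * l = 1)
    (h1 : l ≠ 1) : ¬ Fixes l K := by
  obtain ⟨M⟩ := W.lab h
  intro hf
  have h2 := (M.fixes_iff (le_normalizer hl)).2 hf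
  rw [M.core_iff l hl] at h2
  exact h1 (eq_one_of_mem_core_sq h2 hll)

/-- the members of `U(t)` are determined by what they contain -/
theorem fixes_self {s : G} {K : Subgroup G} (h : Fm s K) : Fixes s K := fixes_self' (W.comp h).le

/-- conjugation of `FS` -/
theorem cj_FS (g s : G) : cj g (FS Fm s) = FS Fm (g * s * g⁻¹) := by
  ext y
  rw [mem_cj, mem_FS, mem_FS]
  constructor
  · rintro ⟨h1, h2⟩
    refine ⟨?_, fun L hL => ?_⟩
    · calc y * (g * s * g⁻¹) = g * ((g⁻¹ * y * g) * s) * g⁻¹ := by group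
        _ = g * (s * (g⁻¹ * y * g)) * g⁻¹ := by rw [h1]
        _ = _ := by group
    · have h3 := W.conj g⁻¹ hL
      have h4 : g⁻¹ * (g * s * g⁻¹) * g⁻¹⁻¹ = s := by group
      rw [h4] at h3
      have h5 := (h2 _ h3).cj g
      have h6 : cj g (cj g⁻¹ L) = L := by rw [← cj_mul, mul_inv_cancel, cj_one]
      rw [h6] at h5
      convert h5 using 1
      group
  · rintro ⟨h1, h2⟩
    refine ⟨?_, fun L hL => ?_⟩
    · calc (g⁻¹ * y * g) * s = g⁻¹ * (y * (g * s * g⁻¹)) * g := by group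
        _ = g⁻¹ * ((g * s * g⁻¹) * y) * g := by rw [h1]
        _ = _ := by group
    · have h5 := (h2 _ (W.conj g hL)).cj g⁻¹
      rw [cj_inv_cj] at h5
      convert h5 using 1
      group

end Wo

end Cfsg.Agent.UGT.A7.BW
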