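import Cfsg.Agent.UGT.A7.B.TwoSyl

/-!
# [A7], beta-branch, World 2 (#14403), (2), (3): `P₁ ∪ P₂` is strongly closed in `S`
-/

set_option autoImplicit false
set_option linter.unusedSectionVars false

open Cfsg Subgroup Equiv Equiv.Perm
open Cfsg.Agent.UAlt
open Cfsg.Agent.SignalizersComponents Cfsg.Agent.Lib
open Cfsg.Agent.SignalizersComponents.IntrinsicBasic
open Cfsg.Agent.Intrinsic.Basic Cfsg.Agent.Intrinsic.Cen Cfsg.Agent.Intrinsic.Diag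
open Cfsg.Agent.McLLyComp.Act
open Cfsg.Agent.UGT.Triple Cfsg.Agent.UGT.TriBase Cfsg.Agent.UGT.Tri
open scoped commutatorElement

namespace Cfsg.Agent.UGT.A7.BW

universe u

variable {G : Type u} [Group G] [Finite G]

/-- the conjugates of the involutions of `K₁`, `K₂` -/
def Dd (K₁ K₂ : Subgroup G) (e : G) : Prop :=
  ∃ g l : G, (l ∈ K₁ ∨ l ∈ K₂) ∧ orderOf l = 2 ∧ e = g * l * g⁻¹

theorem Dd.conj {K₁ K₂ : Subgroup G} {e : G} (h : Dd K₁ K₂ e) (g : G) : Dd K₁ K₂ (g * e * g⁻¹) := by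
  obtain ⟨k, l, hl, ho, rfl⟩ := h
  exact ⟨g * k, l, hl, ho, by group⟩

theorem Dd.symm {K₁ K₂ : Subgroup G} {e : G} (h : Dd K₁ K₂ e) : Dd K₂ K₁ e := by
  obtain ⟨k, l, hl, ho, rfl⟩ := h
  exact ⟨k, l, hl.symm, ho, rfl⟩

theorem orderOf_conj (g l : G) : orderOf (g * l * g⁻¹) = orderOf l := by
  rw [show g * l * g⁻¹ = MulAut.conj g l from rfl, MulEquiv.orderOf_eq]

theorem Dd.two {K₁ K₂ : Subgroup G} {e : G} (h : Dd K₁ K₂ e) : orderOf e = 2 := by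
  obtain ⟨k, l, -, ho, rfl⟩ := h
  rw [orderOf_conj, ho]

namespace W2

variable {Fm : G → Subgroup G → Prop} {a : G} {K₁ K₂ : Subgroup G} (H : W2 Fm a K₁ K₂)

include H

/-- `|U(e)| ≤ 1` for `e ∈ D` -/
theorem one_D {e : G} (he : Dd K₁ K₂ e) {M M' : Subgroup G} (h : Fm e M) (h' : Fm e M') : M = M' := by
  obtain ⟨g, l, hl, ho, rfl⟩ := he
  have h1 := H.w.conj g⁻¹ h
  have h2 := H.w.conj g⁻¹ h'
  have h3 : g⁻¹ * (g * l * g⁻¹) * g⁻¹⁻¹ = l := by group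
  rw [h3] at h1 h2
  exact cj_injective g⁻¹ (H.one hl ho h1 h2)

theorem fam_D {e : G} (he : Dd K₁ K₂ e) : ∃ M, Fm e M := by
  obtain ⟨g, l, hl, ho, rfl⟩ := he
  rcases hl with hl | hl
  · obtain ⟨M, hM, -⟩ := H.exists_tv hl ho
    exact ⟨_, H.w.conj g hM⟩
  · obtain ⟨M, hM, -⟩ := H.symm.exists_tv hl ho
    exact ⟨_, H.w.conj g hM⟩

/-- an involution of `cen K₂ l` -/
theorem exists_inv_cen {l : G} (hl : l ∈ K₁) (ho : orderOf l = 2) : ∃ m ∈ cen K₂ l, orderOf m = 2 := by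
  have hll := sq_of_order ho
  have h1 := (isComp_cen (H.w.comp H.f₂) (mem_c (H.ca hl)) hll (H.fix₂ hl)).1
  have : Fact (Nat.Prime 2) := ⟨Nat.prime_two⟩
  obtain ⟨m, hm⟩ := exists_prime_orderOf_dvd_card' 2 h1.even
  exact ⟨m, m.2, by rw [Subgroup.orderOf_coe]; exact hm⟩

theorem star_aux {l m : G} {M : Subgroup G} (hl : l ∈ K₁) (ho : orderOf l = 2) (hM : Fm l M)
    (hm : m ∈ M) (hm2 : orderOf m = 2) : Dd K₁ K₂ m ∧ ∃ N, Fm m N ∧ l ∈ N := by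
  obtain ⟨m', hm', ho'⟩ := H.exists_inv_cen hl ho
  have t := H.tv hl ho hM
  obtain ⟨A⟩ := H.w.lab hM
  obtain ⟨h, hh, -, hhm⟩ := conj_inv A (x := 1) (n := 0) (by simp) (fixes_one M) hm (t.le hm')
    (sq_of_order hm2) (sq_of_order ho') (ne_one_of_order hm2) (ne_one_of_order ho')
    (by rw [mul_one, one_mul]) (by rw [mul_one, one_mul])
  obtain ⟨N', hN', t'⟩ := H.symm.exists_tv (cen_le _ _ hm') ho'
  have hml := comm_of_mem_cen hm'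
  have hlN : l ∈ N' := t'.le (mem_cen_of_sq hl hml.symm (sq_of_order ho))
  have hhl : h * l = l * h := comm_c ((H.w.comp hM).le hh)
  refine ⟨⟨h, m', Or.inr (cen_le _ _ hm'), ho', hhm.symm⟩, cj h N', ?_, ?_⟩
  · rw [← hhm]
    exact H.w.conj h hN'
  · rw [mem_cj]
    have h1 : h⁻¹ * l * h = l := by rw [mul_assoc, ← hhl, inv_mul_cancel_left]
    rw [h1]
    exact hlN

/-- **(A1)** for `D` -/
theorem star {e m : G} {M : Subgroup G} (he : Dd K₁ K₂ e) (hM : Fm e M) (hm : m ∈ M)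
    (hm2 : orderOf m = 2) : Dd K₁ K₂ m ∧ ∃ N, Fm m N ∧ e ∈ N := by
  obtain ⟨g, l, hl, ho, rfl⟩ := he
  have h1 := H.w.conj g⁻¹ hM
  have h3 : g⁻¹ * (g * l * g⁻¹) * g⁻¹⁻¹ = l := by group
  rw [h3] at h1
  have h4 : g⁻¹ * m * g⁻¹⁻¹ ∈ cj g⁻¹ M := conj_mem_cj hm
  have h5 : orderOf (g⁻¹ * m * g⁻¹⁻¹) = 2 := by rw [orderOf_conj, hm2]
  have key : Dd K₁ K₂ (g⁻¹ * m * g⁻¹⁻¹) ∧ ∃ N, Fm (g⁻¹ * m * g⁻¹⁻¹) N ∧ l ∈ N := by
    rcases hl with hl | hl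
    · exact H.star_aux hl ho h1 h4 h5
    · obtain ⟨a1, a2⟩ := H.symm.star_aux hl ho h1 h4 h5
      exact ⟨a1.symm, a2⟩
  obtain ⟨k1, N, hN, hlN⟩ := key
  have h6 : g * (g⁻¹ * m * g⁻¹⁻¹) * g⁻¹ = m := by group
  refine ⟨?_, cj g N, ?_, conj_mem_cj hlN⟩
  · have := k1.conj g
    rwa [h6] at this
  · have := H.w.conj g hN
    rwa [h6] at this

/-! ### (2) -/

/-- an involution of the Sylow 2-subgroup `S ∩ K₂` -/
theorem exists_inv_syl {S : Subgroup G} (hS : IsSyl (centralizer ({a} : Set G)) S) :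
    ∃ m ∈ S ⊓ K₂, orderOf m = 2 := by
  have c2 := H.w.comp H.f₂
  have s2 := inf_subnormal hS c2.le c2.2.1
  obtain ⟨M₂⟩ := H.w.lab H.f₂
  obtain ⟨z, E⟩ := syl_eightS M₂ s2
  exact ⟨z, E.mem, orderOf_eq_prime (by rw [pow_two, E.sq]) E.ne⟩

omit H in
/-- elements of a 2-group `S` commute with the elements of `S ∩ K` they centralize modulo `O(K)` -/
theorem comm_of_fixes {S K : Subgroup G} (hS : IsPGroup 2 ↥S) {e y : G} (he : e ∈ S)
    (hf : Fixes e K) (hy : y ∈ K) (hyS : y ∈ S) : e * y = y * e := by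
  have h4 : ⁅e, y⁆ ∈ S := by
    rw [commutatorElement_def]
    exact S.mul_mem (S.mul_mem (S.mul_mem he hyS) (S.inv_mem he)) (S.inv_mem hyS)
  exact commutatorElement_eq_one_iff_mul_comm.1 (eq_one_of_core hS h4 (hf.2 y hy))

/-- `e ∈ D ∩ S` fixing `K₂` lies in `K₁` -/
theorem mem_of_fixes {S : Subgroup G} (hS : IsSyl (centralizer ({a} : Set G)) S) {e : G}
    (heS : e ∈ S) (he : Dd K₁ K₂ e) (hf : Fixes e K₂) : e ∈ K₁ := by
  have ho := he.two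
  have hea : e * a = a * e := comm_c (hS.le heS)
  obtain ⟨u, hu, hu2⟩ := H.exists_inv_syl hS
  have hue := comm_of_fixes hS.two heS hf hu.2 hu.1
  obtain ⟨N, hN, t | t⟩ := H.w.up H.f₂ ho hea hf
  · have huN : u ∈ N := t.2 (mem_cen_of_sq hu.2 hue.symm (sq_of_order hu2))
    obtain ⟨-, X, hX, heX⟩ := H.star he hN huN hu2
    exact (H.symm.tv hu.2 hu2 hX).mem_of heX hea (n := 1) (by rw [pow_one, pow_two, sq_of_order ho])
  · exact absurd (H.one_D he (H.w.cjm hN hea.symm) hN) t.1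

/-- **(2)** `D ∩ S ⊆ K₁ ∪ K₂` -/
theorem mem_of_D (hc : ∀ (f e : G) (M : Subgroup G), Fm f M → Dd K₁ K₂ e → e * f = f * e → cj e M = M)
    {S : Subgroup G} (hS : IsSyl (centralizer ({a} : Set G)) S) {e : G} (heS : e ∈ S)
    (he : Dd K₁ K₂ e) : e ∈ K₁ ∨ e ∈ K₂ := by
  have hea : e * a = a * e := comm_c (hS.le heS)
  have n1 := hc a e K₁ H.f₁ he hea
  have n2 := hc a e K₂ H.f₂ he hea
  rw [← mem_normalizer_iff_cj] at n1 n2
  obtain ⟨M, hM⟩ := H.fam_D he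
  rcases H.fixes_one_of hea hM n1 n2 with h | h
  · exact Or.inr (H.symm.mem_of_fixes hS heS he.symm h)
  · exact Or.inl (H.mem_of_fixes hS heS he h)

/-! ### (3) -/

omit H in
/-- property (π) of an element `x` with `x² ∈ D` -/
def Pi (Fm : G → Subgroup G → Prop) (K₁ K₂ : Subgroup G) (x : G) : Prop :=
  Dd K₁ K₂ (x * x) ∧ ∀ M, Fm (x * x) M → Fixes x M ∧ ∀ m ∈ M, orderOf m = 2 → m * x = x * m →
    ∀ N, Fm m N → x ∈ N

theorem Pi.cj {x : G} (h : Pi Fm K₁ K₂ x) (g : G) : Pi Fm K₁ K₂ (g * x * g⁻¹) := by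
  have h1 : g * x * g⁻¹ * (g * x * g⁻¹) = g * (x * x) * g⁻¹ := by group
  refine ⟨by rw [h1]; exact h.1.conj g, fun M hM => ?_⟩
  rw [h1] at hM
  have h2 := H.w.conj g⁻¹ hM
  have h3 : g⁻¹ * (g * (x * x) * g⁻¹) * g⁻¹⁻¹ = x * x := by group
  rw [h3] at h2
  obtain ⟨h4, h5⟩ := h.2 _ h2
  have h6 : IntrinsicBasic.cj g (IntrinsicBasic.cj g⁻¹ M) = M := by
    rw [← cj_mul, mul_inv_cancel, cj_one]
  refine ⟨?_, fun m hm ho hmx N hN => ?_⟩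
  · have h7 := h4.cj g
    rwa [h6] at h7
  · have h8 := h5 (g⁻¹ * m * g⁻¹⁻¹) (conj_mem_cj hm) (by rw [orderOf_conj, ho]) (by
      calc g⁻¹ * m * g⁻¹⁻¹ * x = g⁻¹ * (m * (g * x * g⁻¹)) * g := by group
        _ = g⁻¹ * (g * x * g⁻¹ * m) * g := by rw [hmx]
        _ = _ := by group) _ (H.w.conj g⁻¹ hN)
    rw [mem_cj, inv_inv] at h8
    exact h8

/-- (π) holds for `x ∈ K₁`, `x²` an involution -/
theorem pi_of {x : G} (hx : x ∈ K₁) (ho : orderOf (x * x) = 2) : Pi Fm K₁ K₂ x := by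
  have hxx : x * x ∈ K₁ := mul_mem hx hx
  have h4 : x ^ 2 ^ 2 = 1 := by
    have h1 := sq_of_order ho
    rw [show (2 : ℕ) ^ 2 = 2 + 2 by norm_num, pow_add, pow_two, h1]
  have hxl : x * (x * x) = x * x * x := by rw [mul_assoc]
  refine ⟨⟨1, x * x, Or.inl hxx, ho, by group⟩, fun M hM => ?_⟩
  have t := H.tv hxx ho hM
  have hf : Fixes x M := t.fixes_of (H.ca hx) hxl (H.fix₂ hx)
  refine ⟨hf, fun m hm hm2 hmx N hN => ?_⟩
  -- an involution `m'` of `K₂` commuting with `x`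
  obtain ⟨m', hm', hm'2, hm'x⟩ : ∃ m' ∈ K₂, orderOf m' = 2 ∧ m' * x = x * m' := by
    obtain ⟨A₂⟩ := H.w.lab H.f₂
    have hf2 := H.fix₂ hx
    have hφ := (A₂.fixes_iff hf2.1).2 hf2
    obtain ⟨k, hk, hkk, hxk, hφk⟩ := A₂.exists_inv_lift hf2.1 h4 (σ := z0) (by
      rw [alt_univ, mem_alternatingGroup]; decide) (by decide) (by rw [hφ, one_mul, mul_one])
    refine ⟨k, hk, orderOf_eq_prime (by rw [pow_two, hkk]) ?_, hxk.symm⟩
    rintro rfl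
    rw [A₂.one] at hφk
    exact absurd hφk (by decide)
  have hm'l : m' * (x * x) = x * x * m' := by
    rw [← mul_assoc, hm'x, mul_assoc, hm'x, ← mul_assoc]
  have hm'M : m' ∈ M := t.le (mem_cen_of_sq hm' hm'l (sq_of_order hm'2))
  obtain ⟨A⟩ := H.w.lab hM
  obtain ⟨h, hh, hhx, hhm⟩ := conj_inv A h4 hf hm hm'M (sq_of_order hm2) (sq_of_order hm'2)
    (ne_one_of_order hm2) (ne_one_of_order hm'2) hmx hm'x
  obtain ⟨N', hN', t'⟩ := H.symm.exists_tv hm' hm'2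
  have hxN : x ∈ N' := t'.le (mem_cen hx hm'x.symm h4)
  have h5 : Fm m (IntrinsicBasic.cj h N') := by
    rw [← hhm]
    exact H.w.conj h hN'
  have h6 : N = IntrinsicBasic.cj h N' := by
    refine H.one_D ⟨h, m', Or.inr hm', hm'2, hhm.symm⟩ hN h5
  rw [h6, mem_cj]
  have h7 : h⁻¹ * x * h = x := by rw [mul_assoc, ← hhx, inv_mul_cancel_left]
  rw [h7]
  exact hxN

/-- `w ∈ S` with (π), `w² ∈ K₁` -/
theorem mem_of_pi {S : Subgroup G} (hS : IsSyl (centralizer ({a} : Set G)) S) {w : G} (hwS : w ∈ S)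
    (hw : Pi Fm K₁ K₂ w) (hv : w * w ∈ K₁) : w ∈ K₁ := by
  have ho := hw.1.two
  obtain ⟨m, hm, hm2⟩ := H.exists_inv_syl hS
  obtain ⟨M, hM, t⟩ := H.exists_tv hv ho
  have hmv : w * w * m = m * (w * w) := comm_of_fixes hS.two (mul_mem hwS hwS) (H.fix₂ hv) hm.2 hm.1
  have hmM : m ∈ M := t.le (mem_cen_of_sq hm.2 hmv.symm (sq_of_order hm2))
  obtain ⟨hf, h1⟩ := hw.2 M hM
  have hwm := comm_of_fixes hS.two hwS hf hmM hm.1
  obtain ⟨N, hN, t'⟩ := H.symm.exists_tv hm.2 hm2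
  obtain ⟨n, hn⟩ := hS.two ⟨w, hwS⟩
  exact t'.mem_of (h1 m hmM hm2 hwm.symm N hN) (comm_c (hS.le hwS)) (n := n) (congrArg Subtype.val hn)

end W2

end Cfsg.Agent.UGT.A7.BW
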