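import Cfsg.Agent.UGT.A7.B.TwoClosed
import Cfsg.Agent.UGT.A7.B.Defs

/-!
# [A7], beta-branch, World 2 (#14403): the data for END2
-/

set_option autoImplicit false
set_option linter.unusedSectionVars false

open Cfsg Subgroup Equiv Equiv.Perm
open Cfsg.Agent.UAlt
open Cfsg.Agent.SignalizersComponents Cfsg.Agent.Lib
open Cfsg.Agent.SignalizersComponents.IntrinsicBasic
open Cfsg.Agent.Intrinsic.Basic Cfsg.Agent.Intrinsic.Cen Cfsg.Agent.Intrinsic.Diag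
open Cfsg.Agent.McLLyComp.Act
open Cfsg.Agent.UGT.Triple Cfsg.Agent.UGT.TriBase Cfsg.Agent.UGT.Tri
open scoped commutatorElement

namespace Cfsg.Agent.UGT.A7.BW

universe u

variable {G : Type u} [Group G] [Finite G]

/-- the input of END2 -/
structure EData (S P₁ P₂ : Subgroup G) : Prop where
  syl : IsSyl ⊤ S
  le₁ : P₁ ≤ S
  le₂ : P₂ ≤ S
  comm : ∀ x ∈ P₁, ∀ y ∈ P₂, x * y = y * x
  inf : P₁ ⊓ P₂ = ⊥
  perm : ∀ s ∈ S, (cj s P₁ = P₁ ∧ cj s P₂ = P₂) ∨ (cj s P₁ = P₂ ∧ cj s P₂ = P₁)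
  closed : ∀ x, x ∈ P₁ ∨ x ∈ P₂ → ∀ g : G, g * x * g⁻¹ ∈ S → g * x * g⁻¹ ∈ P₁ ∨ g * x * g⁻¹ ∈ P₂
  d₁ : Nonempty (↥P₁ ≃* DihedralGroup 4)
  d₂ : Nonempty (↥P₂ ≃* DihedralGroup 4)

namespace W2

variable {Fm : G → Subgroup G → Prop} {a : G} {K₁ K₂ : Subgroup G} (H : W2 Fm a K₁ K₂)

include H

/-- `C(a)` permutes `K₁`, `K₂` -/
theorem perm {s : G} (hs : s * a = a * s) :
    (cj s K₁ = K₁ ∧ cj s K₂ = K₂) ∨ (cj s K₁ = K₂ ∧ cj s K₂ = K₁) := by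
  have h1 := H.le2 H.f₁ H.f₂ (H.w.cjm H.f₁ hs) H.ne
  have h2 := H.le2 H.f₁ H.f₂ (H.w.cjm H.f₂ hs) H.ne
  rcases h1 with h1 | h1 <;> rcases h2 with h2 | h2
  · exact absurd (cj_injective s (h1.trans h2.symm)) H.ne
  · exact Or.inl ⟨h1, h2⟩
  · exact Or.inr ⟨h1, h2⟩
  · exact absurd (cj_injective s (h1.trans h2.symm)) H.ne

/-- an element of `K₁ ∪ K₂` of 2-power order is of order 1, 2 or its square is an involution of `K₁ ∪ K₂` -/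
theorem pow_cases {S : Subgroup G} (hS : IsSyl (centralizer ({a} : Set G)) S) {x : G} (hx : x ∈ S)
    (hK : x ∈ K₁) : x = 1 ∨ orderOf x = 2 ∨ orderOf (x * x) = 2 := by
  have c1 := H.w.comp H.f₁
  obtain ⟨M₁⟩ := H.w.lab H.f₁
  obtain ⟨z, E⟩ := syl_eightS M₁ (inf_subnormal hS c1.le c1.2.1)
  rcases E.pow x ⟨hx, hK⟩ with h | h
  · rcases inv_cases h with h | h
    · exact Or.inl h
    · exact Or.inr (Or.inl h)
  · right; right
    rw [h]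
    exact orderOf_eq_prime (by rw [pow_two, E.sq]) E.ne

theorem closed_aux (hc : ∀ (f e : G) (M : Subgroup G), Fm f M → Dd K₁ K₂ e → e * f = f * e → cj e M = M)
    {S : Subgroup G} (hS : IsSyl (centralizer ({a} : Set G)) S) {x : G} (hx : x ∈ S) (hK : x ∈ K₁)
    (g : G) (hg : g * x * g⁻¹ ∈ S) : g * x * g⁻¹ ∈ K₁ ∨ g * x * g⁻¹ ∈ K₂ := by
  rcases H.pow_cases hS hx hK with rfl | h | h
  · left
    rw [mul_one, mul_inv_cancel]
    exact one_mem _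
  · exact H.mem_of_D hc hS hg ⟨g, x, Or.inl hK, h, rfl⟩
  · have h1 := Pi.cj H (H.pi_of hK h) g
    rcases H.mem_of_D hc hS (mul_mem hg hg) h1.1 with h2 | h2
    · exact Or.inl (H.mem_of_pi hS hg h1 h2)
    · refine Or.inr (H.symm.mem_of_pi hS hg ?_ h2)
      exact ⟨h1.1.symm, h1.2⟩

/-- the data for END2 -/
theorem exists_data (hmax : ∀ (b : G) (B₁ B₂ : Subgroup G), Fm b B₁ → Fm b B₂ → B₁ ≠ B₂ →
      ∀ T T' : Subgroup G, IsSyl (centralizer ({a} : Set G)) T → IsSyl (centralizer ({b} : Set G)) T' →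
      Nat.card ↥(T' ⊓ FS Fm b) < Nat.card ↥(T ⊓ FS Fm a) ∨
        (Nat.card ↥(T' ⊓ FS Fm b) = Nat.card ↥(T ⊓ FS Fm a) ∧ Nat.card ↥T' ≤ Nat.card ↥T))
    (hc : ∀ (f e : G) (M : Subgroup G), Fm f M → Dd K₁ K₂ e → e * f = f * e → cj e M = M) :
    ∃ S P₁ P₂ : Subgroup G, EData S P₁ P₂ := by
  obtain ⟨T, hT, -⟩ := exists_isSyl (E := centralizer ({a} : Set G)) (R₀ := ⊥) (IsPGroup.of_bot) bot_le
  obtain ⟨S, hS, hTS⟩ := exists_isSyl (E := (⊤ : Subgroup G)) hT.two le_top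
  have h1 := H.syl hmax hT hS.two hTS
  subst h1
  have c1 := H.w.comp H.f₁
  have c2 := H.w.comp H.f₂
  obtain ⟨M₁⟩ := H.w.lab H.f₁
  obtain ⟨M₂⟩ := H.w.lab H.f₂
  have s1 := inf_subnormal hT c1.le c1.2.1
  have s2 := inf_subnormal hT c2.le c2.2.1
  refine ⟨T, T ⊓ K₁, T ⊓ K₂, hS, inf_le_left, inf_le_left, fun x hx y hy =>
    comm_of_fixes hT.two hx.1 (H.fix₂ hx.2) hy.2 hy.1, ?_, fun s hs => ?_, fun x hx g hg => ?_,
    syl_dih M₁ s1, syl_dih M₂ s2⟩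
  · rw [eq_bot_iff]
    rintro x ⟨⟨hxT, hx1⟩, ⟨-, hx2⟩⟩
    rw [mem_bot]
    by_contra hne
    obtain ⟨n, hn, hn1⟩ := exists_invol hT.two hxT hne
    exact H.w.not_fixes H.f₂ (pow_mem hx2 n) hn hn1 (H.fix₂ (pow_mem hx1 n))
  · have hsa : s * a = a * s := comm_c (hT.le hs)
    rw [cj_inf, cj_inf, cj_eq_self_of_mem hs]
    rcases H.perm hsa with ⟨h1, h2⟩ | ⟨h1, h2⟩
    · left; rw [h1, h2]; exact ⟨rfl, rfl⟩
    · right; rw [h1, h2]; exact ⟨rfl, rfl⟩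
  · rcases hx with hx | hx
    · rcases H.closed_aux hc hT hx.1 hx.2 g hg with h | h
      · exact Or.inl ⟨hg, h⟩
      · exact Or.inr ⟨hg, h⟩
    · rcases H.symm.closed_aux (fun f e M h1 h2 => hc f e M h1 h2.symm) hT hx.1 hx.2 g hg with h | h
      · exact Or.inr ⟨hg, h⟩
      · exact Or.inl ⟨hg, h⟩

end W2

end Cfsg.Agent.UGT.A7.BW
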