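import Cfsg.Agent.UGT.A7.B.TwoData
import Cfsg.Agent.UGT.A7.B.Basic

/-!
# [A7], beta-branch: World 2 (#14403)

`world2_of`: `World2 G` from (C2') and END2.
-/

set_option autoImplicit false
set_option linter.unusedSectionVars false

open Cfsg Subgroup Equiv Equiv.Perm
open Cfsg.Agent.UAlt
open Cfsg.Agent.SignalizersComponents Cfsg.Agent.Lib
open Cfsg.Agent.SignalizersComponents.IntrinsicBasic
open Cfsg.Agent.Intrinsic.Basic Cfsg.Agent.Intrinsic.Cen Cfsg.Agent.Intrinsic.Diag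
open Cfsg.Agent.McLLyComp.Act
open Cfsg.Agent.UGT.Triple Cfsg.Agent.UGT.TriBase Cfsg.Agent.UGT.Tri
open Cfsg.Agent.UGT.A7.B
open scoped commutatorElement

namespace Cfsg.Agent.UGT.A7.BW

universe u

variable {G : Type u} [Group G] [Finite G]

theorem wo_fam (hF : F1 G) (hD : DP G) : Wo (Fam (G := G)) where
  two := fun h => h.inv
  comp := fun h => h.comp
  lab := fun h => h.a7
  conj := fun g h => h.cj g
  up := by
    intro s t K h ho hts hf
    obtain ⟨N, hN, h1 | h1⟩ := hF s t K h ho hts hf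
    · exact ⟨N, hN, Or.inl ⟨h1.fix, h1.le⟩⟩
    · exact ⟨N, hN, Or.inr ⟨h1.ne, h1.eq⟩⟩
  dp := fun h ho hef hne => hD _ _ _ h ho hef hne

/-- **(C2')** for all `D` -/
def C2 (G : Type u) [Group G] [Finite G] : Prop := ∀ D : Set G, A1 D →
  ∀ (f e : G) (M : Subgroup G), Fam f M → e ∈ D → e * f = f * e → cj e M = M

theorem le_two {s : G} (h : {N | Fam s N}.ncard ≤ 2) {L₁ L₂ L₃ : Subgroup G} (h₁ : Fam s L₁)
    (h₂ : Fam s L₂) (h₃ : Fam s L₃) (hne : L₁ ≠ L₂) : L₃ = L₁ ∨ L₃ = L₂ := by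
  classical
  by_contra hcon
  push Not at hcon
  have h1 : ({L₁, L₂, L₃} : Set (Subgroup G)) ⊆ {N | Fam s N} := by
    rintro N (rfl | rfl | rfl)
    · exact h₁
    · exact h₂
    · exact h₃
  have h2 := Set.ncard_le_ncard h1 (Set.toFinite _)
  have h3 : ({L₁, L₂, L₃} : Set (Subgroup G)).ncard = 3 := by
    rw [Set.ncard_eq_three]
    exact ⟨L₁, L₂, L₃, hne, hcon.1.symm, hcon.2.symm, rfl⟩
  omega

theorem eq_two {s : G} (h : {N | Fam s N}.ncard ≤ 2) {L₁ L₂ : Subgroup G} (h₁ : Fam s L₁)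
    (h₂ : Fam s L₂) (hne : L₁ ≠ L₂) : {N | Fam s N}.ncard = 2 := by
  have h1 : ({L₁, L₂} : Set (Subgroup G)) ⊆ {N | Fam s N} := by
    rintro N (rfl | rfl)
    · exact h₁
    · exact h₂
  have h2 := Set.ncard_le_ncard h1 (Set.toFinite _)
  rw [Set.ncard_pair hne] at h2
  omega

theorem eq_of_one {s : G} (h : {N | Fam s N}.ncard = 1) {L₁ L₂ : Subgroup G} (h₁ : Fam s L₁)
    (h₂ : Fam s L₂) : L₁ = L₂ := by
  obtain ⟨N, hN⟩ := Set.ncard_eq_one.1 h
  have e1 : L₁ ∈ {N | Fam s N} := h₁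
  have e2 : L₂ ∈ {N | Fam s N} := h₂
  rw [hN] at e1 e2
  rw [Set.mem_singleton_iff.1 e1, Set.mem_singleton_iff.1 e2]

/-- (A1) for `D`, from World 2 -/
theorem a1_D {a : G} {K₁ K₂ : Subgroup G} (H : W2 (Fam (G := G)) a K₁ K₂) :
    A1 {e : G | Dd K₁ K₂ e} where
  conj := fun e he g => Dd.conj he g
  inv := fun e he => Dd.two he
  fam := fun e he => H.fam_D he
  mem := fun e he N hN m hm ho => (H.star he hN hm ho).1
  star := fun e he N hN m hm ho => by
    obtain ⟨-, X, hX, heX⟩ := H.star he hN hm ho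
    exact ⟨X, hX, heX⟩
  triv := fun e he N N' hN hN' hne => absurd (H.one_D he hN' hN) hne
  all := fun e he N hN m hm ho X hX => by
    obtain ⟨h1, Y, hY, heY⟩ := H.star he hN hm ho
    left
    rw [H.one_D h1 hX hY]
    exact heY

/-- **World 2** from (C2') and END2 -/
theorem world2_of (c2 : F1 G → WW G → DP G → C2 G)
    (hE : IsSimpleGroup G → ∀ S P₁ P₂ : Subgroup G, EData S P₁ P₂ → False) : World2 G := by
  intro hG hF hW hD a K₁ K₂ h₁ h₂ hne hle hone hmax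
  have H : W2 (Fam (G := G)) a K₁ K₂ :=
    { w := wo_fam hF hD
      f₁ := h₁
      f₂ := h₂
      ne := hne
      le2 := fun a1 a2 a3 a4 => le_two (hle _) a1 a2 a3 a4
      one := by
        intro l M M' hl ho hM hM'
        rcases hl with hl | hl
        · exact eq_of_one (hone K₁ (by simp) l hl ho) hM hM'
        · exact eq_of_one (hone K₂ (by simp) l hl ho) hM hM' }
  obtain ⟨S, P₁, P₂, hd⟩ := H.exists_data (by
      intro b B₁ B₂ hb₁ hb₂ hB T T' hT hT'
      exact hmax b (eq_two (hle b) hb₁ hb₂ hB) T T' (T ⊓ BW.FS Fam a) (T' ⊓ BW.FS Fam b) hT hT'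
        (fun q => Iff.rfl) (fun q => Iff.rfl))
    (fun f e M hM he hef => c2 hF hW hD _ (a1_D H) f e M hM he hef)
  exact hE hG S P₁ P₂ hd

end Cfsg.Agent.UGT.A7.BW
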