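import Cfsg.Agent.UGT.A7.B.TwoAct

/-!
# [A7], beta-branch, World 2 (#14403), (1): `T ∈ Syl₂(C(a))` is a Sylow 2-subgroup of `G`
-/

set_option autoImplicit false
set_option linter.unusedSectionVars false

open Cfsg Subgroup Equiv Equiv.Perm
open Cfsg.Agent.UAlt
open Cfsg.Agent.SignalizersComponents Cfsg.Agent.Lib
open Cfsg.Agent.SignalizersComponents.IntrinsicBasic
open Cfsg.Agent.Intrinsic.Basic Cfsg.Agent.Intrinsic.Cen Cfsg.Agent.Intrinsic.Diag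
open Cfsg.Agent.McLLyComp.Act
open Cfsg.Agent.UGT.Triple Cfsg.Agent.UGT.TriBase Cfsg.Agent.UGT.Tri
open scoped commutatorElement

namespace Cfsg.Agent.UGT.A7.BW

universe u

variable {G : Type u} [Group G] [Finite G]

/-- a 2-element `t ∉ T` normalizing `T` with `t² ∈ T` -/
theorem exists_sq_mem {S T : Subgroup G} (hS : IsPGroup 2 ↥S) (hTS : T ≤ S) (hne : T ≠ S) :
    ∃ t ∈ S, t ∈ normalizer (T : Set G) ∧ t ∉ T ∧ t * t ∈ T := by
  obtain ⟨t, htS, htN, htT, -⟩ := exists_normalizing hS hTS hne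
  obtain ⟨k, hk⟩ := hS ⟨t, htS⟩
  have hk' : t ^ 2 ^ k ∈ T := by
    have h1 : t ^ 2 ^ k = 1 := congrArg Subtype.val hk
    rw [h1]
    exact one_mem _
  clear hk
  induction k with
  | zero => exact absurd (by simpa using hk') htT
  | succ k ih =>
    by_cases h : t ^ 2 ^ k ∈ T
    · exact ih h
    · refine ⟨t ^ 2 ^ k, pow_mem htS _, pow_mem htN _, h, ?_⟩
      rwa [← pow_add, ← two_mul, ← pow_succ']

namespace W2

variable {Fm : G → Subgroup G → Prop} {a : G} {K₁ K₂ : Subgroup G} (H : W2 Fm a K₁ K₂)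

include H

/-- (i): an involution `b` moving `K₁` does not lie in a normal subgroup `Q'` of `T` with `Q' ≤ F(b)` -/
theorem not_swap {T Q : Subgroup G} {b : G} {B₁ B₂ : Subgroup G} (hT : IsSyl (centralizer ({a} : Set G)) T)
    (hb₁ : Fm b B₁) (hb₂ : Fm b B₂) (hB : B₁ ≠ B₂) (hbQ : b ∈ Q) (hQT : Q ≤ T)
    (hQn : T ≤ normalizer (Q : Set G)) (hQF : Q ≤ FS Fm b) : cj b K₁ = K₁ := by
  by_contra hne
  have c1 := H.w.comp H.f₁
  have hbT := hQT hbQ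
  have hba : b * a = a * b := comm_c (hT.le hbT)
  have hK₂ : cj b K₁ = K₂ := (H.le2 H.f₁ H.f₂ (H.w.cjm H.f₁ hba) H.ne).resolve_left hne
  have s1 := inf_subnormal hT c1.le c1.2.1
  obtain ⟨M₁⟩ := H.w.lab H.f₁
  obtain ⟨z, E⟩ := syl_eightS M₁ s1
  obtain ⟨p, hp, q, hq, hpq⟩ := E.nab
  have hcomm : ∀ x ∈ T ⊓ K₁, ∀ y ∈ T ⊓ K₂, x * y = y * x := by
    intro x hx y hy
    have h3 : ⁅x, y⁆ ∈ core K₁ :=
      (c1.comm_le_core (H.w.comp H.f₂) H.ne (commutator_mem_commutator hx.2 hy.2)).1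
    have h4 : ⁅x, y⁆ ∈ T := by
      rw [commutatorElement_def]
      exact mul_mem (mul_mem (mul_mem hx.1 hy.1) (inv_mem hx.1)) (inv_mem hy.1)
    exact commutatorElement_eq_one_iff_mul_comm.1 (eq_one_of_core hT.two h4 h3)
  have hconj : ∀ t ∈ T, ∀ y ∈ Q, t * y * t⁻¹ ∈ Q := fun t ht y hy =>
    (mem_normalizer_iff.1 (hQn ht) y).1 hy
  have hp' : b * p * b⁻¹ ∈ T ⊓ K₂ := by
    refine ⟨T.mul_mem (T.mul_mem hbT hp.1) (T.inv_mem hbT), ?_⟩
    rw [← hK₂]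
    exact conj_mem_cj hp.2
  obtain ⟨p', hp'd⟩ : ∃ p', p' = b * p * b⁻¹ := ⟨_, rfl⟩
  rw [← hp'd] at hp'
  obtain ⟨v, hv⟩ : ∃ v, v = p⁻¹ * p' := ⟨_, rfl⟩
  have hvQ : v ∈ Q := by
    have h1 := hconj p⁻¹ (inv_mem hp.1) b hbQ
    rw [inv_inv] at h1
    have h2 : v = (p⁻¹ * b * p) * b⁻¹ := by rw [hv, hp'd]; group
    rw [h2]
    exact mul_mem h1 (inv_mem hbQ)
  obtain ⟨w, hw⟩ : ∃ w, w = v * (q * v⁻¹ * q⁻¹) := ⟨_, rfl⟩
  have hwQ : w ∈ Q := by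
    rw [hw]
    exact mul_mem hvQ (hconj q hq.1 _ (inv_mem hvQ))
  have hw' : w = p⁻¹ * q * p * q⁻¹ := by
    have h1 := hcomm q hq p' hp'
    rw [hw, hv]
    calc p⁻¹ * p' * (q * (p⁻¹ * p')⁻¹ * q⁻¹) = p⁻¹ * (p' * q) * p'⁻¹ * p * q⁻¹ := by group
      _ = p⁻¹ * (q * p') * p'⁻¹ * p * q⁻¹ := by rw [h1]
      _ = _ := by group
  have hw1 : w ≠ 1 := by
    intro h
    apply hpq
    rw [hw'] at h
    calc p * q = p * (p⁻¹ * q * p * q⁻¹) * q := by rw [h, mul_one]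
      _ = q * p := by group
  have hwK : w ∈ K₁ := by
    rw [hw']
    exact mul_mem (mul_mem (mul_mem (inv_mem hp.2) hq.2) hp.2) (inv_mem hq.2)
  obtain ⟨n, hn, hn1⟩ := exists_invol hT.two (hQT hwQ) hw1
  have ho : orderOf (w ^ n) = 2 := orderOf_eq_prime (by rw [pow_two, hn]) hn1
  exact H.not_mem_FS hb₁ hb₂ hB (Or.inl (pow_mem hwK n)) ho (hQF (pow_mem hwQ n))

/-- **(1)** -/
theorem syl (hmax : ∀ (b : G) (B₁ B₂ : Subgroup G), Fm b B₁ → Fm b B₂ → B₁ ≠ B₂ →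
      ∀ T T' : Subgroup G, IsSyl (centralizer ({a} : Set G)) T → IsSyl (centralizer ({b} : Set G)) T' →
      Nat.card ↥(T' ⊓ FS Fm b) < Nat.card ↥(T ⊓ FS Fm a) ∨
        (Nat.card ↥(T' ⊓ FS Fm b) = Nat.card ↥(T ⊓ FS Fm a) ∧ Nat.card ↥T' ≤ Nat.card ↥T))
    {S T : Subgroup G} (hT : IsSyl (centralizer ({a} : Set G)) T) (hS : IsPGroup 2 ↥S) (hTS : T ≤ S) :
    T = S := by
  by_contra hne
  obtain ⟨t, htS, htN, htT, htt⟩ := exists_sq_mem hS hTS hne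
  have aa := H.aa
  obtain ⟨Q, hQ⟩ : ∃ Q, Q = T ⊓ FS Fm a := ⟨_, rfl⟩
  have hQT : Q ≤ T := hQ ▸ inf_le_left
  have hTt : cj t T = T := mem_normalizer_iff_cj.1 htN
  have hTF : ∀ y ∈ T, cj y (FS Fm a) = FS Fm a := by
    intro y hy
    have h1 : y * a = a * y := comm_c (hT.le hy)
    rw [H.w.cj_FS, h1, mul_inv_cancel_right]
  have hQn : T ≤ normalizer (Q : Set G) := by
    intro y hy
    rw [mem_normalizer_iff_cj, hQ, cj_inf, cj_eq_self_of_mem hy, hTF y hy]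
  have hQ'T : cj t Q ≤ T := by
    rw [← hTt]
    exact cj_mono hQT
  have hQ'n : T ≤ normalizer (cj t Q : Set G) := by
    intro y hy
    have h1 : t⁻¹ * y * t ∈ T := by
      rw [← hTt, mem_cj] at hy
      exact hy
    have h2 := mem_normalizer_iff_cj.1 (hQn h1)
    rw [mem_normalizer_iff_cj, ← cj_mul, show y * t = t * (t⁻¹ * y * t) by group, cj_mul, h2]
  have haT : a ∈ T := mem_of_comm hT (mem_centralizer_singleton_iff.2 rfl)
    (fun s hs => (comm_c (hT.le hs)).symm) aa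
  have haQ : a ∈ Q := by
    rw [hQ]
    exact ⟨haT, mem_FS.2 ⟨rfl, fun L hL => H.w.fixes_self hL⟩⟩
  by_cases hint : Q ⊓ cj t Q = ⊥
  · -- `b = t a t⁻¹`
    obtain ⟨b, hb⟩ : ∃ b, b = t * a * t⁻¹ := ⟨_, rfl⟩
    have hbQ : b ∈ cj t Q := hb ▸ conj_mem_cj haQ
    have hbT := hQ'T hbQ
    have hba : b * a = a * b := comm_c (hT.le hbT)
    have hb₁ : Fm b (cj t K₁) := hb ▸ H.w.conj t H.f₁
    have hb₂ : Fm b (cj t K₂) := hb ▸ H.w.conj t H.f₂
    have hB : cj t K₁ ≠ cj t K₂ := fun h => H.ne (cj_injective t h)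
    have hQF : cj t Q ≤ FS Fm b := by
      rw [hb, ← H.w.cj_FS]
      exact cj_mono (hQ ▸ inf_le_right)
    have hb1 : b ≠ 1 := H.w.ne hb₁
    have hbF : b ∉ FS Fm a := by
      intro h
      have h1 : b ∈ Q ⊓ cj t Q := ⟨by rw [hQ]; exact ⟨hbT, h⟩, hbQ⟩
      rw [hint] at h1
      exact hb1 (mem_bot.1 h1)
    have n1 := H.not_swap hT hb₁ hb₂ hB hbQ hQ'T hQ'n hQF
    have n2 := H.symm.not_swap hT hb₁ hb₂ hB hbQ hQ'T hQ'n hQF
    rw [← mem_normalizer_iff_cj] at n1 n2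
    apply hbF
    refine mem_FS.2 ⟨hba, ?_⟩
    have hboth : Fixes b K₁ ∧ Fixes b K₂ := by
      rcases H.fixes_one_of hba hb₁ n1 n2 with h | h
      · exact ⟨h, H.fixes_both hba hb₁ hb₂ hB h n2⟩
      · exact ⟨H.symm.fixes_both hba hb₁ hb₂ hB h n1, h⟩
    intro L hL
    rcases H.le2 H.f₁ H.f₂ hL H.ne with rfl | rfl
    · exact hboth.1
    · exact hboth.2
  · -- an involution of `Q ∩ Q^t` central in `T⟨t⟩`
    obtain ⟨T₁, hT₁⟩ : ∃ T₁, T₁ = T ⊔ zpowers t := ⟨_, rfl⟩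
    have hT₁S : T₁ ≤ S := by rw [hT₁]; exact sup_le hTS (zpowers_le.2 htS)
    have hTT₁ : T ≤ T₁ := by rw [hT₁]; exact le_sup_left
    have htT₁ : t ∈ T₁ := by rw [hT₁]; exact mem_sup_right (mem_zpowers t)
    have h2 : IsPGroup 2 ↥T₁ := hS.to_le hT₁S
    have hn : T₁ ≤ normalizer ((Q ⊓ cj t Q : Subgroup G) : Set G) := by
      rw [hT₁]
      refine sup_le ?_ ?_
      · intro y hy
        have h3 := mem_normalizer_iff_cj.1 (hQn hy)
        have h4 := mem_normalizer_iff_cj.1 (hQ'n hy)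
        rw [mem_normalizer_iff_cj, cj_inf, h3, h4]
      · rw [zpowers_le, mem_normalizer_iff_cj, cj_inf, ← cj_mul,
          mem_normalizer_iff_cj.1 (hQn htt), inf_comm]
    obtain ⟨e, he, ho, hcen⟩ := exists_central h2 ((inf_le_left.trans hQT).trans hTT₁) hn hint
    have heF : e ∈ FS Fm a := by
      have h3 := he.1
      rw [hQ] at h3
      exact h3.2
    obtain ⟨N₁, N₂, a1, a2, a3, t1, t2⟩ := H.cm H.f₁ H.f₂ H.ne heF ho
    have hT₁e : T₁ ≤ centralizer ({e} : Set G) := fun s hs => mem_c (hcen s hs)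
    obtain ⟨T', hT', hle⟩ := exists_isSyl h2 hT₁e
    have hQle : Q ≤ T' ⊓ FS Fm e := by
      intro q hq
      have hqT := hQT hq
      have hqe := hcen q (hTT₁ hqT)
      have hqa : q * a = a * q := comm_c (hT.le hqT)
      have hqF : q ∈ FS Fm a := by
        rw [hQ] at hq
        exact hq.2
      refine ⟨hle (hTT₁ hqT), mem_FS.2 ⟨hqe, fun L hL => ?_⟩⟩
      rcases H.le2 a1 a2 hL a3 with rfl | rfl
      · exact t1.fixes_of hqa hqe ((mem_FS.1 hqF).2 _ H.f₁)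
      · exact t2.fixes_of hqa hqe ((mem_FS.1 hqF).2 _ H.f₂)
    have hc1 : Nat.card ↥Q ≤ Nat.card ↥(T' ⊓ FS Fm e) := Subgroup.card_le_of_le hQle
    have hc2 : Nat.card ↥T < Nat.card ↥T' := by
      refine lt_of_lt_of_le ?_ (Subgroup.card_le_of_le hle)
      by_contra hcon
      push Not at hcon
      have h3 := Subgroup.eq_of_le_of_card_ge hTT₁ hcon
      exact htT (h3 ▸ htT₁)
    rcases hmax e N₁ N₂ a1 a2 a3 T T' hT hT' with h3 | h3
    · rw [← hQ] at h3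
      omega
    · omega

end W2

end Cfsg.Agent.UGT.A7.BW
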